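import Cfsg.Agent.Lib.Fi22Two.Cases
import Cfsg.Prelude.Def_Spor_Fi22

/-!
The statement from the two cases, with the facts on the conjugates over a transvection and on a complement
as arguments.
-/

set_option autoImplicit false
set_option linter.style.haveILetI false
set_option linter.unusedSectionVars false

namespace Cfsg.Agent.Fi22Two

open Subgroup LargeExtra
open scoped commutatorElement

universe u v w

/-- The facts on the conjugates over a transvection. -/
def SideFacts (G : Type u) [Group G] [Finite G] (z : G) (F : Type w) [Field F] [Fintype F] : Prop :=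
  ∀ (D : G) (_ : Two z D) [((zpowers D).subgroupOf (centralizer ({D} : Set G))).Normal] (K : Core z D),
    U62Aut.CenAut (K.proj z) F → ¬ Cfsg.IsIsolated (K.proj z) →
      (∀ g, Commute z g → Commute D g → g * g ∈ coreAt z → g ∉ coreAt z → (fx z D g).ncard = 256 →
        (Side z D g).ncard = 4) ∧
      ∃ y ∈ Cls z D, Commute z y ∧ y * y ∈ coreAt z ∧ y ∉ coreAt z ∧ (fx z D y).ncard = 256

/-- The facts on a complement. -/
def ComplementFacts (G : Type u) [Group G] [Finite G] (z : G) (F : Type w) [Field F] [Fintype F] : Prop :=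
  ∀ (a : G) (K : Core z a) [((zpowers a).subgroupOf (centralizer ({a} : Set G))).Normal],
    U62Rec.Hyp F (K.proj z) → ¬ Cfsg.IsIsolated (K.proj z) → ∀ U : Subgroup G, a ∉ U → (∀ u ∈ U, Commute a u) →
      (∀ c, Commute a c → c ∈ U ∨ a * c ∈ U) → (∀ c, Commute a c → ∀ u ∈ U, c * u * c⁻¹ ∈ U) → z ∈ U →
        Nonempty (Complement z a)

theorem main {G : Type u} [Group G] [Finite G] (z : G) (hz : orderOf z = 2)
    {F : Type w} [Field F] [Fintype F] (hF : Fintype.card F = 3) {L : Type v} [Field L] [Fintype L]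
    (hL : Fintype.card L = 4)
    (A E : Subgroup ↥(centralizer ({z} : Set G)))
    (hAE : Cfsg.IsInternalDirectProduct A E (Cfsg.pCore 2 ↥(centralizer ({z} : Set G)))) (hA : Nat.card ↥A = 2)
    (hE : Cfsg.IsExtraspecial 2 ↥E) (hEc : Nat.card ↥E = 2 ^ 9)
    (zc : ↥(centralizer ({z} : Set G))) (hzc : (zc : G) = z)
    (hJ' : ⁅Cfsg.pCore 2 ↥(centralizer ({z} : Set G)), Cfsg.pCore 2 ↥(centralizer ({z} : Set G))⁆ = zpowers zc)
    (hCJ : centralizer ((Cfsg.pCore 2 ↥(centralizer ({z} : Set G))) : Set ↥(centralizer ({z} : Set G))) ≤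
      Cfsg.pCore 2 ↥(centralizer ({z} : Set G)))
    [hJn : (Cfsg.pCore 2 ↥(centralizer ({z} : Set G))).Normal]
    (e : (↥(centralizer ({z} : Set G)) ⧸ Cfsg.pCore 2 ↥(centralizer ({z} : Set G))) ≃* MulAut (Cfsg.PSp 2 F))
    (hside : SideFacts G z F) (hcompl : ComplementFacts G z F) :
    centralizer ({z} : Set G) ⊔ Cfsg.oddCore G = ⊤ ∨
      (∃ z₁ : G, orderOf z₁ = 2 ∧ z₁ ∉ zpowers z ∧ (∃ h₁ : z₁ ∈ centralizer ({z} : Set G),
        (⟨z₁, h₁⟩ : ↥(centralizer ({z} : Set G))) ∈ Cfsg.pCore 2 ↥(centralizer ({z} : Set G)) ∧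
          ∀ j ∈ Cfsg.pCore 2 ↥(centralizer ({z} : Set G)), j * ⟨z₁, h₁⟩ = ⟨z₁, h₁⟩ * j) ∧ (zpowers z₁).Normal ∧
        ∃ (G₀ : Subgroup G) (_ : z₁ ∈ G₀), G₀.index = 2 ∧
          ∃ _ : ((zpowers z₁).subgroupOf G₀).Normal,
            Nonempty ((↥G₀ ⧸ (zpowers z₁).subgroupOf G₀) ≃* Cfsg.PSU 6 L 2)) ∨
      Cfsg.Spor.IsoFi22 G := by
  by_cases hiso : Cfsg.IsIsolated z
  · exact Or.inl (McLTwoA8.sup_oddCore_of_isolated z hz hiso)
  right
  obtain ⟨a, E', K, hE', hE'c, hle, haE, hazE⟩ := exists_core hz A E hAE hA hE hEc zc hzc hJ' hCJ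
  by_cases hcen : ∀ h, Commute z h → Commute a h
  · left
    obtain ⟨z₁, K₁, hn, G₀, hz₁, hidx, hn₀, hiso₀⟩ :=
      K.central_case e hE' hE'c hle haE hazE hF hcen hL hiso (fun D T _ K' => hside D T K')
    refine ⟨z₁, K₁.order_a, K₁.a_notMem_zpowers, ⟨coreAt_le z K₁.a_mem, mem_coreAt_iff.1 K₁.a_mem,
      fun j hj => Subtype.ext (K₁.a_central j (mem_coreAt_iff.2 hj)).eq.symm⟩, hn, G₀, hz₁, hidx, hn₀, hiso₀⟩
  · right
    push Not at hcen
    obtain ⟨t, htz, hta⟩ := hcen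
    exact K.swapped_case e hE' hE'c hle haE hazE hF
      ⟨t, htz, (K.swap htz).resolve_left fun h => hta (comm_of_conj h).symm⟩ hiso (hcompl a K)

end Cfsg.Agent.Fi22Two
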