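import Cfsg.Agent.Lib.Fi22Two.Coord
import Cfsg.Agent.Lib.U62Aut.Model.Crd
import Cfsg.Agent.Lib.U62Rec.Model.Crd

/-!
Coordinates on the core modulo the centre from coordinates at the image of `z` in the centraliser of `d`
modulo `d`.
-/

set_option autoImplicit false
set_option linter.style.haveILetI false
set_option linter.unusedSectionVars false

namespace Cfsg.Agent.Fi22Two

open Subgroup LargeExtra U62Rec.Model U62Aut

universe u

variable {G : Type u} [Group G] [Finite G] {z d : G} {X : Type u} [Group X]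

namespace Down

variable (D : Down z d X) (T : Two z d)

include D

theorem π_one : D.π 1 = 1 := by
  have h := D.π_mul 1 1 (Commute.one_right d) (Commute.one_right d)
  rw [one_mul] at h
  exact left_eq_mul.1 h

theorem π_inv {g : G} (hg : Commute d g) : D.π g⁻¹ = (D.π g)⁻¹ := by
  refine eq_inv_of_mul_eq_one_left ?_
  rw [← D.π_mul g⁻¹ g hg.inv_right hg, inv_mul_cancel, D.π_one]

theorem π_conj {g a : G} (hg : Commute d g) (ha : Commute d a) :
    D.π (g * a * g⁻¹) = D.π g * D.π a * (D.π g)⁻¹ := by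
  rw [D.π_mul _ _ (hg.mul_right ha) hg.inv_right, D.π_mul g a hg ha, D.π_inv hg]

theorem comm_π {g : G} (hz : Commute z g) (hd : Commute d g) : Commute (D.π z) (D.π g) := (D.π_comm g hd).2 hz

include T

theorem core_map {a : G} (ha : a ∈ coreAt z) : D.π a ∈ coreAt (D.π z) :=
  (D.π_core a (T.d_central a ha)).2 ha

theorem core_surj {x : X} (hx : x ∈ coreAt (D.π z)) : ∃ a ∈ coreAt z, D.π a = x := by
  obtain ⟨g, hg, rfl⟩ := D.π_surj x
  exact ⟨g, (D.π_core g hg).1 hx, rfl⟩

/-- Equality or congruence by the image of `z` against congruence modulo the centre. -/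
theorem fibre_iff {a b : G} (ha : a ∈ coreAt z) (hb : b ∈ coreAt z) :
    (D.π b = D.π a ∨ D.π b = D.π a * D.π z) ↔ a⁻¹ * b ∈ Zc z d := by
  have haz : Commute d (a * z) := T.d_central _ (mul_mem ha T.z_mem)
  rw [← D.π_mul a z (T.d_central a ha) (T.d_central z T.z_mem), eq_comm, @eq_comm _ (D.π b) (D.π (a * z)),
    D.π_eq a b (T.d_central a ha) (T.d_central b hb), D.π_eq (a * z) b haz (T.d_central b hb), mem_Zc,
    inv_mul_eq_one, inv_mul_eq_iff_eq_mul, inv_mul_eq_iff_eq_mul, inv_mul_eq_iff_eq_mul, mul_assoc a z d, T.zd.eq,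
    @eq_comm _ a b]
  tauto

theorem sq_iff {a : G} (ha : a ∈ coreAt z) : D.π a * D.π a = 1 ↔ a * a = 1 := by
  rw [← D.π_mul a a (T.d_central a ha) (T.d_central a ha), ← D.π_one,
    D.π_eq _ 1 (T.d_central _ (mul_mem ha ha)) (Commute.one_right d)]
  constructor
  · rintro (h | h)
    · exact h.symm
    · rcases T.sq a ha with e | e
      · exact e
      · rw [e] at h
        exact absurd (eq_inv_of_mul_eq_one_right h.symm) (by rw [T.z_inv]; exact T.d_ne_z)
  · exact fun h => Or.inl h.symm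

/-- Coordinates from the semilinear coordinates at the image. -/
theorem coord_aut [Finite X] (K : U62Aut.CrdA (D.π z)) :
    ∃ C : Coord z d, (∀ a ∈ coreAt z, C.nv a = K.nv (D.π a)) ∧
      ∀ g, Commute z g → Commute d g → C.lin g = K.lin (D.π g) := by
  refine ⟨{
    nv := fun a => K.nv (D.π a)
    lin := fun g => K.lin (D.π g)
    nv_mul := fun a ha b hb => ?_, nv_surj := fun v => ?_, nv_eq := fun a ha b hb => ?_
    nv_sq := fun a ha => ?_, lin_mul := fun g h hg hgd hh hhd => ?_, lin_one := fun g hg hd => ?_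
    lin_conj := fun g hg hd a ha => ?_, lin_surj := fun σ _ => ?_ }, fun a _ => rfl, fun g _ _ => rfl⟩
  · rw [D.π_mul a b (T.d_central a ha) (T.d_central b hb)]
    exact K.nv_mul _ (D.core_map T ha) _ (D.core_map T hb)
  · obtain ⟨x, hx, rfl⟩ := K.nv_surj v
    obtain ⟨a, ha, rfl⟩ := D.core_surj T hx
    exact ⟨a, ha, rfl⟩
  · exact (K.nv_eq _ (D.core_map T ha) _ (D.core_map T hb)).trans (D.fibre_iff T ha hb)
  · rw [← K.nv_sq _ (D.core_map T ha), D.sq_iff T ha]
  · rw [D.π_mul g h hgd hhd]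
    exact K.lin_mul _ _ (D.comm_π hg hgd) (D.comm_π hh hhd)
  · rw [K.lin_one _ (D.comm_π hg hd)]
    exact D.π_core g hd
  · rw [D.π_conj hd (T.d_central a ha)]
    exact K.lin_conj _ (D.comm_π hg hd) _ (D.core_map T ha)
  · obtain ⟨x, hx, rfl⟩ := K.lin_surj σ
    obtain ⟨g, hg, rfl⟩ := D.π_surj x
    exact ⟨g, (D.π_comm g hg).1 hx, hg, rfl⟩

/-- Coordinates from the linear coordinates at the image. -/
theorem coord_lin [Finite X] (K : U62Rec.Model.Crd (D.π z)) :
    ∃ C : Coord z d, (∀ a ∈ coreAt z, C.nv a = K.nv (D.π a)) ∧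
      (∀ g, Commute z g → Commute d g → (C.lin g).1 = (K.lin (D.π g)).1) ∧ ∀ g, (C.lin g).1 ∈ Lgrp := by
  refine ⟨{
    nv := fun a => K.nv (D.π a)
    lin := fun g => ⟨(K.lin (D.π g)).1, lin_le (K.lin (D.π g)).2⟩
    nv_mul := fun a ha b hb => ?_, nv_surj := fun v => ?_, nv_eq := fun a ha b hb => ?_
    nv_sq := fun a ha => ?_, lin_mul := fun g h hg hgd hh hhd => ?_, lin_one := fun g hg hd => ?_
    lin_conj := fun g hg hd a ha => ?_, lin_surj := fun σ hσ => ?_ },
    fun a _ => rfl, fun g _ _ => rfl, fun g => (K.lin (D.π g)).2⟩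
  · rw [D.π_mul a b (T.d_central a ha) (T.d_central b hb)]
    exact K.nv_mul _ (D.core_map T ha) _ (D.core_map T hb)
  · obtain ⟨x, hx, rfl⟩ := K.nv_surj v
    obtain ⟨a, ha, rfl⟩ := D.core_surj T hx
    exact ⟨a, ha, rfl⟩
  · exact (K.nv_eq _ (D.core_map T ha) _ (D.core_map T hb)).trans (D.fibre_iff T ha hb)
  · rw [← K.nv_sq _ (D.core_map T ha), D.sq_iff T ha]
  · refine Subtype.ext ?_
    show (K.lin (D.π (g * h))).1 = (K.lin (D.π g)).1 * (K.lin (D.π h)).1
    rw [D.π_mul g h hgd hhd, K.lin_mul _ _ (D.comm_π hg hgd) (D.comm_π hh hhd)]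
    rfl
  · rw [← D.π_core g hd, ← K.lin_one _ (D.comm_π hg hd)]
    exact ⟨fun h => Subtype.ext (congrArg (fun a : Agrp => a.1) h), fun h => Subtype.ext (by
      show (K.lin (D.π g)).1 = 1
      rw [h]; rfl)⟩
  · rw [D.π_conj hd (T.d_central a ha)]
    exact K.lin_conj _ (D.comm_π hg hd) _ (D.core_map T ha)
  · obtain ⟨x, hx, e⟩ := K.lin_surj ⟨σ.1, hσ⟩
    obtain ⟨g, hg, rfl⟩ := D.π_surj x
    exact ⟨g, (D.π_comm g hg).1 hx, hg, Subtype.ext (congrArg (fun a : Lgrp => a.1) e)⟩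

end Down

end Cfsg.Agent.Fi22Two
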