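import Cfsg.Agent.Lib.Fi22Two.Coord
import Cfsg.Agent.Lib.Fi22Two.Model.Facts

/-!
The finite facts of the natural module, moved from the model to the group through coordinates on the core
modulo the centre.
-/

set_option autoImplicit false
set_option linter.style.haveILetI false
set_option linter.unusedSectionVars false
set_option maxRecDepth 20000

namespace Cfsg.Agent.Fi22Two

open Subgroup LargeExtra U62Rec.Model U62Aut
open scoped commutatorElement

universe u

variable {G : Type u} [Group G] [Finite G] {z d : G}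

namespace Coord

variable (T : Two z d) (K : Coord z d)

include T

theorem nv_one : K.nv 1 = zeroV := by
  have := K.nv_mul 1 (one_mem _) 1 (one_mem _)
  rw [one_mul] at this
  rw [this, xorV_self]

theorem nv_inv {a : G} (ha : a ∈ coreAt z) : K.nv a⁻¹ = K.nv a := by
  have h := K.nv_mul a⁻¹ (inv_mem ha) a ha
  rw [inv_mul_cancel, nv_one T K] at h
  exact xorV_eq_zero h.symm

theorem nv_zero {a : G} (ha : a ∈ coreAt z) : K.nv a = zeroV ↔ a ∈ Zc z d := by
  rw [← nv_one T K, eq_comm, K.nv_eq 1 (one_mem _) a ha, inv_one, one_mul]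

theorem nv_bracket {g a : G} (hg : Commute z g) (hd : Commute d g) (ha : a ∈ coreAt z) :
    K.nv ⁅g, a⁆ = xorV (K.nv a) ((K.lin g).1 (K.nv a)) := by
  rw [commutatorElement_def, K.nv_mul _ (T.conj_mem_core hg ha) _ (inv_mem ha), nv_inv T K ha,
    K.lin_conj g hg hd a ha, U62Rec.Model.xorV_comm]

theorem bracket_iff {g a : G} (hg : Commute z g) (hd : Commute d g) (ha : a ∈ coreAt z) :
    ⁅g, a⁆ ∈ Zc z d ↔ (K.lin g).1 (K.nv a) = K.nv a := by
  rw [← nv_zero T K (T.bracket_mem hg ha), nv_bracket T K hg hd ha]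
  exact ⟨fun h => (xorV_eq_zero h).symm, fun h => by rw [h, xorV_self]⟩

theorem fx_eq {g : G} (hg : Commute z g) (hd : Commute d g) :
    fx z d g = {a | a ∈ coreAt z ∧ K.nv a ∈ fixV (K.lin g)} :=
  Set.ext fun a => and_congr_right fun ha => bracket_iff T K hg hd ha

theorem pre_ncard (S : Set Vec) : {a | a ∈ coreAt z ∧ K.nv a ∈ S}.ncard = 4 * S.ncard := by
  classical
  induction S, Set.toFinite S using Set.Finite.induction_on with
  | empty => simp
  | @insert v S hv hS ih =>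
    obtain ⟨b, hb, rfl⟩ := K.nv_surj v
    have hmem : ∀ {ζ : G}, ζ ∈ Zc z d → b * ζ ∈ coreAt z := fun hζ => mul_mem hb (T.Zc_mem hζ)
    have e : {a | a ∈ coreAt z ∧ K.nv a ∈ insert (K.nv b) S} =
        (fun ζ => b * ζ) '' Zc z d ∪ {a | a ∈ coreAt z ∧ K.nv a ∈ S} := by
      ext a
      simp only [Set.mem_ofPred_eq, Set.mem_insert_iff, Set.mem_union, Set.mem_image]
      constructor
      · rintro ⟨ha, h | h⟩
        · exact Or.inl ⟨b⁻¹ * a, (K.nv_eq b hb a ha).1 h.symm, by group⟩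
        · exact Or.inr ⟨ha, h⟩
      · rintro (⟨ζ, hζ, rfl⟩ | ⟨ha, h⟩)
        · exact ⟨hmem hζ, Or.inl ((K.nv_eq b hb _ (hmem hζ)).2 (by simpa using hζ)).symm⟩
        · exact ⟨ha, Or.inr h⟩
    have h4 : (Zc z d).ncard = 4 := by
      rw [Zc, Set.ncard_insert_of_notMem ?_ (Set.toFinite _), Set.ncard_insert_of_notMem ?_ (Set.toFinite _),
        Set.ncard_pair T.dz_ne_d.symm]
      · simp [T.d_ne_z.symm, T.dz_ne_z.symm]
      · simp [T.z_ne.symm, T.d_ne.symm, T.dz_ne_one.symm]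
    rw [e, Set.ncard_union_eq ?_ (Set.toFinite _) (Set.toFinite _),
      Set.ncard_image_of_injective _ (mul_right_injective b), h4, ih, Set.ncard_insert_of_notMem hv hS]
    · ring
    · rw [Set.disjoint_left]
      rintro a ⟨ζ, hζ, rfl⟩ ⟨ha', h⟩
      exact hv ((K.nv_eq b hb _ ha').2 (by simpa using hζ) ▸ h)

theorem fx_ncard {g : G} (hg : Commute z g) (hd : Commute d g) :
    (fx z d g).ncard = 4 * (fixV (K.lin g)).ncard := by
  rw [fx_eq T K hg hd, pre_ncard T K]

theorem inIm_iff {g m : G} (hg : Commute z g) (hd : Commute d g) (hm : m ∈ coreAt z) :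
    InIm z d g m ↔ K.nv m ∈ imV (K.lin g) := by
  constructor
  · rintro ⟨v, hv, h⟩
    refine ⟨K.nv v, ?_⟩
    show xorV (K.nv v) ((K.lin g).1 (K.nv v)) = K.nv m
    rw [← nv_bracket T K hg hd hv]
    exact (K.nv_eq _ (T.bracket_mem hg hv) m hm).2 h
  · rintro ⟨y, hy⟩
    obtain ⟨v, hv, rfl⟩ := K.nv_surj y
    refine ⟨v, hv, (K.nv_eq _ (T.bracket_mem hg hv) m hm).1 ?_⟩
    rw [nv_bracket T K hg hd hv]
    exact hy

theorem lin_inv {g : G} (hg : Commute z g) (hd : Commute d g) : K.lin g⁻¹ = (K.lin g)⁻¹ := by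
  refine eq_inv_of_mul_eq_one_left ?_
  rw [← K.lin_mul g⁻¹ g hg.inv_right hd.inv_right hg hd, inv_mul_cancel]
  exact (K.lin_one 1 (Commute.one_right z) (Commute.one_right d)).2 (one_mem _)

theorem lin_pow {g : G} (hg : Commute z g) (hd : Commute d g) (n : ℕ) : K.lin (g ^ n) = K.lin g ^ n := by
  induction n with
  | zero =>
    rw [pow_zero, pow_zero]
    exact (K.lin_one 1 (Commute.one_right z) (Commute.one_right d)).2 (one_mem _)
  | succ n ih => rw [pow_succ, pow_succ, K.lin_mul _ g (hg.pow_right n) (hd.pow_right n) hg hd, ih]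

theorem lin_bracket {g h : G} (hg : Commute z g) (hgd : Commute d g) (hh : Commute z h) (hhd : Commute d h) :
    ⁅g, h⁆ ∈ coreAt z ↔ Commute (K.lin g) (K.lin h) := by
  have c1 : Commute z ⁅g, h⁆ := ((hg.mul_right hh).mul_right hg.inv_right).mul_right hh.inv_right
  have c2 : Commute d ⁅g, h⁆ := ((hgd.mul_right hhd).mul_right hgd.inv_right).mul_right hhd.inv_right
  rw [← commutatorElement_eq_one_iff_commute, ← K.lin_one _ c1 c2, commutatorElement_def g h,
    K.lin_mul _ _ ((hg.mul_right hh).mul_right hg.inv_right) ((hgd.mul_right hhd).mul_right hgd.inv_right)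
      hh.inv_right hhd.inv_right,
    K.lin_mul _ _ (hg.mul_right hh) (hgd.mul_right hhd) hg.inv_right hgd.inv_right, K.lin_mul g h hg hgd hh hhd,
    lin_inv T K hg hgd, lin_inv T K hh hhd, commutatorElement_def]

theorem lin_div {g h : G} (hg : Commute z g) (hgd : Commute d g) (hh : Commute z h) (hhd : Commute d h) :
    g⁻¹ * h ∈ coreAt z ↔ K.lin g = K.lin h := by
  rw [← K.lin_one _ (hg.inv_right.mul_right hh) (hgd.inv_right.mul_right hhd),
    K.lin_mul _ _ hg.inv_right hgd.inv_right hh hhd, lin_inv T K hg hgd, inv_mul_eq_one]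

theorem lin_sq {g : G} (hg : Commute z g) (hd : Commute d g) :
    g * g ∈ coreAt z ↔ K.lin g * K.lin g = 1 := by
  rw [← K.lin_one _ (hg.mul_right hg) (hd.mul_right hd), K.lin_mul g g hg hd hg hd]

/-- A class of size 256 is that of a transvection. -/
theorem tv_iff {g : G} (hg : Commute z g) (hd : Commute d g) (h2 : g * g ∈ coreAt z) (hJ : g ∉ coreAt z) :
    (fx z d g).ncard = 256 ↔ ∃ p, K.lin g = tvA p := by
  rw [fx_ncard T K hg hd]
  constructor
  · intro h
    rcases inv_shape ((lin_sq T K hg hd).1 h2) (fun e => hJ ((K.lin_one g hg hd).1 e)) with hp | ⟨h16, -⟩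
    · exact hp
    · omega
  · rintro ⟨p, hp⟩
    rw [hp, (tv_shape p).1]

theorem exists_tv {g : G} (hg : Commute z g) (hd : Commute d g) (h2 : g * g ∈ coreAt z)
    (h256 : (fx z d g).ncard = 256) : ∃ p, K.lin g = tvA p := by
  refine (tv_iff T K hg hd h2 fun hgJ => ?_).1 h256
  rw [fx_ncard T K hg hd, (K.lin_one g hg hd).2 hgJ] at h256
  have hu : fixV (1 : Agrp) = Set.univ := Set.eq_univ_of_forall fun v => rfl
  rw [hu, Set.ncard_univ, Nat.card_eq_fintype_card, Fintype.card_fin] at h256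
  omega

theorem fix_of_fx {s t : G} (hsz : Commute z s) (hsd : Commute d s) (htz : Commute z t) (htd : Commute d t)
    (h : ∀ m ∈ fx z d s, m * m = 1 → ⁅t, m⁆ ∈ Zc z d) :
    ∀ v ∈ fixV (K.lin s), q0 v = 0 → (K.lin t).1 v = v := by
  intro v hv hq
  obtain ⟨m, hm, rfl⟩ := K.nv_surj v
  exact (bracket_iff T K htz htd hm).1
    (h m ⟨hm, (bracket_iff T K hsz hsd hm).2 hv⟩ ((K.nv_sq m hm).2 hq))

/-- The elements inducing linear maps. -/
def innSub : Subgroup G where
  carrier := {g | Commute z g ∧ Commute d g ∧ (K.lin g).1 ∈ Lgrp}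
  one_mem' := ⟨Commute.one_right z, Commute.one_right d, by
    rw [(K.lin_one 1 (Commute.one_right z) (Commute.one_right d)).2 (one_mem _)]; exact one_mem _⟩
  mul_mem' := fun {g h} hg hh => ⟨hg.1.mul_right hh.1, hg.2.1.mul_right hh.2.1, by
    rw [K.lin_mul g h hg.1 hg.2.1 hh.1 hh.2.1]; exact mul_mem hg.2.2 hh.2.2⟩
  inv_mem' := fun {g} hg => ⟨hg.1.inv_right, hg.2.1.inv_right, by
    rw [lin_inv T K hg.1 hg.2.1]; exact inv_mem hg.2.2⟩

/-- The facts of the natural module. -/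
theorem natural : ∃ N : Natural z d, ∀ g, g ∈ N.inn ↔ Commute z g ∧ Commute d g ∧ (K.lin g).1 ∈ Lgrp := by
  classical
  have hout : ∀ {g}, Commute z g → Commute d g → g ∉ innSub T K → (K.lin g).1 ∉ Lgrp :=
    fun hg hd h h' => h ⟨hg, hd, h'⟩
  refine ⟨{
    inn := innSub T K
    inn_z := fun g hg => hg.1
    inn_d := fun g hg => hg.2.1
    core_le := fun a ha => ⟨T.comm_z ha, T.d_central a ha, by
      rw [(K.lin_one a (T.comm_z ha) (T.d_central a ha)).2 ha]; exact one_mem _⟩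
    inn_mul := fun g h hg hgd hh hhd hgn hhn => ⟨hg.mul_right hh, hgd.mul_right hhd, by
      rw [K.lin_mul g h hg hgd hh hhd]
      exact outer_mul (K.lin g).2 (K.lin h).2 (hout hg hgd hgn) (hout hh hhd hhn)⟩
    shape := ?_, tv_two := ?_, tv_odd := ?_, good_odd := ?_, outer_pair := ?_ }, fun g => Iff.rfl⟩
  · intro g hg hd h2 hJ
    rw [fx_ncard T K hg hd]
    rcases inv_shape ((lin_sq T K hg hd).1 h2) (fun e => hJ ((K.lin_one g hg hd).1 e)) with
      ⟨p, hp⟩ | ⟨h16, heq, hq⟩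
    · left
      rw [hp, (tv_shape p).1]
    · refine Or.inr ⟨by rw [h16], fun m hm => ?_, fun hgi m hm => ?_⟩
      · rw [inIm_iff T K hg hd hm.1, ← heq]
        exact (bracket_iff T K hg hd hm.1).1 hm.2
      · exact (K.nv_sq m hm.1).2 (hq hgi.2.2 _ ((bracket_iff T K hg hd hm.1).1 hm.2))
  · intro g h hg hgd hh hhd hg2 hh2 hhJ hne h256
    obtain ⟨p, hp⟩ := exists_tv T K hg hgd hg2 h256
    have h1 : K.lin h ≠ 1 := fun e => hhJ ((K.lin_one h hh hhd).1 e)
    have h2 : K.lin h ≠ tvA p := fun e => hne ((lin_div T K hg hgd hh hhd).2 (hp.trans e.symm))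
    have hle := tv_two (p := p) ((lin_sq T K hh hhd).1 hh2) h1 h2
    have e : fx z d g ∩ fx z d h = {a | a ∈ coreAt z ∧ K.nv a ∈ fixV (K.lin g) ∩ fixV (K.lin h)} := by
      rw [fx_eq T K hg hgd, fx_eq T K hh hhd]
      ext a
      simp only [Set.mem_inter_iff, Set.mem_ofPred_eq]
      tauto
    rw [e, pre_ncard T K, hp]
    omega
  · intro g hg hgd hg2 h256
    obtain ⟨p, hp⟩ := exists_tv T K hg hgd hg2 h256
    obtain ⟨σ, κ, hσL, hκL, hσ3, hκ3, hσp, hκp, hσκ, hfix, himg, hfree⟩ := tv_odd p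
    obtain ⟨x, hx, hxd, hxe⟩ := K.lin_surj σ hσL
    obtain ⟨k, hk, hkd, hke⟩ := K.lin_surj κ hκL
    refine ⟨x, ⟨hx, hxd, hxe ▸ hσL⟩, k, ⟨hk, hkd, hke ▸ hκL⟩, ?_, ?_, ?_, ?_, ?_, ?_, ?_, ?_⟩
    · exact (K.lin_one _ (hx.pow_right 3) (hxd.pow_right 3)).1 (by rw [lin_pow T K hx hxd, hxe, hσ3])
    · exact (K.lin_one _ (hk.pow_right 3) (hkd.pow_right 3)).1 (by rw [lin_pow T K hk hkd, hke, hκ3])
    · rw [lin_bracket T K hx hxd hg hgd, hxe, hp]; exact hσp
    · rw [lin_bracket T K hk hkd hg hgd, hke, hp]; exact hκp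
    · rw [lin_bracket T K hx hxd hk hkd, hxe, hke]; exact hσκ
    · intro v hv
      rw [bracket_iff T K hx hxd (T.bracket_mem hg hv), hxe, nv_bracket T K hg hgd hv, hp]
      exact hfix _ ⟨K.nv v, rfl⟩
    · intro m hm hxm
      rw [inIm_iff T K hg hgd hm.1, hp]
      refine himg _ ?_ ?_
      · rw [← hp]; exact (bracket_iff T K hg hgd hm.1).1 hm.2
      · rw [← hxe]; exact (bracket_iff T K hx hxd hm.1).1 hxm
    · intro v hv hkv
      have hgv := T.bracket_mem hg hv
      refine (nv_zero T K hgv).1 (hfree _ ?_ ?_)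
      · rw [nv_bracket T K hg hgd hv, hp]; exact ⟨K.nv v, rfl⟩
      · rw [← hke]; exact (bracket_iff T K hk hkd hgv).1 hkv
  · intro s t hs hs2 hsJ h64 htz htd ht2 hfx
    obtain ⟨hsz, hsd, hsL⟩ := hs
    have hs1 : K.lin s ≠ 1 := fun e => hsJ ((K.lin_one s hsz hsd).1 e)
    have hno : ∀ p, K.lin s ≠ tvA p := fun p e => by
      rw [fx_ncard T K hsz hsd, e, (tv_shape p).1] at h64
      omega
    have hfix : ∀ v ∈ fixV (K.lin s), (K.lin t).1 v = v := by
      intro v hv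
      obtain ⟨m, hm, rfl⟩ := K.nv_surj v
      exact (bracket_iff T K htz htd hm).1 (hfx m ⟨hm, (bracket_iff T K hsz hsd hm).2 hv⟩)
    rcases Fi22Two.good_odd hsL ((lin_sq T K hsz hsd).1 hs2) hs1 hno ((lin_sq T K htz htd).1 ht2) hfix with
      h | h | ⟨⟨p, hp⟩, q, hq⟩ | ⟨σ, hσL, hσ3, hσs, hσt⟩
    · exact Or.inl ((K.lin_one t htz htd).1 h)
    · exact Or.inr (Or.inl ((lin_div T K hsz hsd htz htd).2 h.symm))
    · refine Or.inr (Or.inr (Or.inl ⟨?_, ?_⟩))
      · rw [fx_ncard T K htz htd, hp, (tv_shape p).1]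
      · rw [fx_ncard T K (hsz.mul_right htz) (hsd.mul_right htd), K.lin_mul s t hsz hsd htz htd, hq, (tv_shape q).1]
    · obtain ⟨x, hx, hxd, rfl⟩ := K.lin_surj σ hσL
      refine Or.inr (Or.inr (Or.inr ⟨x, ⟨hx, hxd, hσL⟩, ?_, ?_, ?_⟩))
      · exact (K.lin_one _ (hx.pow_right 3) (hxd.pow_right 3)).1 (by rw [lin_pow T K hx hxd, hσ3])
      · exact (lin_bracket T K hx hxd hsz hsd).2 hσs
      · exact fun e => hσt ((lin_bracket T K hx hxd htz htd).1 e)
  · intro s t hsz hsd htz htd hsn htn hs2 ht2 hst h h'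
    exact (lin_div T K hsz hsd htz htd).2 (Fi22Two.outer_pair (hout hsz hsd hsn) (hout htz htd htn)
      ((lin_sq T K hsz hsd).1 hs2) ((lin_sq T K htz htd).1 ht2) ((lin_bracket T K hsz hsd htz htd).1 hst)
      (fix_of_fx T K hsz hsd htz htd h) (fix_of_fx T K htz htd hsz hsd h'))

end Coord

end Cfsg.Agent.Fi22Two
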