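import Cfsg.Agent.Lib.Fi22Two.InstPlane
import Cfsg.Agent.Lib.U62Rec.Red.Final
import Cfsg.Agent.Lib.Fi22Two.Model.Singular

/-!
The facts in the case of a fixed plane from the space with a fixed plane on which the symplectic group acts.
-/

set_option autoImplicit false
set_option linter.style.haveILetI false
set_option linter.unusedSectionVars false
set_option maxRecDepth 20000

namespace Cfsg.Agent.Fi22Two

open Subgroup LargeExtra U62Rec.Model U62Rec.Model.Forced
open scoped commutatorElement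

universe u

variable {X : Type u} [Group X] [Finite X] {y : X} {V : Type u} [AddCommGroup V] (S : Space y V)

/-- Two distinct non-zero vectors of the fixed plane. -/
theorem plane_pair {u : Fin 3 → V} (P : Space.Planes S u) {v w : V} (hv : v ∈ U S.gen 0) (hw : w ∈ U S.gen 0)
    (hv0 : v ≠ 0) (hw0 : w ≠ 0) (hne : v ≠ w) :
    S.B v w = 1 ∧ ∀ x ∈ U S.gen 0, x = 0 ∨ x = v ∨ x = w ∨ x = v + w := by
  haveI := S.finite
  have e3 : v + w ≠ 0 := fun e => hne (by rw [add_eq_zero_iff_eq_neg, S.neg_eq] at e; exact e)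
  have hset : ({0, v, w, v + w} : Set V) = (U S.gen 0 : Set V) := by
    refine Set.eq_of_subset_of_ncard_le ?_ ?_
    · rintro x (rfl | rfl | rfl | rfl)
      exacts [zero_mem _, hv, hw, add_mem hv hw]
    · have h4 : (U S.gen 0 : Set V).ncard = 4 := P.card_zero
      rw [h4, Set.ncard_insert_of_notMem (by simp [Ne.symm hv0, Ne.symm hw0, Ne.symm e3]),
        Set.ncard_insert_of_notMem (by simp [hne, hw0]), Set.ncard_pair (by simp [hv0])]
  have hall : ∀ x ∈ U S.gen 0, x = 0 ∨ x = v ∨ x = w ∨ x = v + w := fun x hx => by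
    have : x ∈ ({0, v, w, v + w} : Set V) := by rw [hset]; exact hx
    exact this
  refine ⟨(Space.z2_cases _).resolve_left fun h0 => ?_, hall⟩
  obtain ⟨x, hx, hb⟩ := P.nd_zero hv hv0
  rcases hall x hx with rfl | rfl | rfl | rfl
  · exact hb (S.B_zero _)
  · exact hb (S.B_self _)
  · exact hb h0
  · exact hb (by rw [S.B_add, S.B_self, h0, add_zero])

set_option maxHeartbeats 800000 in
/-- The facts from the symplectic group acting on the space. -/
theorem planeData_lin {u : Fin 3 → V} (P : Space.Planes S u) :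
    ∃ D : PlaneData y, ∀ x, Commute y x → x ∈ D.I := by
  haveI := S.finite
  haveI := simple_X
  have hX := S.xs.toXSub
  have hmem : ∀ {g : X}, Commute y g → g ∈ centralizer ({y} : Set X) := fun h => mem_centralizer_one.2 h.eq.symm
  let I : Subgroup X := centralizer ({y} : Set X)
  let W : Subgroup X :=
    { carrier := {a | a ∈ coreAt y ∧ S.π a ∈ U S.gen 0}
      one_mem' := ⟨one_mem _, by rw [S.π_one]; exact zero_mem _⟩
      mul_mem' := fun {a b} ha hb => ⟨mul_mem ha.1 hb.1, by rw [S.mul a ha.1 b hb.1]; exact add_mem ha.2 hb.2⟩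
      inv_mem' := fun {a} ha => ⟨inv_mem ha.1, by rw [S.π_inv ha.1]; exact ha.2⟩ }
  have hperp : ∀ a ∈ coreAt y, (∀ t ∈ W, Commute t a) → S.π a ∈ P.perp := fun a ha h w hw => by
    obtain ⟨t, ht, rfl⟩ := S.surj w
    exact (S.B_commute ht ha).2 (h t ⟨ht, hw⟩)
  have hne : ∀ a ∈ coreAt y, a ∉ W → S.π a ≠ 0 := fun a ha h e => h ⟨ha, by rw [e]; exact zero_mem _⟩
  have hnz : ∀ a ∈ coreAt y, a ∉ zpowers y → S.π a ≠ 0 := fun a ha h e => h <| by
    rcases (S.π_eq_zero ha).1 e with rfl | rfl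
    exacts [one_mem _, mem_zpowers _]
  have hfix : ∀ (g : ↥(centralizer ({y} : Set X))) (a : X), a ∈ coreAt y →
      (⁅(g : X), a⁆ ∈ zpowers y ↔ S.ρ (S.χ g) (S.π a) = S.π a) := fun g a ha => by
    rw [S.comm_mem_zpowers g ha, add_eq_zero_iff_eq_neg, S.neg_eq]
  refine ⟨{
    I := I, I_cen := ?_, I_core := ?_, I_mul := ?_, I_gen := ?_
    W := W, W_le := fun a ha => ha.1, W_iff := ?_, W_comm := ?_, W_big := ?_, perp_sub := ?_, five := ?_
    five_triv := ?_ }, fun x hx => hmem hx⟩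
  · intro x hx
    exact (mem_centralizer_one.1 hx : Commute x y).symm
  · exact coreAt_le y
  · -- I_mul
    intro x x' hx hx' hn hn'
    exact absurd (hmem hx) hn
  · -- I_gen
    intro x hx
    have hxC : x ∈ centralizer ({y} : Set X) := hx
    set s := S.χ ⟨x, hxC⟩ with hs
    have hperf : ⁅(⊤ : Subgroup (Cfsg.PSp 2 (ZMod 3))), ⊤⁆ = (⊤ : Subgroup (Cfsg.PSp 2 (ZMod 3))) := by
      rcases Subgroup.Normal.eq_bot_or_eq_top (Subgroup.commutator_normal
        (⊤ : Subgroup (Cfsg.PSp 2 (ZMod 3))) ⊤) with h | h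
      · rw [commutator_eq_bot_iff_le_centralizer, coe_top, centralizer_univ, top_le_iff, U62Aut.center_X] at h
        exact absurd h bot_ne_top
      · exact h
    let N : Subgroup (Cfsg.PSp 2 (ZMod 3)) := ((⁅I, I⁆ ⊔ coreAt y).comap (centralizer ({y} : Set X)).subtype).map S.χ
    have hN : (⊤ : Subgroup (Cfsg.PSp 2 (ZMod 3))) ≤ N := by
      rw [← hperf]
      refine commutator_le.2 fun a _ b _ => ?_
      obtain ⟨g, hg⟩ := S.χ_surj a
      obtain ⟨h, hh⟩ := S.χ_surj b
      refine ⟨⁅g, h⁆, mem_sup_left (commutator_mem_commutator g.2 h.2), ?_⟩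
      rw [map_commutatorElement, hg, hh]
    obtain ⟨k, hk, hke⟩ := hN (mem_top s)
    rw [hs, eq_comm, ← inv_mul_eq_one, ← map_inv, ← map_mul, S.χ_eq_one] at hke
    have h2 : (((⟨x, hxC⟩ : ↥(centralizer ({y} : Set X)))⁻¹ * k : ↥(centralizer ({y} : Set X))) : X) ∈
        ⁅I, I⁆ ⊔ coreAt y := mem_sup_right hke
    have h3 := mul_mem (show (k : X) ∈ ⁅I, I⁆ ⊔ coreAt y from hk) (inv_mem h2)
    simpa using h3
  · -- W_iff
    intro t ht
    refine ⟨fun hW x hx => ?_, fun h => ⟨ht, (inU_zero_iff _).2 fun k => ?_⟩⟩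
    · rw [hfix ⟨x, hx⟩ t ht]
      exact P.fix_zero _ _ hW.2
    · obtain ⟨g, hg⟩ := S.χ_surj (Space.exG k)
      rw [S.eps_eq, ← hg, ← hfix g t ht]
      exact h g g.2
  · -- W_comm
    intro a ha b hb h1 h2 h3
    have hne' : S.π a ≠ S.π b := fun e => hnz _ (mul_mem ha.1 hb.1) h3 (by rw [S.mul a ha.1 b hb.1, e, S.char])
    refine (hX.comm_cases ha.1 hb.1).resolve_left fun e => ?_
    have := (plane_pair S P ha.2 hb.2 (hnz a ha.1 h1) (hnz b hb.1 h2) hne').1
    rw [(S.B_commute ha.1 hb.1).2 (commutatorElement_eq_one_iff_commute.1 e)] at this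
    exact zero_ne_one this
  · -- W_big
    obtain ⟨v, hv, hv0⟩ : ∃ v ∈ U S.gen 0, v ≠ 0 := by
      by_contra h
      push Not at h
      have h1 : Nat.card ↥(U S.gen 0) ≤ 1 := Finite.card_le_one_iff_subsingleton.2
        ⟨fun a b => Subtype.ext ((h _ a.2).trans (h _ b.2).symm)⟩
      rw [P.card_zero] at h1
      omega
    obtain ⟨w, hw, hb⟩ := P.nd_zero hv hv0
    obtain ⟨a, ha, rfl⟩ := S.surj v
    obtain ⟨b, hb', rfl⟩ := S.surj w
    have hz0 : ∀ c ∈ coreAt y, c ∈ zpowers y → S.π c = 0 := fun c hc h =>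
      (S.π_eq_zero hc).2 (hX.mem_zpowers_iff.1 h)
    refine ⟨a, ⟨ha, hv⟩, b, ⟨hb', hw⟩, fun h => hv0 (hz0 a ha h), fun h => hb ?_, fun h => hb ?_⟩
    · rw [hz0 b hb' h, S.B_zero]
    · have h0 := hz0 _ (mul_mem ha hb') h
      rw [S.mul a ha b hb', add_eq_zero_iff_eq_neg, S.neg_eq] at h0
      rw [h0, S.B_self]
  · -- perp_sub
    intro x hx K hKJ _ hrange hpair hKc
    have hxC : x ∈ centralizer ({y} : Set X) := hx
    let g : ↥(centralizer ({y} : Set X)) := ⟨x, hxC⟩
    let δ : ↥P.perp →+ ↥P.perp := AddMonoidHom.mk'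
      (fun v => ⟨S.ρ (S.χ g) v + v, add_mem (P.perp_inv _ v.2) v.2⟩)
      fun v w => Subtype.ext (by simp only [AddSubgroup.coe_add, map_add]; abel)
    let Kb : AddSubgroup V :=
      { carrier := {v | ∃ a ∈ K, S.π a = v}
        zero_mem' := ⟨1, one_mem _, S.π_one⟩
        add_mem' := fun {v w} ⟨a, ha, ea⟩ ⟨b, hb, eb⟩ =>
          ⟨a * b, mul_mem ha hb, by rw [S.mul a (hKJ ha) b (hKJ hb), ea, eb]⟩
        neg_mem' := fun {v} h => by rw [S.neg_eq]; exact h }
    have hlift : ∀ {v : V}, v ∈ P.perp → ∀ {a : X}, a ∈ coreAt y → S.π a = v → ∀ t ∈ W, Commute t a :=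
      fun {v} hv {a} ha e t ht => (S.B_commute ht.1 ha).1 (by rw [e]; exact hv _ ht.2)
    have h1 : Nat.card δ.range ≤ Nat.card Kb := by
      refine Nat.card_le_card_of_injective (fun v => (⟨(v.1 : V), ?_⟩ : Kb))
        fun a b e => Subtype.ext (Subtype.ext (congrArg (fun t : Kb => (t : V)) e))
      obtain ⟨w, hw⟩ := v.2
      obtain ⟨a, ha, e⟩ := S.surj (w : V)
      refine ⟨⁅x, a⁆, hrange a ha (hlift w.2 ha e), ?_⟩
      rw [S.π_comm g ha, ← hw, e]
      rfl
    let M : AddSubgroup V := P.perp ⊓ S.fixS (S.χ g)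
    have h2 : Nat.card δ.ker ≤ Nat.card M := by
      refine Nat.card_le_card_of_injective (fun v => (⟨(v.1 : V), v.1.2, ?_⟩ : M))
        fun a b e => Subtype.ext (Subtype.ext (congrArg (fun t : M => (t : V)) e))
      have h := congrArg Subtype.val v.2
      change S.ρ (S.χ g) (v.1 : V) + (v.1 : V) = 0 at h
      rw [add_eq_zero_iff_eq_neg, S.neg_eq] at h
      exact h
    have h3 : Nat.card M ≤ Nat.card Kb * 2 := S.card_le_two Kb M fun v hv w hw hvn hwn => by
      obtain ⟨a, ha, rfl⟩ := S.surj v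
      obtain ⟨b, hb, rfl⟩ := S.surj w
      exact ⟨a * b, hpair a ha b hb (hlift hv.1 ha rfl) (hlift hw.1 hb rfl) ((hfix g a ha).2 hv.2)
        ((hfix g b hb).2 hw.2) (fun h => hvn ⟨a, h, rfl⟩) (fun h => hwn ⟨b, h, rfl⟩), S.mul a ha b hb⟩
    have h4 := δ.ker.card_mul_index
    rw [AddSubgroup.index_ker, P.card_perp] at h4
    by_contra hall
    push Not at hall
    have hq : ∀ v ∈ Kb, S.q v = 0 := by
      rintro _ ⟨a, ha, rfl⟩
      exact (S.q_sq (hKJ ha)).2 ((hX.sq_cases (hKJ ha)).resolve_right (hall a ha))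
    have hB : ∀ v ∈ Kb, ∀ w ∈ Kb, S.B v w = 0 := fun v hv w hw => by
      have h := S.hq v w
      rw [hq v hv, hq w hw, hq _ (add_mem hv hw), add_zero, zero_add] at h
      exact h.symm
    have hKP : ∀ v ∈ Kb, v ≠ 0 → ∃ c ∈ singC, S.psi u c = v := by
      rintro _ ⟨a, ha, rfl⟩ h0
      obtain ⟨c, hc⟩ := P.mem_perp.1 (hperp a (hKJ ha) (hKc a ha))
      refine ⟨c, ?_, hc⟩
      simp only [singC, Finset.mem_filter, Finset.mem_univ, true_and]
      exact ⟨by rw [← P.q_psi, hc]; exact hq _ ⟨a, ha, rfl⟩, fun e => h0 (by rw [← hc, e]; exact P.psi_none)⟩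
    have hsmall : (Kb : Set V).ncard ≤ 4 := by
      classical
      by_cases hbig : ∃ v ∈ Kb, ∃ w ∈ Kb, v ≠ 0 ∧ w ≠ 0 ∧ v ≠ w
      · obtain ⟨v, hv, w, hw, hv0, hw0, hvw⟩ := hbig
        obtain ⟨c, hc, rfl⟩ := hKP v hv hv0
        obtain ⟨c', hc', rfl⟩ := hKP w hw hw0
        have hcc : bC c c' = 0 := by rw [← P.B_psi]; exact hB _ hv _ hw
        have hsub : (Kb : Set V) ⊆ insert 0 (S.psi u '' ((singC.filter fun e => bC c e = 0 ∧ bC c' e = 0 : Finset C3) : Set C3)) := by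
          intro t ht
          by_cases ht0 : t = 0
          · exact Or.inl ht0
          obtain ⟨e, he, rfl⟩ := hKP t ht ht0
          refine Or.inr ⟨e, ?_, rfl⟩
          rw [Finset.coe_filter]
          exact ⟨he, by rw [← P.B_psi]; exact hB _ hv _ ht, by rw [← P.B_psi]; exact hB _ hw _ ht⟩
        refine (Set.ncard_le_ncard hsub (Set.toFinite _)).trans ((Set.ncard_insert_le _ _).trans ?_)
        rw [Set.ncard_image_of_injective _ P.psi_inj, Set.ncard_coe_finset]
        exact Nat.succ_le_succ (sing_small c hc c' hc' (fun e => hvw (congrArg _ e)) hcc)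
      · push Not at hbig
        by_cases h0 : ∃ v ∈ Kb, v ≠ 0
        · obtain ⟨v, hv, hv0⟩ := h0
          have hsub : (Kb : Set V) ⊆ {0, v} := fun t ht => by
            by_cases ht0 : t = 0
            · exact Or.inl ht0
            · exact Or.inr (hbig v hv t ht hv0 ht0).symm
          exact (Set.ncard_le_ncard hsub (Set.toFinite _)).trans ((Set.ncard_insert_le _ _).trans (by simp))
        · push Not at h0
          exact (Set.ncard_le_ncard (t := {0}) (fun t ht => h0 t ht) (Set.toFinite _)).trans (by simp)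
    rw [show (Kb : Set V).ncard = Nat.card Kb from rfl] at hsmall
    nlinarith
  · -- five
    intro a ha haW h2 hc
    obtain ⟨x, hx, hxv⟩ := P.exists_five (hperp a ha hc) (hne a ha haW) ((S.q_sq ha).2 h2)
    obtain ⟨g, rfl⟩ := S.χ_surj x
    refine ⟨g, (mem_centralizer_one.1 g.2 : Commute (g : X) y).symm, fun h => ?_,
      (S.χ_eq_one (g ^ 5)).1 (by rw [map_pow, ← hx, pow_orderOf_eq_one]), (hfix g a ha).2 hxv⟩
    rw [(S.χ_eq_one g).2 h, orderOf_one] at hx
    norm_num at hx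
  · -- five_triv
    intro a ha haW h2 hc r hr har h5 h1 e he hre hae h4
    have hrC := hmem hr
    have hr5 : S.χ ⟨r, hrC⟩ ^ 5 = 1 := by
      rw [← map_pow, show (⟨r, hrC⟩ : ↥(centralizer ({y} : Set X))) ^ 5 = 1 from Subtype.ext h5, map_one]
    have hr1 : S.χ ⟨r, hrC⟩ ≠ 1 := fun h => by
      have hrJ : r ∈ coreAt y := (S.χ_eq_one _).1 h
      refine h1 (orderOf_eq_one_iff.1 (Nat.eq_one_of_dvd_coprimes (show Nat.Coprime 5 512 by norm_num)
        (orderOf_dvd_of_pow_eq_one h5) ?_))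
      exact S.card ▸ orderOf_dvd_natCard (coreAt y) hrJ
    have hfixπ : ∀ (g : ↥(centralizer ({y} : Set X))), Commute a (g : X) → S.ρ (S.χ g) (S.π a) = S.π a :=
      fun g h => by rw [S.ρ_π g a ha, h.symm.eq, mul_inv_cancel_right]
    refine (S.χ_eq_one ⟨e, hmem he⟩).1 (P.two_triv hr5 hr1 ?_ ?_ (hperp a ha hc) (hne a ha haW)
      ((S.q_sq ha).2 h2) (hfixπ ⟨r, hrC⟩ har) (hfixπ ⟨e, hmem he⟩ hae))
    · rw [← map_pow, show (⟨e, hmem he⟩ : ↥(centralizer ({y} : Set X))) ^ 4 = 1 from Subtype.ext h4, map_one]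
    · exact (show Commute (⟨r, hrC⟩ : ↥(centralizer ({y} : Set X))) ⟨e, hmem he⟩ from Subtype.ext hre).map S.χ

/-- The facts in the case of a fixed plane from the symplectic group at the image. -/
theorem Down.plane_lin {G : Type u} [Group G] [Finite G] {z d : G} (D : Down z d X) (T : Two z d)
    (S' : Space (D.π z) V) {u : Fin 3 → V} (P : Space.Planes S' u) :
    ∃ Q : Plane z d, ∀ g, Commute z g → Commute d g → g ∈ Q.inn := by
  obtain ⟨F, hF⟩ := planeData_lin S' P
  obtain ⟨Q, hQ⟩ := D.plane T F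
  exact ⟨Q, fun g hg hgd => (hQ g).2 ⟨hg, hgd, hF _ (D.comm_π hg hgd)⟩⟩

end Cfsg.Agent.Fi22Two
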