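import Cfsg.Agent.Lib.Fi22Two.Frame

/-!
Conjugate pairs, and the consequences of a centraliser which is that of `z` up to a normal subgroup of odd
order.
-/

set_option autoImplicit false
set_option linter.style.haveILetI false
set_option linter.unusedSectionVars false

namespace Cfsg.Agent.Fi22Two

open Subgroup LargeExtra
open scoped commutatorElement

variable {G : Type*} [Group G] [Finite G]

theorem mem_core_conj {g z a : G} : a ∈ coreAt (g * z * g⁻¹) ↔ g⁻¹ * a * g ∈ coreAt z := by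
  rw [coreAt_conj]
  exact mem_conjMap

theorem comm_conj_back {g a b : G} (h : Commute (g * a * g⁻¹) b) : Commute a (g⁻¹ * b * g) := by
  simpa [mul_assoc] using h.map (MulAut.conj g⁻¹)

theorem comm_conj_fwd {g a b : G} (h : Commute a (g⁻¹ * b * g)) : Commute (g * a * g⁻¹) b := by
  simpa [mul_assoc] using h.map (MulAut.conj g)

theorem bracket_conj (g a b : G) : ⁅g * a * g⁻¹, g * b * g⁻¹⁆ = g * ⁅a, b⁆ * g⁻¹ := by
  simp [commutatorElement_def, mul_assoc]

theorem mem_Zc_conj {g z d a : G} (h : a ∈ Zc z d) : g * a * g⁻¹ ∈ Zc (g * z * g⁻¹) (g * d * g⁻¹) := by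
  rcases mem_Zc.1 h with rfl | rfl | rfl | rfl <;> simp [Zc]

/-- The hypotheses move with conjugation. -/
theorem Two.conj {z d : G} (T : Two z d) (g : G) : Two (g * z * g⁻¹) (g * d * g⁻¹) := by
  have hback : ∀ {a : G}, a ∈ coreAt (g * z * g⁻¹) → ∃ a₀ ∈ coreAt z, a = g * a₀ * g⁻¹ := fun {a} ha =>
    ⟨g⁻¹ * a * g, mem_core_conj.1 ha, by group⟩
  have hfwd : ∀ {a : G}, a ∈ coreAt z → g * a * g⁻¹ ∈ coreAt (g * z * g⁻¹) := fun {a} ha =>
    mem_core_conj.2 (by rwa [show g⁻¹ * (g * a * g⁻¹) * g = a by group])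
  exact
  { z2 := by rw [show g * z * g⁻¹ * (g * z * g⁻¹) = g * (z * z) * g⁻¹ by group, T.z2]; group
    d2 := by rw [show g * d * g⁻¹ * (g * d * g⁻¹) = g * (d * d) * g⁻¹ by group, T.d2]; group
    z_ne := fun h => T.z_ne (by rw [eq_conj_iff] at h; rw [h]; group)
    d_ne := fun h => T.d_ne (by rw [eq_conj_iff] at h; rw [h]; group)
    d_ne_z := fun h => T.d_ne_z (mul_left_cancel (mul_right_cancel h))
    z_mem := hfwd T.z_mem
    d_mem := hfwd T.d_mem
    d_central := fun a ha => by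
      obtain ⟨a, ha₀, rfl⟩ := hback ha
      exact conj_comm (T.d_central a ha₀)
    center := fun a ha h => by
      obtain ⟨a, ha₀, rfl⟩ := hback ha
      exact mem_Zc_conj (T.center a ha₀ fun b hb => by
        have := comm_conj_back (h _ (hfwd hb))
        rwa [show g⁻¹ * (g * b * g⁻¹) * g = b by group] at this)
    sq := fun a ha => by
      obtain ⟨a, ha₀, rfl⟩ := hback ha
      rw [show g * a * g⁻¹ * (g * a * g⁻¹) = g * (a * a) * g⁻¹ by group]
      exact (T.sq a ha₀).imp (fun h => by rw [h]; group) fun h => by rw [h]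
    comm := fun a ha b hb => by
      obtain ⟨a, ha₀, rfl⟩ := hback ha
      obtain ⟨b, hb₀, rfl⟩ := hback hb
      rw [bracket_conj]
      exact (T.comm a ha₀ b hb₀).imp (fun h => by rw [h]; group) fun h => by rw [h]
    card := by
      rw [coreAt_conj, card_map_of_injective (f := (MulAut.conj g).toMonoidHom) (MulAut.conj g).injective]
      exact T.card
    self := fun c hc h => mem_core_conj.2 (T.self _ (comm_conj_back hc) fun a ha => by
      have := comm_conj_back (h _ (hfwd ha)).symm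
      exact this.symm)
    swap := fun h hh => by
      rcases T.swap _ (comm_conj_back hh) with e | e
      · left; rw [eq_conj_iff] at e; rw [eq_conj_iff]; nth_rw 1 [e]; group
      · right
        rw [eq_conj_iff] at e
        nth_rw 1 [e]
        group
    class_ne := fun k => by
      obtain ⟨h1, h2⟩ := T.class_ne (g⁻¹ * k * g)
      refine ⟨fun e => h1 ?_, fun e => h2 ?_⟩
      · calc g⁻¹ * k * g * z * (g⁻¹ * k * g)⁻¹ = g⁻¹ * (k * (g * z * g⁻¹) * k⁻¹) * g := by group
          _ = d := by rw [e]; group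
      · calc g⁻¹ * k * g * z * (g⁻¹ * k * g)⁻¹ = g⁻¹ * (k * (g * z * g⁻¹) * k⁻¹) * g := by group
          _ = d * z := by rw [e]; group
    cover := fun P hP h => by
      obtain ⟨c, hc, hcP⟩ := T.cover (P.map (MulAut.conj g⁻¹).toMonoidHom) (hP.map _) (by
        rintro _ ⟨a, ha, rfl⟩
        show Commute d (g⁻¹ * a * g⁻¹⁻¹)
        rw [inv_inv]
        exact comm_conj_back (h a ha))
      refine ⟨g * c * g⁻¹, conj_comm hc, fun a ha => ?_⟩
      have := hcP _ ⟨a, ha, rfl⟩
      rw [show (MulAut.conj g⁻¹).toMonoidHom a = g⁻¹ * a * g by simp] at this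
      have := conj_comm (g := g) this
      rwa [show g * (c * (g⁻¹ * a * g) * c⁻¹) * g⁻¹ = g * c * g⁻¹ * a * (g * c * g⁻¹)⁻¹ by group] at this }

/-- The centraliser of `d` is that of `z` up to a normal subgroup of odd order. -/
def Small (z d : G) : Prop :=
  ∃ K : Subgroup G, Odd (Nat.card K) ∧ (∀ o ∈ K, Commute d o) ∧ (∀ c, Commute d c → ∀ o ∈ K, c * o * c⁻¹ ∈ K) ∧
    ∀ c, Commute d c → ∃ h, Commute z h ∧ ∃ o ∈ K, c = h * o

theorem Small.conj {z d : G} (S : Small z d) (g : G) : Small (g * z * g⁻¹) (g * d * g⁻¹) := by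
  obtain ⟨K, hodd, hK, hn, hdec⟩ := S
  refine ⟨K.map (MulAut.conj g).toMonoidHom, ?_, ?_, ?_, ?_⟩
  · rwa [card_map_of_injective (f := (MulAut.conj g).toMonoidHom) (MulAut.conj g).injective]
  · rintro _ ⟨o, ho, rfl⟩
    exact conj_comm (hK o ho)
  · rintro c hc _ ⟨o, ho, rfl⟩
    refine ⟨_, hn _ (comm_conj_back hc) o ho, ?_⟩
    show g * (g⁻¹ * c * g * o * (g⁻¹ * c * g)⁻¹) * g⁻¹ = c * (g * o * g⁻¹) * c⁻¹
    group
  · intro c hc
    obtain ⟨h, hh, o, ho, e⟩ := hdec _ (comm_conj_back hc)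
    refine ⟨g * h * g⁻¹, conj_comm hh, g * o * g⁻¹, ⟨o, ho, rfl⟩, ?_⟩
    rw [show g * h * g⁻¹ * (g * o * g⁻¹) = g * (h * o) * g⁻¹ by group, ← e]
    group

/-- In the small case a conjugate of `z` under the centraliser of `d` commuting with `z` is `z`. -/
theorem Small.eq_of_comm {z d : G} (T : Two z d) (S : Small z d) {c : G} (hc : Commute d c)
    (h : Commute z (c * z * c⁻¹)) : c * z * c⁻¹ = z := by
  obtain ⟨K, hodd, hK, hn, hdec⟩ := S
  obtain ⟨h', hh, o, ho, rfl⟩ := hdec c hc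
  have hz' : h' * z * h'⁻¹ = z := conj_of_comm hh.symm
  have hco : Commute z (o * z * o⁻¹) := by
    have := comm_conj_back (g := h') (a := z) (b := h' * o * z * (h' * o)⁻¹) (by rwa [hz'])
    rwa [show h'⁻¹ * (h' * o * z * (h' * o)⁻¹) * h' = o * z * o⁻¹ by group] at this
  set u := z * (o * z * o⁻¹) with hu
  have huK : u ∈ K := by
    rw [hu, show z * (o * z * o⁻¹) = z * o * z⁻¹ * (z * z) * o⁻¹ by group, T.z2, mul_one]
    exact mul_mem (hn z T.zd.symm o ho) (inv_mem ho)
  have hu2 : u * u = 1 := by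
    rw [hu, hco.symm.mul_mul_mul_comm, T.z2, one_mul, show o * z * o⁻¹ * (o * z * o⁻¹) = o * (z * z) * o⁻¹ by group,
      T.z2]
    group
  have hu1 : u = 1 := by
    have h1 := orderOf_dvd_natCard K huK
    exact orderOf_eq_one_iff.1 (Nat.eq_one_of_dvd_coprimes (Nat.coprime_two_left.2 hodd)
      (orderOf_dvd_of_pow_eq_one (by rw [pow_two, hu2])) h1)
  rw [hu, mul_eq_one_iff_eq_inv] at hu1
  have e1 : o * z * o⁻¹ = z := by
    have := congrArg (·⁻¹) hu1
    simp only [inv_inv] at this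
    rw [← this, T.z_inv]
  rw [show h' * o * z * (h' * o)⁻¹ = h' * (o * z * o⁻¹) * h'⁻¹ by group, e1, hz']

/-- In the small case the centraliser of `z` and the conjugate of `d` centralises the conjugate of `z`. -/
theorem Small.le {z d : G} (T : Two z d) (S : Small z d) {g : G} (hy : Commute z (g * z * g⁻¹))
    (he : Commute z (g * d * g⁻¹)) (hed : Commute d (g * d * g⁻¹)) {c : G} (hc : Commute z c)
    (hce : Commute (g * d * g⁻¹) c) : Commute (g * z * g⁻¹) c := by
  have T' := T.conj g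
  obtain ⟨K, hodd, hK, hn, hdec⟩ := S.conj g
  obtain ⟨h, hh, o, ho, rfl⟩ := hdec c hce
  set y := g * z * g⁻¹ with hy'
  set e := g * d * g⁻¹ with he'
  have hohe : Commute e h := by
    have := hce.mul_right (hK o ho).inv_right
    rwa [mul_inv_cancel_right] at this
  have hoddo : ∀ x ∈ K, Odd (orderOf x) := fun x hx => hodd.of_dvd_nat (orderOf_dvd_natCard K hx)
  have hinf : ∀ x ∈ K, Commute y x → x = 1 := by
    intro x hx hxy
    have hJK : ∀ a ∈ coreAt y, Commute x a := by
      intro a ha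
      have hea : Commute e a := T'.d_central a ha
      have h1 : ⁅x, a⁆ ∈ K := by
        rw [commutatorElement_def, show x * a * x⁻¹ * a⁻¹ = x * (a * x⁻¹ * a⁻¹) by group]
        exact mul_mem hx (hn a hea _ (inv_mem hx))
      have h2 := T'.bracket_mem hxy ha
      obtain ⟨m, hm⟩ := (coreAt_isPGroup y) ⟨_, h2⟩
      have hm' := congrArg Subtype.val hm
      rw [SubmonoidClass.coe_pow, OneMemClass.coe_one] at hm'
      exact commutatorElement_eq_one_iff_commute.1 (orderOf_eq_one_iff.1 (Nat.eq_one_of_dvd_coprimes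
        ((Nat.coprime_two_right.2 hodd).pow_right m) (orderOf_dvd_natCard K h1) (orderOf_dvd_of_pow_eq_one hm')))
    obtain ⟨m, hm⟩ := (coreAt_isPGroup y) ⟨x, T'.self x hxy hJK⟩
    have hm' := congrArg Subtype.val hm
    rw [SubmonoidClass.coe_pow, OneMemClass.coe_one] at hm'
    exact orderOf_eq_one_iff.1 (Nat.eq_one_of_dvd_coprimes
      ((Nat.coprime_two_right.2 hodd).pow_right m) (orderOf_dvd_natCard K hx) (orderOf_dvd_of_pow_eq_one hm'))
  have hho : Commute z h ∧ Commute z o := by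
    have e1 : z * h * z⁻¹ * (z * o * z⁻¹) = h * o := by
      rw [show z * h * z⁻¹ * (z * o * z⁻¹) = z * (h * o) * z⁻¹ by group, conj_of_comm hc]
    have hzo : z * o * z⁻¹ ∈ K := hn z he.symm o ho
    have e2 : h⁻¹ * (z * h * z⁻¹) = o * (z * o * z⁻¹)⁻¹ := by
      calc h⁻¹ * (z * h * z⁻¹) = h⁻¹ * (z * h * z⁻¹ * (z * o * z⁻¹)) * (z * o * z⁻¹)⁻¹ := by group
        _ = o * (z * o * z⁻¹)⁻¹ := by rw [e1]; group
    have e3 : h⁻¹ * (z * h * z⁻¹) = 1 := hinf _ (by rw [e2]; exact mul_mem ho (inv_mem hzo))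
      (hh.inv_right.mul_right ((hy.symm.mul_right hh).mul_right hy.symm.inv_right))
    have hzh : Commute z h := comm_of_conj (inv_mul_eq_one.1 e3).symm
    refine ⟨hzh, ?_⟩
    have := (hzh.inv_right).mul_right hc
    rwa [inv_mul_cancel_left] at this
  have ho1 : o = 1 := T.odd_trivial he hed (by rw [he']; exact (T.conj g).d2) hho.2 (hK o ho)
    (hoddo o ho) fun a ha hae => by
      have h1 : ⁅o, a⁆ ∈ K := by
        rw [commutatorElement_def, show o * a * o⁻¹ * a⁻¹ = o * (a * o⁻¹ * a⁻¹) by group]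
        exact mul_mem ho (hn a hae.symm _ (inv_mem ho))
      have h2 := T.bracket_mem hho.2 ha
      obtain ⟨m, hm⟩ := (coreAt_isPGroup z) ⟨_, h2⟩
      have hm' := congrArg Subtype.val hm
      rw [SubmonoidClass.coe_pow, OneMemClass.coe_one] at hm'
      exact commutatorElement_eq_one_iff_commute.1 (orderOf_eq_one_iff.1 (Nat.eq_one_of_dvd_coprimes
        ((Nat.coprime_two_right.2 hodd).pow_right m) (orderOf_dvd_natCard K h1) (orderOf_dvd_of_pow_eq_one hm')))
  rw [ho1, mul_one]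
  exact hh

end Cfsg.Agent.Fi22Two
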