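import Cfsg.Agent.Lib.Fi22Two.Cross
import Cfsg.Agent.Lib.Fi22Two.Small

/-!
An element exchanging `d` and `d * z` is incompatible with a complement of `d` in its centraliser: the image
of five commuting conjugates of `z` with product `z` would have product `1`, and these are unique.
-/

set_option autoImplicit false
set_option linter.style.haveILetI false
set_option linter.unusedSectionVars false

namespace Cfsg.Agent.Fi22Two

open Subgroup LargeExtra
open scoped commutatorElement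

variable {G : Type*} [Group G] [Finite G]

/-- The conjugates of `z` under the centraliser of `d`. -/
def Cls (z d : G) : Set G := {y | ∃ h, Commute d h ∧ h * z * h⁻¹ = y}

/-- Five commuting members with product `P`. -/
structure IsFive (D : Set G) (L : Fin 5 → G) (P : G) : Prop where
  mem : ∀ i, L i ∈ D
  comm : ∀ i j, Commute (L i) (L j)
  inj : Function.Injective L
  prod : L 0 * L 1 * L 2 * L 3 * L 4 = P

/-- The hypotheses on a complement of `d`. -/
structure Complement (z d : G) where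
  /-- The complement. -/
  U : Subgroup G
  d_notMem : d ∉ U
  cls_le : Cls z d ⊆ (U : Set G)
  tri : ∀ y ∈ Cls z d, ∀ y' ∈ Cls z d, Commute y y' ∨ (y * y') ^ 3 = 1
  side : ∀ g, Commute z g → Commute d g → g * g ∈ coreAt z → g ∉ coreAt z → (fx z d g).ncard = 256 →
    (Side z d g).ncard = 4
  tv : ∀ y ∈ Cls z d, Commute z y → y ≠ z → y ∉ coreAt z ∧ (fx z d y).ncard = 256
  base : ∃ L : Fin 5 → G, IsFive (Cls z d) L 1 ∧ (∀ i, Commute z (L i) ∧ L i ≠ z) ∧
    ∀ i j, i ≠ j → (L i)⁻¹ * L j ∉ coreAt z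
  uniq : ∀ L L' : Fin 5 → G, IsFive (Cls z d) L 1 → IsFive (Cls z d) L' 1 → L 0 = L' 0 → L 1 = L' 1 →
    ∀ i, ∃ j, L' i = L j

theorem Side.mem_cls {z d g y : G} (h : y ∈ Side z d g) : y ∈ Cls z d := by
  obtain ⟨k, hk, e, -, -⟩ := h
  exact ⟨k, hk, e⟩

theorem Cls.sq {z d y : G} (T : Two z d) (h : y ∈ Cls z d) : y * y = 1 := by
  obtain ⟨k, -, rfl⟩ := h
  rw [show k * z * k⁻¹ * (k * z * k⁻¹) = k * (z * z) * k⁻¹ by group, T.z2]
  group

namespace Complement

variable {z d : G} (C : Complement z d) (T : Two z d)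

include C T

/-- Members congruent to commuting members commute. -/
theorem comm_congr {y y' : G} (hy : y ∈ Cls z d) (hy' : y' ∈ Cls z d) (h : (y * y') * (y * y') ∈ coreAt z) :
    Commute y y' := by
  refine (C.tri y hy y' hy').elim id fun h3 => ?_
  obtain ⟨m, hm⟩ := coreAt_isPGroup z ⟨_, h⟩
  have hm' := congrArg Subtype.val hm
  rw [SubmonoidClass.coe_pow, OneMemClass.coe_one] at hm'
  change (y * y' * (y * y')) ^ 2 ^ m = 1 at hm'
  rw [← pow_two, ← pow_mul, ← pow_succ'] at hm'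
  have h1 : y * y' = 1 := orderOf_eq_one_iff.1 (Nat.eq_one_of_dvd_coprimes
    ((show Nat.Coprime 2 3 by norm_num).pow_left (m + 1)) (orderOf_dvd_of_pow_eq_one hm')
    (orderOf_dvd_of_pow_eq_one h3))
  rw [mul_eq_one_iff_eq_inv] at h1
  rw [h1]
  exact (Commute.refl y').inv_left

/-- Members in the cosets of two commuting members commute. -/
theorem comm_side {g g' y y' : G} (hgz : Commute z g) (hg'z : Commute z g') (hy : y ∈ Side z d g)
    (hy' : y' ∈ Side z d g') (h : (g * g') * (g * g') ∈ coreAt z) : Commute y y' := by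
  refine C.comm_congr T (Side.mem_cls hy) (Side.mem_cls hy') ?_
  obtain ⟨-, -, -, hzy, hj⟩ := hy
  obtain ⟨-, -, -, -, hj'⟩ := hy'
  set i := g'⁻¹ * (g⁻¹ * y) * g' * (g'⁻¹ * y') with hi
  have hiJ : i ∈ coreAt z := mul_mem (by simpa using T.conj_mem_core hg'z.inv_right hj) hj'
  have e : y * y' = g * g' * i := by rw [hi]; group
  rw [e, show g * g' * i * (g * g' * i) = g * g' * (g * g') * ((g * g')⁻¹ * i * (g * g')) * i by group]
  exact mul_mem (mul_mem h (by simpa using T.conj_mem_core (hgz.mul_right hg'z).inv_right hiJ)) hiJ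

/-- A member over a member is reached by the core. -/
theorem side_self {y : G} (hy : y ∈ Cls z d) (hzy : Commute z y) : y ∈ Side z d y := by
  obtain ⟨h, hh, e⟩ := hy
  exact ⟨h, hh, e, hzy, by rw [inv_mul_cancel]; exact one_mem _⟩

theorem cls_comm {y : G} (hy : y ∈ Cls z d) : Commute d y := by
  obtain ⟨h, hh, rfl⟩ := hy
  exact (hh.mul_right T.zd.symm).mul_right hh.inv_right

variable (N : Natural z d) {s : G} (hsz : s * z * s⁻¹ = z) (hsd : s * d * s⁻¹ = d * z)

include N hsz hsd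

theorem side_swap {y : G} (hy : y ∈ Cls z d) (hzy : Commute z y) (hne : y ≠ z) :
    (Side z d (s * y * s⁻¹)).ncard = 4 ∧ (Side z (d * z) (s * y * s⁻¹)).ncard = 4 ∧
      (fx z d (s * y * s⁻¹)).ncard = 256 ∧ s * y * s⁻¹ ∉ coreAt z ∧ Commute z (s * y * s⁻¹) ∧
      Commute d (s * y * s⁻¹) ∧ (s * y * s⁻¹) * (s * y * s⁻¹) ∈ coreAt z := by
  obtain ⟨hyJ, h256⟩ := C.tv y hy hzy hne
  have hyd := C.cls_comm T hy
  have hzs : Commute z s := (comm_of_conj hsz).symm
  set g := s * y * s⁻¹ with hg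
  have hgz : Commute z g := (hzs.mul_right hzy).mul_right hzs.inv_right
  have hgd : Commute d g := by
    have h1 := conj_comm (g := s) (hyd.mul_left hzy)
    rwa [show s * (d * z) * s⁻¹ = s * d * s⁻¹ * (s * z * s⁻¹) by group, hsd, hsz, mul_assoc, T.z2, mul_one] at h1
  have hy2 : y * y ∈ coreAt z := by rw [Cls.sq T hy]; exact one_mem _
  have hg2 : g * g ∈ coreAt z := by
    rw [hg, show s * y * s⁻¹ * (s * y * s⁻¹) = s * (y * y) * s⁻¹ by group]
    exact T.conj_mem_core hzs hy2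
  have hgJ : g ∉ coreAt z := fun h => hyJ (by
    have := T.conj_mem_core hzs.inv_right h
    rwa [hg, inv_inv, show s⁻¹ * (s * y * s⁻¹) * s = y by group] at this)
  have hg256 : (fx z d g).ncard = 256 := by
    rw [← h256, ← Set.ncard_image_of_injective (fx z d y) (MulAut.conj s).injective]
    congr 1
    ext a
    have hZ : ∀ {k b : G}, k * z * k⁻¹ = z → (k * d * k⁻¹ = d ∨ k * d * k⁻¹ = d * z) → b ∈ Zc z d →
        k * b * k⁻¹ ∈ Zc z d := fun {k b} e1 e2 hb => by
      have := mem_Zc_conj (g := k) hb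
      rw [e1] at this
      rcases e2 with e | e <;> rw [e] at this
      · exact this
      · rw [mem_Zc] at this ⊢
        rw [mul_assoc d z z, T.z2, mul_one] at this
        tauto
    have e1 : s⁻¹ * z * s⁻¹⁻¹ = z := conj_of_comm hzs.symm.inv_left
    constructor
    · rintro ⟨ha, hz⟩
      refine ⟨s⁻¹ * a * s, ⟨?_, ?_⟩, by simp [mul_assoc]⟩
      · simpa using T.conj_mem_core hzs.inv_right ha
      · have := hZ e1 (T.swap _ hzs.inv_right) hz
        rwa [show s⁻¹ * ⁅g, a⁆ * s⁻¹⁻¹ = ⁅y, s⁻¹ * a * s⁆ by rw [hg]; simp [commutatorElement_def, mul_assoc]] at this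
    · rintro ⟨b, ⟨hb, hz⟩, rfl⟩
      refine ⟨T.conj_mem_core hzs hb, ?_⟩
      show ⁅g, s * b * s⁻¹⁆ ∈ Zc z d
      rw [hg, show ⁅s * y * s⁻¹, s * b * s⁻¹⁆ = s * ⁅y, b⁆ * s⁻¹ by simp [commutatorElement_def, mul_assoc]]
      exact hZ hsz (Or.inr hsd) hz
  refine ⟨C.side g hgz hgd hg2 hgJ hg256, ?_, hg256, hgJ, hgz, hgd, hg2⟩
  rw [← C.side y hzy hyd hy2 hyJ h256, ← Set.ncard_image_of_injective (Side z d y) (MulAut.conj s).injective]
  congr 1
  ext a
  constructor
  · rintro ⟨h, hh, e, hza, hj⟩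
    refine ⟨s⁻¹ * a * s, ⟨s⁻¹ * h * s, ?_, ?_, ?_, ?_⟩, by simp [mul_assoc]⟩
    · exact comm_conj_back (hsd.symm ▸ hh)
    · rw [← e]
      calc s⁻¹ * h * s * z * (s⁻¹ * h * s)⁻¹ = s⁻¹ * h * (s * z * s⁻¹) * h⁻¹ * s := by group
        _ = _ := by rw [hsz]; group
    · exact comm_conj_back (hsz.symm ▸ hza)
    · have := T.conj_mem_core hzs.inv_right hj
      rwa [hg, inv_inv, show s⁻¹ * ((s * y * s⁻¹)⁻¹ * a) * s = y⁻¹ * (s⁻¹ * a * s) by group] at this
  · rintro ⟨b, ⟨h, hh, e, hzb, hj⟩, rfl⟩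
    refine ⟨s * h * s⁻¹, hsd ▸ conj_comm hh, ?_, hsz ▸ conj_comm hzb, ?_⟩
    · show _ = s * b * s⁻¹
      rw [← e]
      calc s * h * s⁻¹ * z * (s * h * s⁻¹)⁻¹ = s * h * s⁻¹ * (s * z * s⁻¹) * (s * h * s⁻¹)⁻¹ := by rw [hsz]
        _ = _ := by group
    · show g⁻¹ * (s * b * s⁻¹) ∈ coreAt z
      rw [hg, show (s * y * s⁻¹)⁻¹ * (s * b * s⁻¹) = s * (y⁻¹ * b) * s⁻¹ by group]
      exact T.conj_mem_core hzs hj

/-- The image under the exchanging element times `z`. -/
theorem swap_mem {y : G} (hy : y ∈ Cls z d) (hzy : Commute z y) (hne : y ≠ z) : s * y * s⁻¹ * z ∈ Cls z d := by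
  obtain ⟨h1, h2, h256, hgJ, hgz, hgd, hg2⟩ := C.side_swap T N hsz hsd hy hzy hne
  obtain ⟨h, hh, e⟩ := id hy
  refine Side.mem_cls (N.cross T hgz hgd hg2 hgJ h256 h1 h2 _ ⟨s * h * s⁻¹, hsd ▸ conj_comm hh, ?_, hgz,
    by rw [inv_mul_cancel]; exact one_mem _⟩)
  rw [← e]
  calc s * h * s⁻¹ * z * (s * h * s⁻¹)⁻¹ = s * h * s⁻¹ * (s * z * s⁻¹) * (s * h * s⁻¹)⁻¹ := by rw [hsz]
    _ = _ := by group

/-- A member times `z` is not over the same point. -/
theorem side_mul_z {g y : G} (hgz : Commute z g) (hgd : Commute d g) (hgJ : g ∉ coreAt z) (hg2 : g * g ∈ coreAt z)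
    (h256 : (fx z d g).ncard = 256) (hy : y ∈ Side z d g) : y * z ∉ Side z d g := by
  intro hyz
  obtain ⟨-, -, -, hzy, hj⟩ := id hy
  have hdy := C.cls_comm T (Side.mem_cls hy)
  have hyne : y ≠ z := fun h => hgJ (inv_mem_iff.1 ((coreAt z).mul_mem_cancel_right T.z_mem |>.1 (h ▸ hj)))
  -- both lie in the other set after the exchange
  have hzs : Commute z s := (comm_of_conj hsz).symm
  obtain ⟨hyJ, -⟩ := C.tv y (Side.mem_cls hy) hzy hyne
  obtain ⟨h1, h2, h256', hgJ', hgz', hgd', hg2'⟩ := C.side_swap T N hsz hsd (Side.mem_cls hy) hzy hyne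
  obtain ⟨h, hh, e⟩ := Side.mem_cls hyz
  have hs : s * (y * z) * s⁻¹ ∈ Side z (d * z) (s * y * s⁻¹) := by
    refine ⟨s * h * s⁻¹, hsd ▸ conj_comm hh, ?_, ?_, ?_⟩
    · rw [← e]
      calc s * h * s⁻¹ * z * (s * h * s⁻¹)⁻¹ = s * h * s⁻¹ * (s * z * s⁻¹) * (s * h * s⁻¹)⁻¹ := by rw [hsz]
        _ = _ := by group
    · have := conj_comm (g := s) (hzy.mul_right (Commute.refl z))
      rwa [hsz] at this
    · rw [show (s * y * s⁻¹)⁻¹ * (s * (y * z) * s⁻¹) = s * z * s⁻¹ by group, hsz]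
      exact T.z_mem
  have h3 := N.cross T hgz' hgd' hg2' hgJ' h256' h1 h2 _ hs
  have e3 : s * (y * z) * s⁻¹ * z = s * y * s⁻¹ := by
    rw [show s * (y * z) * s⁻¹ = s * y * s⁻¹ * (s * z * s⁻¹) by group, hsz, mul_assoc, T.z2, mul_one]
  rw [e3] at h3
  have h4 : s * y * s⁻¹ * 1 ∈ Side z (d * z) (s * y * s⁻¹) := by
    obtain ⟨k, hk, ek⟩ := Side.mem_cls hy
    rw [mul_one]
    refine ⟨s * k * s⁻¹, hsd ▸ conj_comm hk, ?_, hgz', by rw [inv_mul_cancel]; exact one_mem _⟩
    rw [← ek]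
    calc s * k * s⁻¹ * z * (s * k * s⁻¹)⁻¹ = s * k * s⁻¹ * (s * z * s⁻¹) * (s * k * s⁻¹)⁻¹ := by rw [hsz]
      _ = _ := by group
  exact T.z_ne (T.cross_eq hgz' hgJ' h3 T.one_mem_Zc h4).symm

/-- The elements carrying a member to the others of its coset, with `z`. -/
theorem exists_shift {g : G} (hg : g ∈ Cls z d) (hzg : Commute z g) (hne : g ≠ z) :
    ∃ B : Subgroup G, Nat.card B = 8 ∧ (∀ b ∈ B, b ∈ coreAt z ∧ b ∈ C.U) ∧
      (∀ b ∈ B, g * b ∈ Side z d g ∨ g * b * z ∈ Side z d g) := by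
  classical
  obtain ⟨hgJ, h256⟩ := C.tv g hg hzg hne
  have hgd := C.cls_comm T hg
  have hg1 := Cls.sq T hg
  have hg2 : g * g ∈ coreAt z := by rw [hg1]; exact one_mem _
  have hgs := C.side_self T hg hzg
  have h4 := C.side g hzg hgd hg2 hgJ h256
  have hmv : ∀ v ∈ coreAt z, g * ⁅g, v⁆ ∈ Side z d g := fun v hv => by
    rw [← T.conj_of_bracket (v := v) hg1]
    exact T.side_conj (T.d_central v hv) hzg hv hgs
  have hbz : ∀ {v : G}, v ∈ coreAt z → ⁅g, v⁆ * z = z * ⁅g, v⁆ := fun hv => ((T.comm_z (T.bracket_mem hzg hv))).eq.symm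
  have hcomm : ∀ v ∈ coreAt z, Commute g (g * ⁅g, v⁆) := fun v hv =>
    C.comm_side T hzg hzg hgs (hmv v hv) (by rw [hg1, one_mul]; exact one_mem _)
  have hsq : ∀ v ∈ coreAt z, ⁅g, v⁆ * ⁅g, v⁆ = 1 := fun v hv => by
    have h := hcomm v hv
    have hv2 := Cls.sq T (Side.mem_cls (hmv v hv))
    have : Commute g ⁅g, v⁆ := by
      have h' := (Commute.refl g).inv_right.mul_right h
      rwa [inv_mul_cancel_left] at h'
    rwa [this.symm.mul_mul_mul_comm, hg1, one_mul] at hv2
  let B : Subgroup G :=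
    { carrier := {b | ∃ v ∈ coreAt z, b = ⁅g, v⁆ ∨ b = ⁅g, v⁆ * z}
      one_mem' := ⟨1, one_mem _, Or.inl (commutatorElement_one_right g).symm⟩
      mul_mem' := fun {a b} ⟨v, hv, ha⟩ ⟨w, hw, hb⟩ => by
        refine ⟨v * w, mul_mem hv hw, ?_⟩
        have e : ⁅g, v * w⁆ = ⁅g, v⁆ * ⁅g, w⁆ ∨ ⁅g, v * w⁆ = ⁅g, v⁆ * ⁅g, w⁆ * z := by
          rw [show ⁅g, v * w⁆ = ⁅g, v⁆ * (v * ⁅g, w⁆ * v⁻¹) by simp [commutatorElement_def, mul_assoc]]
          rcases T.conj_cases hv (T.bracket_mem hzg hw) with h | h <;> rw [h]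
          · exact Or.inl rfl
          · exact Or.inr (mul_assoc _ _ _).symm
        have hz : ∀ {p : G}, p * z * z = p := fun {p} => by rw [mul_assoc, T.z2, mul_one]
        have hc : ∀ {p : G}, p * (⁅g, w⁆ * z) = p * ⁅g, w⁆ * z := fun {p} => (mul_assoc _ _ _).symm
        have hc' : ⁅g, v⁆ * z * ⁅g, w⁆ = ⁅g, v⁆ * ⁅g, w⁆ * z := by rw [mul_assoc, ← hbz hw, ← mul_assoc]
        rcases ha with rfl | rfl <;> rcases hb with rfl | rfl <;> rcases e with e | e <;> rw [e] <;>
          simp [hz, hc, hc']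
      inv_mem' := fun {a} ⟨v, hv, ha⟩ => by
        refine ⟨v, hv, ?_⟩
        rcases ha with rfl | rfl
        · exact Or.inl (inv_eq_of_mul_eq_one_right (hsq v hv))
        · right
          rw [mul_inv_rev, T.z_inv, inv_eq_of_mul_eq_one_right (hsq v hv), ← hbz hv] }
  refine ⟨B, ?_, ?_, ?_⟩
  · have hset : (B : Set G) = (fun y => g * y) '' Side z d g ∪ (fun y => g * y * z) '' Side z d g := by
      ext b
      constructor
      · rintro ⟨v, hv, rfl | rfl⟩
        · exact Or.inl ⟨_, hmv v hv, by show g * (g * _) = _; rw [← mul_assoc, hg1, one_mul]⟩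
        · exact Or.inr ⟨_, hmv v hv, by show g * (g * _) * z = _; rw [← mul_assoc, hg1, one_mul]⟩
      · rintro (⟨y, hy, rfl⟩ | ⟨y, hy, rfl⟩)
        · obtain ⟨v, hv, rfl⟩ := T.side_orbit (fun a ha => T.d_central a ha) hzg h256 h4 hgs hy
          exact ⟨v, hv, Or.inl (by show g * (v * g * v⁻¹) = _; rw [T.conj_of_bracket hg1, ← mul_assoc, hg1, one_mul])⟩
        · obtain ⟨v, hv, rfl⟩ := T.side_orbit (fun a ha => T.d_central a ha) hzg h256 h4 hgs hy
          exact ⟨v, hv, Or.inr (by show g * (v * g * v⁻¹) * z = _; rw [T.conj_of_bracket hg1, ← mul_assoc, hg1, one_mul])⟩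
    have hd : Disjoint ((fun y => g * y) '' Side z d g) ((fun y => g * y * z) '' Side z d g) := by
      rw [Set.disjoint_left]
      rintro _ ⟨y, hy, rfl⟩ ⟨y', hy', e⟩
      have e' : y' * z = y := mul_left_cancel (a := g) (by rw [← mul_assoc]; exact e)
      exact C.side_mul_z T N hsz hsd hzg hgd hgJ hg2 h256 hy' (e' ▸ hy)
    have := congrArg Set.ncard hset
    rw [Set.ncard_union_eq hd, Set.ncard_image_of_injective _ (mul_right_injective g),
      Set.ncard_image_of_injective _ (show Function.Injective fun y => g * y * z from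
        fun a b h => mul_left_cancel (mul_right_cancel h)), h4, ← Nat.card_coe_set_eq] at this
    simpa using this
  · rintro b ⟨v, hv, hb⟩
    have h1 : ⁅g, v⁆ ∈ coreAt z ∧ ⁅g, v⁆ ∈ C.U := by
      refine ⟨T.bracket_mem hzg hv, ?_⟩
      have := mul_mem (C.cls_le hg) (C.cls_le (Side.mem_cls (hmv v hv)))
      rwa [← mul_assoc, hg1, one_mul] at this
    have hzU : z ∈ C.U := C.cls_le ⟨1, Commute.one_right d, by group⟩
    rcases hb with rfl | rfl
    exacts [h1, ⟨mul_mem h1.1 T.z_mem, mul_mem h1.2 hzU⟩]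
  · rintro b ⟨v, hv, rfl | rfl⟩
    · exact Or.inl (hmv v hv)
    · right
      rw [← mul_assoc, mul_assoc, T.z2, mul_one]
      exact hmv v hv

/-- There is no exchanging element. -/
theorem absurd_swap : False := by
  classical
  obtain ⟨L, hL, hz, hJ⟩ := C.base
  have hzs : Commute z s := (comm_of_conj hsz).symm
  have hside : ∀ i, L i ∈ Side z d (L i) := fun i => C.side_self T (hL.mem i) (hz i).1
  have hsq := fun i => Cls.sq T (hL.mem i)
  have hLL : ∀ i j, L i * L j * (L i * L j) ∈ coreAt z := fun i j => by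
    rw [(hL.comm i j).symm.mul_mul_mul_comm, hsq, hsq, one_mul]; exact one_mem _
  have hcomm : ∀ i j y y', y ∈ Side z d (L i) → y' ∈ Side z d (L j) → Commute y y' := fun i j y y' h h' =>
    C.comm_side T (hz i).1 (hz j).1 h h' (hLL i j)
  choose B hB8 hBmem hBside using fun i => C.exists_shift T N hsz hsd (hL.mem i) (hz i).1 (hz i).2
  have hzB : Commute z z := Commute.refl z
  have hLz : ∀ i, Commute (L i) z := fun i => (hz i).1.symm
  -- elements of the shifts commute with the members and each other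
  have hBL : ∀ i j b, b ∈ B i → Commute (L j) b := fun i j b hb => by
    rcases hBside i b hb with h | h
    · have h' := (hL.comm j i).inv_right.mul_right (hcomm j i (L j) _ (hside j) h)
      rwa [inv_mul_cancel_left] at h'
    · have h' := ((hL.comm j i).inv_right.mul_right (hcomm j i (L j) _ (hside j) h)).mul_right (hLz j)
      rwa [← mul_assoc, ← mul_assoc, inv_mul_cancel, one_mul, mul_assoc, T.z2, mul_one] at h'
  have hBB : ∀ i j a b, a ∈ B i → b ∈ B j → Commute a b := fun i j a b ha hb => by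
    have hyz : ∀ {k c}, c ∈ B k → ∃ y ∈ Side z d (L k), c = (L k)⁻¹ * y ∨ c = (L k)⁻¹ * (y * z) := fun {k c} hc => by
      rcases hBside k c hc with h | h
      · exact ⟨_, h, Or.inl (by group)⟩
      · exact ⟨_, h, Or.inr (by rw [mul_assoc (L k * c) z z, T.z2, mul_one]; group)⟩
    obtain ⟨y, hy, ea⟩ := hyz ha
    have hay : Commute y b := by
      rcases hBside j b hb with h | h
      · have h' := ((hcomm i j y _ hy (hside j)).inv_right).mul_right (hcomm i j y _ hy h)
        rwa [inv_mul_cancel_left] at h'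
      · have hyz' : Commute y z := (hy.choose_spec.2.2.1).symm
        have h' := (((hcomm i j y _ hy (hside j)).inv_right).mul_right (hcomm i j y _ hy h)).mul_right hyz'
        rwa [← mul_assoc, ← mul_assoc, inv_mul_cancel, one_mul, mul_assoc, T.z2, mul_one] at h'
    have hzb : Commute z b := T.comm_z (hBmem j b hb).1
    rcases ea with rfl | rfl
    · exact (hBL j i b hb).inv_left.mul_left hay
    · exact (hBL j i b hb).inv_left.mul_left (hay.mul_left hzb)
  let B3 := B 2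
  let B4 := B 3
  let B5 := B 4
  let f : ↥B3 × ↥B4 × ↥B5 →* G :=
    { toFun := fun p => (p.1 : G) * p.2.1 * p.2.2
      map_one' := by simp
      map_mul' := fun p q => by
        show (p.1 : G) * q.1 * (p.2.1 * q.2.1) * (p.2.2 * q.2.2) = p.1 * p.2.1 * p.2.2 * (q.1 * q.2.1 * q.2.2)
        have h1 : Commute (q.1 : G) p.2.1 := hBB 2 3 _ _ q.1.2 p.2.1.2
        have h2 : Commute ((q.1 : G) * q.2.1) p.2.2 :=
          (hBB 2 4 _ _ q.1.2 p.2.2.2).mul_left (hBB 3 4 _ _ q.2.1.2 p.2.2.2)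
        calc (p.1 : G) * q.1 * (p.2.1 * q.2.1) * (p.2.2 * q.2.2)
            = p.1 * (q.1 * p.2.1) * q.2.1 * (p.2.2 * q.2.2) := by group
          _ = p.1 * p.2.1 * (q.1 * q.2.1 * p.2.2) * q.2.2 := by rw [h1.eq]; group
          _ = _ := by rw [h2.eq]; group }
  -- the image is small
  have hrange : Nat.card f.range ≤ 32 := by
    obtain ⟨hJ0, h0⟩ := C.tv _ (hL.mem 0) (hz 0).1 (hz 0).2
    have h64 := N.tv_two (L 0) (L 1) (hz 0).1 (C.cls_comm T (hL.mem 0)) (hz 1).1 (C.cls_comm T (hL.mem 1))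
      (by rw [hsq]; exact one_mem _) (by rw [hsq]; exact one_mem _) (C.tv _ (hL.mem 1) (hz 1).1 (hz 1).2).1
      (hJ 0 1 (by decide)) h0
    have hmem : ∀ r ∈ f.range, r ∈ coreAt z ∧ r ∈ C.U ∧ Commute (L 0) r ∧ Commute (L 1) r := by
      rintro _ ⟨⟨a, b, c⟩, rfl⟩
      exact ⟨mul_mem (mul_mem (hBmem 2 a a.2).1 (hBmem 3 b b.2).1) (hBmem 4 c c.2).1,
        mul_mem (mul_mem (hBmem 2 a a.2).2 (hBmem 3 b b.2).2) (hBmem 4 c c.2).2,
        ((hBL 2 0 a a.2).mul_right (hBL 3 0 b b.2)).mul_right (hBL 4 0 c c.2),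
        ((hBL 2 1 a a.2).mul_right (hBL 3 1 b b.2)).mul_right (hBL 4 1 c c.2)⟩
    have hd : Disjoint (f.range : Set G) ((fun r => d * r) '' (f.range : Set G)) := by
      rw [Set.disjoint_left]
      rintro _ hr ⟨r', hr', rfl⟩
      exact C.d_notMem ((C.U.mul_mem_cancel_right (hmem r' hr').2.1).1 (hmem _ hr).2.1)
    have hsub : (f.range : Set G) ∪ (fun r => d * r) '' (f.range : Set G) ⊆ fx z d (L 0) ∩ fx z d (L 1) := by
      have hdL : ∀ i, Commute (L i) d := fun i => (C.cls_comm T (hL.mem i)).symm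
      rintro _ (hr | ⟨r, hr, rfl⟩)
      · obtain ⟨h1, -, h3, h4⟩ := hmem _ hr
        exact ⟨T.mem_fx_of_comm h1 h3, T.mem_fx_of_comm h1 h4⟩
      · obtain ⟨h1, -, h3, h4⟩ := hmem r hr
        exact ⟨T.mem_fx_of_comm (mul_mem T.d_mem h1) ((hdL 0).mul_right h3),
          T.mem_fx_of_comm (mul_mem T.d_mem h1) ((hdL 1).mul_right h4)⟩
    have h := (Set.ncard_le_ncard hsub (Set.toFinite _)).trans h64
    rw [Set.ncard_union_eq hd, Set.ncard_image_of_injective _ (mul_right_injective d), ← Nat.card_coe_set_eq] at h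
    simp only [SetLike.coe_sort_coe] at h
    omega
  have hker : 16 ≤ Nat.card f.ker := by
    have h1 := f.ker.card_mul_index
    rw [Subgroup.index_ker, Nat.card_prod, Nat.card_prod, hB8, hB8, hB8] at h1
    nlinarith
  -- the member of a shift
  have hpr : ∀ (i) (b : B i), ∃ y ∈ Side z d (L i), (b : G) = (L i)⁻¹ * y ∨ (b : G) = (L i)⁻¹ * (y * z) := fun i b => by
    rcases hBside i b b.2 with h | h
    · exact ⟨_, h, Or.inl (by group)⟩
    · exact ⟨_, h, Or.inr (by rw [mul_assoc (L i * b) z z, T.z2, mul_one]; group)⟩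
  choose pr hprmem hprval using hpr
  let T3 : f.ker → G × G × G := fun p => (pr 2 p.1.1, pr 3 p.1.2.1, pr 4 p.1.2.2)
  -- few elements of the kernel have the same members
  have hfib : ∀ t, {p | T3 p = t}.ncard ≤ 4 := by
    intro t
    let bit : f.ker → Bool × Bool := fun p =>
      (decide ((p.1.1 : G) = (L 2)⁻¹ * t.1), decide ((p.1.2.1 : G) = (L 3)⁻¹ * t.2.1))
    refine le_trans (Set.ncard_le_ncard_of_injOn bit (fun p _ => Set.mem_univ _) ?_ (Set.toFinite _)) (by simp)
    intro p hp q hq hbit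
    simp only [bit, Prod.mk.injEq, decide_eq_decide] at hbit
    have eq1 : ∀ {i : Fin 5} {a b : B i} {y : G}, pr i a = y → pr i b = y →
        ((a : G) = (L i)⁻¹ * y ↔ (b : G) = (L i)⁻¹ * y) → a = b := fun {i a b y} ha hb hiff => by
      refine Subtype.ext ?_
      by_cases h : (a : G) = (L i)⁻¹ * y
      · rw [h, hiff.1 h]
      · have va := hprval i a
        have vb := hprval i b
        rw [ha] at va
        rw [hb] at vb
        rw [va.resolve_left h, vb.resolve_left fun h' => h (hiff.2 h')]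
    simp only [Set.mem_ofPred_eq, T3, Prod.ext_iff] at hp hq
    have e3 := eq1 hp.1 hq.1 hbit.1
    have e4 := eq1 hp.2.1 hq.2.1 hbit.2
    have hp1 : (p.1.1 : G) * p.1.2.1 * p.1.2.2 = 1 := p.2
    have hq1 : (q.1.1 : G) * q.1.2.1 * q.1.2.2 = 1 := q.2
    rw [e3, e4, ← hq1] at hp1
    exact Subtype.ext (Prod.ext e3 (Prod.ext e4 (Subtype.ext (mul_left_cancel hp1))))
  have himg : 3 ≤ (Set.range T3).ncard := by
    by_contra hlt
    have hfin := Set.toFinite (Set.range T3)
    have hcov : (Set.univ : Set f.ker) ⊆ ⋃ t ∈ hfin.toFinset, {p | T3 p = t} := fun p _ => by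
      simp only [Set.mem_iUnion]
      exact ⟨T3 p, hfin.mem_toFinset.2 ⟨p, rfl⟩, rfl⟩
    have h1 := (Set.ncard_le_ncard hcov (Set.toFinite _)).trans ((Finset.set_ncard_biUnion_le _ _).trans
      (Finset.sum_le_card_nsmul _ _ 4 fun t _ => hfib t))
    rw [Set.ncard_univ, smul_eq_mul, ← Set.ncard_eq_toFinset_card] at h1
    omega
  -- one of them is different from the base; all such give a five of product `z`
  have hfive : ∀ t ∈ Set.range T3, t ≠ (L 2, L 3, L 4) → IsFive (Cls z d) ![L 0, L 1, t.1, t.2.1, t.2.2] z := by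
    rintro _ ⟨p, rfl⟩ hne
    set M : Fin 5 → G := ![L 0, L 1, (T3 p).1, (T3 p).2.1, (T3 p).2.2] with hM
    have hMmem : ∀ i, M i ∈ Side z d (L i) := by
      intro i; fin_cases i
      exacts [hside 0, hside 1, hprmem 2 _, hprmem 3 _, hprmem 4 _]
    have hMinj : Function.Injective M := fun i j h => by
      by_contra hij
      apply hJ i j hij
      obtain ⟨-, -, -, -, h1⟩ := hMmem i
      obtain ⟨-, -, -, -, h2⟩ := hMmem j
      have := mul_mem h1 (inv_mem h2)
      rwa [← h, show (L i)⁻¹ * M i * ((L j)⁻¹ * M i)⁻¹ = (L i)⁻¹ * L j by group] at this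
    have hMcls : ∀ i, M i ∈ Cls z d := fun i => Side.mem_cls (hMmem i)
    have hMc : ∀ i j, Commute (M i) (M j) := fun i j => hcomm i j _ _ (hMmem i) (hMmem j)
    refine ⟨hMcls, hMc, hMinj, ?_⟩
    -- the product is 1 or z
    have hzc : ∀ i, Commute z (M i) := fun i => (hMmem i).choose_spec.2.2.1
    have hp1 : (p.1.1 : G) * p.1.2.1 * p.1.2.2 = 1 := p.2
    have hPz : M 0 * M 1 * M 2 * M 3 * M 4 = 1 ∨ M 0 * M 1 * M 2 * M 3 * M 4 = z := by
      have key : ∀ i (b : B i), ∃ η, (η = 1 ∨ η = z) ∧ L i * b = pr i b * η := fun i b => by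
        rcases hprval i b with h | h <;> rw [h, mul_inv_cancel_left]
        exacts [⟨1, Or.inl rfl, (mul_one _).symm⟩, ⟨z, Or.inr rfl, rfl⟩]
      obtain ⟨η2, hη2, k2⟩ := key 2 p.1.1
      obtain ⟨η3, hη3, k3⟩ := key 3 p.1.2.1
      obtain ⟨η4, hη4, k4⟩ := key 4 p.1.2.2
      have hηc : ∀ {η x : G}, (η = 1 ∨ η = z) → Commute z x → Commute η x := fun {η x} h hx => by
        rcases h with rfl | rfl; exacts [Commute.one_left x, hx]
      have hprod : L 0 * L 1 * (L 2 * p.1.1) * (L 3 * p.1.2.1) * (L 4 * p.1.2.2) = 1 := by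
        have c1 : Commute (p.1.1 : G) (L 3) := (hBL 2 3 _ p.1.1.2).symm
        have c2 : Commute ((p.1.1 : G) * p.1.2.1) (L 4) :=
          (hBL 2 4 _ p.1.1.2).symm.mul_left (hBL 3 4 _ p.1.2.1.2).symm
        calc L 0 * L 1 * (L 2 * p.1.1) * (L 3 * p.1.2.1) * (L 4 * p.1.2.2)
            = L 0 * L 1 * L 2 * (p.1.1 * L 3) * p.1.2.1 * (L 4 * p.1.2.2) := by group
          _ = L 0 * L 1 * L 2 * L 3 * (p.1.1 * p.1.2.1 * L 4) * p.1.2.2 := by rw [c1.eq]; group
          _ = L 0 * L 1 * L 2 * L 3 * L 4 * ((p.1.1 : G) * p.1.2.1 * p.1.2.2) := by rw [c2.eq]; group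
          _ = 1 := by rw [hp1, hL.prod, mul_one]
      rw [k2, k3, k4] at hprod
      have hz3 : Commute z (M 3) := hzc 3
      have hz4 : Commute z (M 4) := hzc 4
      have hprod' : M 0 * M 1 * (M 2 * η2) * (M 3 * η3) * (M 4 * η4) = 1 := hprod
      have e : M 0 * M 1 * M 2 * M 3 * M 4 * (η2 * η3 * η4) = 1 := by
        rw [← hprod']
        have hη23 : Commute (η2 * η3) (M 4) := (hηc hη2 hz4).mul_left (hηc hη3 hz4)
        calc M 0 * M 1 * M 2 * M 3 * M 4 * (η2 * η3 * η4)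
            = M 0 * M 1 * M 2 * M 3 * (M 4 * (η2 * η3)) * η4 := by group
          _ = M 0 * M 1 * M 2 * (M 3 * η2) * η3 * M 4 * η4 := by rw [← hη23.eq]; group
          _ = _ := by rw [← (hηc hη2 hz3).eq]; group
      rw [mul_eq_one_iff_eq_inv] at e
      rw [e]
      rcases hη2 with rfl | rfl <;> rcases hη3 with rfl | rfl <;> rcases hη4 with rfl | rfl <;>
        simp [T.z_inv, T.z2]
    refine hPz.resolve_left fun h1 => hne ?_
    have hM' : IsFive (Cls z d) M 1 := ⟨hMcls, hMc, hMinj, h1⟩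
    have heq : ∀ i, M i = L i := fun i => by
      obtain ⟨j, hj⟩ := C.uniq L M hL hM' rfl rfl i
      by_cases hij : i = j
      · rw [hj, hij]
      · exact absurd (hj ▸ (hMmem i).choose_spec.2.2.2 : (L i)⁻¹ * L j ∈ coreAt z) (hJ i j hij)
    exact Prod.ext (heq 2) (Prod.ext (heq 3) (heq 4))
  -- two different fives of product `z` have images of product one with two common members
  obtain ⟨t, ht, htne, t', ht', ht'ne, hne⟩ : ∃ t ∈ Set.range T3, t ≠ (L 2, L 3, L 4) ∧ ∃ t' ∈ Set.range T3,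
      t' ≠ (L 2, L 3, L 4) ∧ t' ≠ t := by
    by_contra hcon
    push Not at hcon
    by_cases h : ∃ t ∈ Set.range T3, t ≠ (L 2, L 3, L 4)
    · obtain ⟨t, ht, htne⟩ := h
      have := Set.ncard_le_ncard (t := {(L 2, L 3, L 4), t}) (fun t' ht' => or_iff_not_imp_left.2 fun h' =>
        hcon t ht htne t' ht' h') (Set.toFinite _)
      have := this.trans (Set.ncard_insert_le _ _)
      rw [Set.ncard_singleton] at this
      omega
    · push Not at h
      have := Set.ncard_le_ncard (t := {(L 2, L 3, L 4)}) (fun t ht => h t ht) (Set.toFinite _)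
      rw [Set.ncard_singleton] at this
      omega
  let M : G × G × G → Fin 5 → G := fun t => ![L 0, L 1, t.1, t.2.1, t.2.2]
  have himage : ∀ t ∈ Set.range T3, t ≠ (L 2, L 3, L 4) →
      IsFive (Cls z d) (fun i => s * M t i * s⁻¹ * z) 1 ∧ ∀ i, M t i ∈ Side z d (L i) := by
    intro t ht htne
    have h5 := hfive t ht htne
    have hS : ∀ i, M t i ∈ Side z d (L i) := by
      obtain ⟨p, rfl⟩ := ht
      intro i; fin_cases i
      exacts [hside 0, hside 1, hprmem 2 _, hprmem 3 _, hprmem 4 _]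
    have hzM : ∀ i, Commute z (M t i) := fun i => (hS i).choose_spec.2.2.1
    have hMne : ∀ i, M t i ≠ z := fun i h => by
      have := (hS i).choose_spec.2.2.2
      rw [h] at this
      exact (C.tv _ (hL.mem i) (hz i).1 (hz i).2).1 (inv_mem_iff.1 (((coreAt z).mul_mem_cancel_right T.z_mem).1 this))
    have hzsM : ∀ i, Commute z (s * M t i * s⁻¹) := fun i => (hzs.mul_right (hzM i)).mul_right hzs.inv_right
    refine ⟨⟨fun i => C.swap_mem T N hsz hsd (h5.mem i) (hzM i) (hMne i), fun i j => ?_, fun i j h => ?_, ?_⟩, hS⟩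
    · exact ((conj_comm (h5.comm i j)).mul_right (hzsM i).symm).mul_left ((hzsM j).mul_right (Commute.refl z))
    · exact h5.inj (mul_left_cancel (mul_right_cancel (mul_right_cancel h)))
    · have hP := h5.prod
      set a := s * M t 0 * s⁻¹
      set b := s * M t 1 * s⁻¹
      set c := s * M t 2 * s⁻¹
      set u := s * M t 3 * s⁻¹
      set w := s * M t 4 * s⁻¹
      have hpz : a * b * c * u * w = z := by
        calc a * b * c * u * w = s * (M t 0 * M t 1 * M t 2 * M t 3 * M t 4) * s⁻¹ := by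
              simp only [a, b, c, u, w]; group
          _ = s * z * s⁻¹ := congrArg (fun e => s * e * s⁻¹) hP
          _ = z := hsz
      have hzb : z * b = b * z := (hzsM 1).eq
      have hzu : z * u = u * z := (hzsM 3).eq
      show a * z * (b * z) * (c * z) * (u * z) * (w * z) = 1
      calc a * z * (b * z) * (c * z) * (u * z) * (w * z) = a * (z * b) * z * c * z * (u * z) * (w * z) := by group
        _ = a * b * (z * z) * c * z * (u * z) * (w * z) := by rw [hzb]; group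
        _ = a * b * c * (z * u) * z * (w * z) := by rw [T.z2]; group
        _ = a * b * c * u * (z * z) * w * z := by rw [hzu]; group
        _ = 1 := by rw [T.z2, mul_one, hpz, T.z2]
  obtain ⟨F, hS⟩ := himage t ht htne
  obtain ⟨F', hS'⟩ := himage t' ht' ht'ne
  have heq : ∀ i, M t' i = M t i := fun i => by
    obtain ⟨j, hj⟩ := C.uniq _ _ F F' rfl rfl i
    have e : M t' i = M t j := mul_left_cancel (mul_right_cancel (mul_right_cancel hj))
    by_cases hij : i = j
    · rw [e, hij]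
    · refine absurd ?_ (hJ i j hij)
      obtain ⟨-, -, -, -, h1⟩ := hS' i
      obtain ⟨-, -, -, -, h2⟩ := hS j
      have := mul_mem h1 (inv_mem h2)
      rwa [← e, show (L i)⁻¹ * M t' i * ((L j)⁻¹ * M t' i)⁻¹ = (L i)⁻¹ * L j by group] at this
  exact hne (Prod.ext (heq 2) (Prod.ext (heq 3) (heq 4)))

end Complement

end Cfsg.Agent.Fi22Two
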