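import Cfsg.Agent.Lib.Fi22Two.Frame

/-!
An involution outside the core has no square root which centralises its centraliser in the core.
-/

set_option autoImplicit false
set_option linter.style.haveILetI false
set_option linter.unusedSectionVars false

namespace Cfsg.Agent.Fi22Two.Two

open Subgroup LargeExtra
open scoped commutatorElement

variable {G : Type*} [Group G] [Finite G] {z d : G} (T : Two z d)

include T

/-- The commutator with a square. -/
theorem bracket_sq {g a : G} : ⁅g * g, a⁆ = g * ⁅g, a⁆ * g⁻¹ * ⁅g, a⁆ := by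
  simp [commutatorElement_def, mul_assoc]

/-- No square root centralising the centraliser. -/
theorem no_root {t y : G} (htz : Commute z t) (htd : Commute d t) (hty : t * t = y) (hy2 : y * y = 1)
    (hyJ : y ∉ coreAt z) (h : ∀ a ∈ coreAt z, Commute a y → Commute t a) : False := by
  have hyz : Commute z y := hty ▸ htz.mul_right htz
  have hyd : Commute d y := hty ▸ htd.mul_right htd
  have hyi : y⁻¹ = y := inv_eq_of_mul_eq_one_right hy2
  have hyt : Commute y t := hty ▸ (Commute.refl t).mul_left (Commute.refl t)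
  -- commuting modulo the centre is commuting
  have hfix : ∀ k ∈ coreAt z, ⁅t, k⁆ ∈ Zc z d → Commute t k := fun k hk hζ => h k hk (by
    refine (commutatorElement_eq_one_iff_commute.1 ?_).symm
    rw [← hty, T.bracket_sq, conj_of_comm (T.Zc_comm hζ htz htd).symm, T.Zc_sq hζ])
  -- a product with a member of the core
  have hbr : ∀ a ∈ coreAt z, y * a * y⁻¹ = ⁅y, a⁆ * a := fun a _ => comm_elem_eq.symm
  -- commutators with `y` are involutions centralised by `t`
  have hα : ∀ v ∈ coreAt z, Commute t ⁅y, v⁆ ∧ ⁅y, v⁆ * ⁅y, v⁆ = 1 := by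
    intro v hv
    have hαJ := T.bracket_mem hyz hv
    set α := ⁅y, v⁆ with hαdef
    have hyα : y * α * y⁻¹ = α⁻¹ := by
      rw [hαdef]
      simp [commutatorElement_def, hyi, mul_assoc, ← mul_assoc y y, hy2]
    have hε : α⁻¹ = α ∨ α⁻¹ = z * α := by
      rcases T.sq α hαJ with e | e
      · exact Or.inl (inv_eq_of_mul_eq_one_right e)
      · right
        rw [inv_eq_iff_mul_eq_one, ← mul_assoc, (T.comm_z hαJ).eq.symm, mul_assoc, e, T.z2]
    have hkJ := T.bracket_mem htz hαJ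
    set k := ⁅t, α⁆ with hkdef
    have hyk : y * k * y⁻¹ = k := by
      rw [hkdef, show y * ⁅t, α⁆ * y⁻¹ = ⁅y * t * y⁻¹, y * α * y⁻¹⁆ by simp [commutatorElement_def, mul_assoc],
        conj_of_comm hyt, hyα]
      rcases hε with e | e <;> rw [e]
      rw [show ⁅t, z * α⁆ = ⁅t, z⁆ * (z * ⁅t, α⁆ * z⁻¹) by simp [commutatorElement_def, mul_assoc],
        commutatorElement_eq_one_iff_commute.2 htz.symm, one_mul, conj_of_comm (T.comm_z hkJ)]
    have hyk' : Commute k y := (comm_of_conj hyk).symm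
    have htk : Commute t k := h k hkJ hyk'
    -- `k` commutes with `α`
    have hkα : Commute k α := by
      rw [← commutatorElement_eq_one_iff_commute]
      have e1 : ⁅k, y * v * y⁻¹⁆ = ⁅k, v⁆ := by
        calc ⁅k, y * v * y⁻¹⁆ = ⁅y * k * y⁻¹, y * v * y⁻¹⁆ := by rw [hyk]
          _ = y * ⁅k, v⁆ * y⁻¹ := by simp [commutatorElement_def, mul_assoc]
          _ = ⁅k, v⁆ := by
            rcases T.comm k hkJ v hv with e | e <;> rw [e]
            · group
            · exact conj_of_comm hyz.symm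
      rw [← comm_elem_eq (g := y), ← hαdef,
        show ⁅k, α * v⁆ = ⁅k, α⁆ * (α * ⁅k, v⁆ * α⁻¹) by simp [commutatorElement_def, mul_assoc]] at e1
      rwa [show α * ⁅k, v⁆ * α⁻¹ = ⁅k, v⁆ by
        rcases T.comm k hkJ v hv with e | e <;> rw [e]
        · group
        · exact conj_of_comm (T.comm_z hαJ).symm, mul_eq_right] at e1
    have htα : t * α * t⁻¹ = k * α := comm_elem_eq.symm
    -- `k` is an involution
    have hk2 : k * k = 1 := by
      have e1 : t * (α * α) * t⁻¹ = α * α := by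
        rcases T.sq α hαJ with e | e <;> rw [e]
        · group
        · exact conj_of_comm htz.symm
      rw [show t * (α * α) * t⁻¹ = (t * α * t⁻¹) * (t * α * t⁻¹) by group, htα, hkα.symm.mul_mul_mul_comm,
        mul_eq_right] at e1
      exact e1
    have hyα' : ⁅y, α⁆ = 1 := by
      rw [← hty, T.bracket_sq, ← hkdef, conj_of_comm htk, hk2]
    have hc : Commute y α := commutatorElement_eq_one_iff_commute.1 hyα'
    refine ⟨h α hαJ hc.symm, ?_⟩
    rw [conj_of_comm hc] at hyα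
    exact mul_eq_one_iff_eq_inv.2 hyα
  -- the commutators with `t` are centralised by `y` modulo the centre
  have hm : ∀ v ∈ coreAt z, ⁅y, ⁅t, v⁆⁆ = 1 ∨ ⁅y, ⁅t, v⁆⁆ = z := by
    intro v hv
    have hαJ := T.bracket_mem hyz hv
    have e : y * ⁅t, v⁆ * y⁻¹ = ⁅y, v⁆ * ⁅t, v⁆ * ⁅y, v⁆⁻¹ := by
      rw [show y * ⁅t, v⁆ * y⁻¹ = ⁅y * t * y⁻¹, y * v * y⁻¹⁆ by simp [commutatorElement_def, mul_assoc],
        conj_of_comm hyt, hbr v hv,
        show ⁅t, ⁅y, v⁆ * v⁆ = ⁅t, ⁅y, v⁆⁆ * (⁅y, v⁆ * ⁅t, v⁆ * ⁅y, v⁆⁻¹) by simp [commutatorElement_def, mul_assoc],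
        commutatorElement_eq_one_iff_commute.2 (hα v hv).1, one_mul]
    rw [commutatorElement_def y ⁅t, v⁆, e, ← commutatorElement_def]
    exact T.comm _ hαJ _ (T.bracket_mem htz hv)
  -- of two elements, one or the product has its commutator centralised
  have htv : ∀ v ∈ coreAt z, ∀ w ∈ coreAt z, ¬ Commute y ⁅t, v⁆ → ¬ Commute y ⁅t, w⁆ → Commute y ⁅t, v * w⁆ := by
    intro v hv w hw h1 h2
    have f1 : ⁅y, ⁅t, v⁆⁆ = z := (hm v hv).resolve_left fun e => h1 (commutatorElement_eq_one_iff_commute.1 e)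
    have f2 : ⁅y, ⁅t, w⁆⁆ = z := (hm w hw).resolve_left fun e => h2 (commutatorElement_eq_one_iff_commute.1 e)
    have ew : ⁅t, v * w⁆ = ⁅t, v⁆ * (v * ⁅t, w⁆ * v⁻¹) := by simp [commutatorElement_def, mul_assoc]
    have f2' : ⁅y, v * ⁅t, w⁆ * v⁻¹⁆ = z := by
      rcases T.conj_cases hv (T.bracket_mem htz hw) with e | e <;> rw [e]
      · exact f2
      · rw [show ⁅y, ⁅t, w⁆ * z⁆ = ⁅y, ⁅t, w⁆⁆ * (⁅t, w⁆ * ⁅y, z⁆ * ⁅t, w⁆⁻¹) by simp [commutatorElement_def, mul_assoc],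
          commutatorElement_eq_one_iff_commute.2 hyz.symm, mul_one, mul_inv_cancel, mul_one, f2]
    refine commutatorElement_eq_one_iff_commute.1 ?_
    rw [ew, show ⁅y, ⁅t, v⁆ * (v * ⁅t, w⁆ * v⁻¹)⁆ = ⁅y, ⁅t, v⁆⁆ * (⁅t, v⁆ * ⁅y, v * ⁅t, w⁆ * v⁻¹⁆ * ⁅t, v⁆⁻¹) by
      simp [commutatorElement_def, mul_assoc], f1, f2', conj_of_comm (T.comm_z (T.bracket_mem htz hv)).symm, T.z2]
  -- such elements are fixed modulo the centre
  have hfx : ∀ v ∈ coreAt z, Commute y ⁅t, v⁆ → ⁅y, v⁆ ∈ Zc z d := by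
    intro v hv hc
    have htm : Commute t ⁅t, v⁆ := h _ (T.bracket_mem htz hv) hc.symm
    rw [← hty, T.bracket_sq, conj_of_comm htm]
    rcases T.sq _ (T.bracket_mem htz hv) with e | e <;> rw [e]
    · exact T.one_mem_Zc
    · exact T.z_mem_Zc
  -- the commutators with `y` are orthogonal to the fixed elements
  have horth : ∀ v ∈ coreAt z, ∀ b ∈ coreAt z, ⁅y, b⁆ ∈ Zc z d → Commute ⁅y, v⁆ b := by
    intro v hv b hb hζ
    have hαJ := T.bracket_mem hyz hv
    rw [← commutatorElement_eq_one_iff_commute]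
    have e1 : ⁅⁅y, v⁆ * v, ⁅y, b⁆ * b⁆ = ⁅v, b⁆ := by
      rw [comm_elem_eq, comm_elem_eq, show ⁅y * v * y⁻¹, y * b * y⁻¹⁆ = y * ⁅v, b⁆ * y⁻¹ by
        simp [commutatorElement_def, mul_assoc]]
      rcases T.comm v hv b hb with e | e <;> rw [e]
      · group
      · exact conj_of_comm hyz.symm
    have e2 : ⁅⁅y, v⁆ * v, ⁅y, b⁆ * b⁆ = ⁅⁅y, v⁆ * v, b⁆ := by
      rw [show ⁅⁅y, v⁆ * v, ⁅y, b⁆ * b⁆ = ⁅⁅y, v⁆ * v, ⁅y, b⁆⁆ * (⁅y, b⁆ * ⁅⁅y, v⁆ * v, b⁆ * ⁅y, b⁆⁻¹) by
        simp [commutatorElement_def, mul_assoc],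
        commutatorElement_eq_one_iff_commute.2 (T.Zc_central hζ (mul_mem hαJ hv)).symm, one_mul]
      exact conj_of_comm (T.Zc_central hζ (T.bracket_mem (T.comm_z (mul_mem hαJ hv)) hb))
    rw [e2, show ⁅⁅y, v⁆ * v, b⁆ = ⁅y, v⁆ * ⁅v, b⁆ * ⁅y, v⁆⁻¹ * ⁅⁅y, v⁆, b⁆ by
      simp [commutatorElement_def, mul_assoc]] at e1
    rwa [show ⁅y, v⁆ * ⁅v, b⁆ * ⁅y, v⁆⁻¹ = ⁅v, b⁆ by
      rcases T.comm v hv b hb with e | e <;> rw [e]
      · group
      · exact conj_of_comm (T.comm_z hαJ).symm, mul_eq_left] at e1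
  refine hyJ (T.faithful hyz fun v hv => ?_)
  by_contra hvn
  have hvt : ¬ Commute y ⁅t, v⁆ := fun hc => hvn (hfx v hv hc)
  have hαJ := T.bracket_mem hyz hv
  set α := ⁅y, v⁆ with hαdef
  refine hvn (T.center α hαJ fun b hb => ?_)
  have hαv : Commute α v := by
    have e1 : y * (v * v) * y⁻¹ = v * v := by
      rcases T.sq v hv with e | e <;> rw [e]
      · group
      · exact conj_of_comm hyz.symm
    rw [show y * (v * v) * y⁻¹ = y * v * y⁻¹ * (y * v * y⁻¹) by group, hbr v hv, ← hαdef] at e1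
    have hαi : α⁻¹ = α := inv_eq_of_mul_eq_one_right (hα v hv).2
    show α * v = v * α
    calc α * v = α * v * (α * v) * (v⁻¹ * α⁻¹) := by group
      _ = v * v * (v⁻¹ * α⁻¹) := by rw [e1]
      _ = v * α := by rw [hαi]; group
  by_cases hbt : Commute y ⁅t, b⁆
  · exact horth v hv b hb (hfx b hb hbt)
  have := horth v hv (v * b) (mul_mem hv hb) (hfx _ (mul_mem hv hb) (htv v hv b hb hvt hbt))
  have := hαv.inv_right.mul_right this
  rwa [inv_mul_cancel_left] at this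

end Cfsg.Agent.Fi22Two.Two
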