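import Cfsg.Agent.Lib.Fi22Two.Small
import Cfsg.Agent.Lib.Fi22Two.SquareRoot

/-!
The case of a fixed plane in the core: `pl` is the preimage of the plane, and it is not abelian. The plane
may or may not have singular vectors.
-/

set_option autoImplicit false
set_option linter.style.haveILetI false
set_option linter.unusedSectionVars false

namespace Cfsg.Agent.Fi22Two

open Subgroup LargeExtra
open scoped commutatorElement

variable {G : Type*} [Group G] [Finite G]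

/-- The facts in the case of a fixed plane. -/
structure Plane (z d : G) where
  /-- The elements inducing inner automorphisms. -/
  inn : Subgroup G
  inn_z : ∀ g ∈ inn, Commute z g
  inn_d : ∀ g ∈ inn, Commute d g
  inn_mul : ∀ g h, Commute z g → Commute d g → Commute z h → Commute d h → g ∉ inn → h ∉ inn → g * h ∈ inn
  /-- The preimage of the plane. -/
  pl : Subgroup G
  pl_le : pl ≤ coreAt z
  Zc_le : ∀ a ∈ Zc z d, a ∈ pl
  pl_norm : ∀ g, Commute z g → ∀ t ∈ pl, g * t * g⁻¹ ∈ pl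
  pl_inn : ∀ g ∈ inn, ∀ t ∈ pl, ⁅g, t⁆ = 1 ∨ ⁅g, t⁆ = z
  pl_comm : ∀ a ∈ pl, ∀ b ∈ pl, a ∉ Zc z d → b ∉ Zc z d → a * b ∉ Zc z d → ⁅a, b⁆ = z
  pl_big : ∃ a ∈ pl, ∃ b ∈ pl, a ∉ Zc z d ∧ b ∉ Zc z d ∧ a * b ∉ Zc z d
  /-- An element of square `z` orthogonal to the plane and almost centralised by a given inner involution. -/
  perp_root : ∀ g ∈ inn, g * g ∈ coreAt z →
    ∃ a ∈ coreAt z, a * a = z ∧ (∀ t ∈ pl, Commute t a) ∧ (⁅g, a⁆ = 1 ∨ ⁅g, a⁆ = z)
  five : ∀ a ∈ coreAt z, a ∉ pl → a * a = 1 → (∀ t ∈ pl, Commute t a) →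
    ∃ r, Commute z r ∧ Commute a r ∧ r ^ 5 = 1 ∧ r ≠ 1
  five_triv : ∀ a ∈ coreAt z, a ∉ pl → a * a = 1 → (∀ t ∈ pl, Commute t a) →
    ∀ r, Commute z r → Commute a r → r ^ 5 = 1 → r ≠ 1 →
    ∀ e, Commute z e → Commute d e → Commute r e → Commute a e → e ^ 4 = 1 → e ∈ coreAt z

/-- A group that is generated by commutators and the core moves the plane by `z` at most. -/
theorem pl_cases {z d : G} (T : Two z d) {inn pl : Subgroup G} (hz : ∀ g ∈ inn, Commute z g)
    (hd : ∀ g ∈ inn, Commute d g) (hpl : pl ≤ coreAt z) (h : ∀ g ∈ inn, ∀ t ∈ pl, ⁅g, t⁆ ∈ Zc z d)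
    (hgen : inn ≤ ⁅inn, inn⁆ ⊔ coreAt z) : ∀ g ∈ inn, ∀ t ∈ pl, ⁅g, t⁆ = 1 ∨ ⁅g, t⁆ = z := by
  let C : Subgroup G :=
    { carrier := {g | Commute z g ∧ ∀ t ∈ pl, ⁅g, t⁆ = 1 ∨ ⁅g, t⁆ = z}
      one_mem' := ⟨Commute.one_right z, fun t _ => Or.inl (commutatorElement_one_left t)⟩
      mul_mem' := fun {g g'} hg hg' => ⟨hg.1.mul_right hg'.1, fun t ht => by
        rw [show ⁅g * g', t⁆ = g * ⁅g', t⁆ * g⁻¹ * ⁅g, t⁆ by simp [commutatorElement_def, mul_assoc]]
        rcases hg'.2 t ht with e | e <;> rw [e]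
        · rw [mul_one, mul_inv_cancel, one_mul]; exact hg.2 t ht
        · rw [conj_of_comm hg.1.symm]
          rcases hg.2 t ht with e' | e' <;> rw [e']
          · exact Or.inr (mul_one z)
          · exact Or.inl T.z2⟩
      inv_mem' := fun {g} hg => ⟨hg.1.inv_right, fun t ht => by
        rw [show ⁅g⁻¹, t⁆ = g⁻¹ * ⁅g, t⁆⁻¹ * g by simp [commutatorElement_def, mul_assoc]]
        rcases hg.2 t ht with e | e <;> rw [e]
        · left; group
        · right; rw [T.z_inv, mul_assoc, hg.1.eq, inv_mul_cancel_left]⟩ }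
  have hle : ⁅inn, inn⁆ ⊔ coreAt z ≤ C := by
    refine sup_le (commutator_le.2 fun g hg k hk => ?_) fun a ha => ⟨T.comm_z ha, fun t ht => T.comm a ha t (hpl ht)⟩
    refine ⟨((((hz g hg).mul_right (hz k hk)).mul_right (hz g hg).inv_right).mul_right (hz k hk).inv_right),
      fun t ht => Or.inl (commutatorElement_eq_one_iff_commute.2 ?_)⟩
    have act : ∀ x ∈ inn, ∃ ζ ∈ Zc z d, x * t * x⁻¹ = ζ * t ∧ x⁻¹ * t * x = ζ * t := fun x hx => by
      have hζ := h x hx t ht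
      refine ⟨_, hζ, comm_elem_eq.symm, ?_⟩
      have e : x * (⁅x, t⁆ * t) * x⁻¹ = t := by
        rw [show x * (⁅x, t⁆ * t) * x⁻¹ = x * ⁅x, t⁆ * x⁻¹ * (x * t * x⁻¹) by group,
          conj_of_comm (T.Zc_comm hζ (hz x hx) (hd x hx)).symm, ← comm_elem_eq, ← mul_assoc, T.Zc_sq hζ, one_mul]
      nth_rw 1 [← e]
      group
    obtain ⟨ζ, hζ, e1, e2⟩ := act g hg
    obtain ⟨η, hη, e3, e4⟩ := act k hk
    have hζc : ∀ x ∈ inn, ∀ η ∈ Zc z d, x * η * x⁻¹ = η := fun x hx η hη =>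
      conj_of_comm (T.Zc_comm hη (hz x hx) (hd x hx)).symm
    refine comm_of_conj ?_
    rw [commutatorElement_def]
    calc g * k * g⁻¹ * k⁻¹ * t * (g * k * g⁻¹ * k⁻¹)⁻¹
        = g * (k * (g⁻¹ * (k⁻¹ * t * k) * g) * k⁻¹) * g⁻¹ := by group
      _ = g * (k * (g⁻¹ * η * g * (g⁻¹ * t * g)) * k⁻¹) * g⁻¹ := by rw [e4]; group
      _ = g * (k * (η * (ζ * t)) * k⁻¹) * g⁻¹ := by
          rw [e2, show g⁻¹ * η * g = η by simpa using hζc g⁻¹ (inv_mem hg) η hη]
      _ = g * (k * η * k⁻¹ * (k * ζ * k⁻¹ * (k * t * k⁻¹))) * g⁻¹ := by group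
      _ = g * (η * (ζ * (η * t))) * g⁻¹ := by rw [hζc k hk η hη, hζc k hk ζ hζ, e3]
      _ = g * (ζ * t) * g⁻¹ := by
          rw [show η * (ζ * (η * t)) = η * (ζ * η) * t by group,
            (T.Zc_central hζ (T.Zc_mem hη)).eq, ← mul_assoc η η, T.Zc_sq hη, one_mul]
      _ = g * ζ * g⁻¹ * (g * t * g⁻¹) := by group
      _ = t := by rw [hζc g hg ζ hζ, e1, ← mul_assoc, T.Zc_sq hζ, one_mul]
  intro g hg t ht
  exact (hle (hgen hg)).2 t ht

/-- The commutator with an involution of its commutator. -/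
theorem bracket_self {H : Type*} [Group H] {k w : H} (hk : k * k = 1) : ⁅k, ⁅k, w⁆⁆ = (⁅k, w⁆ * ⁅k, w⁆)⁻¹ := by
  simp [commutatorElement_def, inv_eq_of_mul_eq_one_right hk, mul_assoc, ← mul_assoc k k, hk]

namespace Plane

variable {z d : G}

/-- The facts move with conjugation. -/
def conj (P : Plane z d) (g : G) : Plane (g * z * g⁻¹) (g * d * g⁻¹) where
  inn := P.inn.map (MulAut.conj g).toMonoidHom
  inn_z := by rintro _ ⟨a, ha, rfl⟩; exact conj_comm (P.inn_z a ha)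
  inn_d := by rintro _ ⟨a, ha, rfl⟩; exact conj_comm (P.inn_d a ha)
  inn_mul := fun a b ha ha' hb hb' hna hnb => by
    rw [mem_conjMap] at hna hnb ⊢
    rw [show g⁻¹ * (a * b) * g = g⁻¹ * a * g * (g⁻¹ * b * g) by group]
    exact P.inn_mul _ _ (comm_conj_back ha) (comm_conj_back ha') (comm_conj_back hb) (comm_conj_back hb') hna hnb
  pl := P.pl.map (MulAut.conj g).toMonoidHom
  pl_le := by rw [coreAt_conj]; exact map_mono P.pl_le
  Zc_le := fun a ha => mem_conjMap.2 (P.Zc_le _ (by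
    have := mem_Zc_conj (g := g⁻¹) ha
    simpa [mul_assoc] using this))
  pl_norm := fun a ha t ht => by
    rw [mem_conjMap] at ht ⊢
    rw [show g⁻¹ * (a * t * a⁻¹) * g = g⁻¹ * a * g * (g⁻¹ * t * g) * (g⁻¹ * a * g)⁻¹ by group]
    exact P.pl_norm _ (comm_conj_back ha) _ ht
  pl_inn := by
    rintro _ ⟨a, ha, rfl⟩ _ ⟨t, ht, rfl⟩
    show ⁅g * a * g⁻¹, g * t * g⁻¹⁆ = 1 ∨ ⁅g * a * g⁻¹, g * t * g⁻¹⁆ = g * z * g⁻¹
    rw [bracket_conj]
    exact (P.pl_inn a ha t ht).imp (fun h => by rw [h]; group) fun h => by rw [h]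
  pl_comm := by
    rintro _ ⟨a, ha, rfl⟩ _ ⟨b, hb, rfl⟩ h1 h2 h3
    show ⁅g * a * g⁻¹, g * b * g⁻¹⁆ = g * z * g⁻¹
    rw [bracket_conj, P.pl_comm a ha b hb (fun h => h1 (mem_Zc_conj h)) (fun h => h2 (mem_Zc_conj h)) fun h => h3 (by
      show g * a * g⁻¹ * (g * b * g⁻¹) ∈ _
      rw [show g * a * g⁻¹ * (g * b * g⁻¹) = g * (a * b) * g⁻¹ by group]
      exact mem_Zc_conj h)]
  perp_root := by
    rintro _ ⟨k, hk, rfl⟩ hk2
    have hk2' : k * k ∈ coreAt z := by
      have := mem_core_conj.1 hk2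
      simpa [mul_assoc] using this
    obtain ⟨a, ha, ha2, hc, hka⟩ := P.perp_root k hk hk2'
    refine ⟨g * a * g⁻¹, mem_core_conj.2 (by simpa [mul_assoc] using ha), ?_, ?_, ?_⟩
    · rw [show g * a * g⁻¹ * (g * a * g⁻¹) = g * (a * a) * g⁻¹ by group, ha2]
    · rintro _ ⟨t, ht, rfl⟩
      exact conj_comm (hc t ht)
    · show ⁅g * k * g⁻¹, g * a * g⁻¹⁆ = 1 ∨ ⁅g * k * g⁻¹, g * a * g⁻¹⁆ = g * z * g⁻¹
      rw [bracket_conj]
      exact hka.imp (fun h => by rw [h]; group) fun h => by rw [h]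
  pl_big := by
    obtain ⟨a, ha, b, hb, h1, h2, h3⟩ := P.pl_big
    have back : ∀ {x : G}, g * x * g⁻¹ ∈ Zc (g * z * g⁻¹) (g * d * g⁻¹) → x ∈ Zc z d := fun {x} h => by
      simpa [mul_assoc] using mem_Zc_conj (g := g⁻¹) h
    refine ⟨g * a * g⁻¹, ⟨a, ha, rfl⟩, g * b * g⁻¹, ⟨b, hb, rfl⟩, fun h => h1 (back h), fun h => h2 (back h),
      fun h => h3 (back ?_)⟩
    rwa [show g * (a * b) * g⁻¹ = g * a * g⁻¹ * (g * b * g⁻¹) by group]
  five := fun a ha hn h2 hc => by
    obtain ⟨r, h3, h4, h5, h6⟩ := P.five _ (mem_core_conj.1 ha) (fun h => hn (mem_conjMap.2 h))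
      (by rw [show g⁻¹ * a * g * (g⁻¹ * a * g) = g⁻¹ * (a * a) * g by group, h2]; group)
      fun t ht => comm_conj_back (hc _ ⟨t, ht, rfl⟩)
    refine ⟨g * r * g⁻¹, conj_comm h3, ?_, ?_, fun h => h6 (conj_eq_one_iff.1 h)⟩
    · have := conj_comm (g := g) h4
      rwa [show g * (g⁻¹ * a * g) * g⁻¹ = a by group] at this
    · rw [conj_pow, h5]; group
  five_triv := fun a ha hn h2 hc r hr har hr5 hr1 e he hed hre hae he4 => mem_core_conj.2 <| by
    have cm : ∀ {x y : G}, Commute x y → Commute (g⁻¹ * x * g) (g⁻¹ * y * g) := fun h => by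
      have := conj_comm (g := g⁻¹) h
      rwa [inv_inv] at this
    refine P.five_triv _ (mem_core_conj.1 ha) (fun h => hn (mem_conjMap.2 h))
      (by rw [show g⁻¹ * a * g * (g⁻¹ * a * g) = g⁻¹ * (a * a) * g by group, h2]; group)
      (fun t ht => comm_conj_back (hc _ ⟨t, ht, rfl⟩)) _ (comm_conj_back hr) (cm har)
      ?_ (fun h => hr1 ?_) _ (comm_conj_back he) (comm_conj_back hed) (cm hre) (cm hae) ?_
    · have := conj_pow (i := 5) (a := g⁻¹) (b := r)
      rw [inv_inv] at this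
      rw [this, hr5]; group
    · rw [show r = g * (g⁻¹ * r * g) * g⁻¹ by group, h]; group
    · have := conj_pow (i := 4) (a := g⁻¹) (b := e)
      rw [inv_inv] at this
      rw [this, he4]; group

/-- An inner involution commutes with an element of the plane outside the centre. -/
theorem root_exists (P : Plane z d) (T : Two z d) {s : G} (hs : s ∈ P.inn) :
    ∃ w ∈ P.pl, w ∉ Zc z d ∧ Commute s w := by
  obtain ⟨a, ha, b, hb, h1, h2, h3⟩ := P.pl_big
  rcases P.pl_inn s hs a ha with e | e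
  · exact ⟨a, ha, h1, commutatorElement_eq_one_iff_commute.1 e⟩
  rcases P.pl_inn s hs b hb with e' | e'
  · exact ⟨b, hb, h2, commutatorElement_eq_one_iff_commute.1 e'⟩
  refine ⟨a * b, mul_mem ha hb, h3, commutatorElement_eq_one_iff_commute.1 ?_⟩
  rw [show ⁅s, a * b⁆ = ⁅s, a⁆ * (a * ⁅s, b⁆ * a⁻¹) by simp [commutatorElement_def, mul_assoc], e, e',
    conj_of_comm (T.comm_z (P.pl_le ha)).symm, T.z2]

/-- The plane contains an element of square `z` outside the centre. -/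
theorem exists_root (P : Plane z d) (T : Two z d) : ∃ w ∈ P.pl, w ∉ Zc z d ∧ w * w = z := by
  obtain ⟨a, ha, b, hb, h1, h2, h3⟩ := P.pl_big
  rcases T.sq a (P.pl_le ha) with e | e
  swap; · exact ⟨a, ha, h1, e⟩
  rcases T.sq b (P.pl_le hb) with e' | e'
  swap; · exact ⟨b, hb, h2, e'⟩
  refine ⟨a * b, mul_mem ha hb, h3, ?_⟩
  rw [← P.pl_comm a ha b hb h1 h2 h3, commutatorElement_def, inv_eq_of_mul_eq_one_right e,
    inv_eq_of_mul_eq_one_right e', mul_assoc (a * b)]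

/-- Elements moving the plane give commutators of square `z`. -/
theorem move_sq (P : Plane z d) (T : Two z d) {g t : G} (hg : Commute z g) (ht : t ∈ P.pl)
    (h : ⁅g, t⁆ ∉ Zc z d) : ⁅g, t⁆ * ⁅g, t⁆ = z := by
  have hconj : ∀ {k ζ : G}, Commute z k → ζ ∈ Zc z d → k * ζ * k⁻¹ ∈ Zc z d := fun {k ζ} hk hζ => by
    have hkz : k * z * k⁻¹ = z := conj_of_comm hk.symm
    have := mem_Zc_conj (g := k) hζ
    rw [hkz] at this
    rcases T.swap k hk with e | e <;> rw [e] at this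
    · exact this
    · rcases mem_Zc.1 this with h | h | h | h <;> rw [h]
      exacts [T.one_mem_Zc, T.z_mem_Zc, T.Zc_mul (by simp [Zc]) T.z_mem_Zc,
        by rw [mul_assoc, T.z2, mul_one]; simp [Zc]]
  have htJ := P.pl_le ht
  set u := ⁅g, t⁆ with hu
  have hum : u ∈ P.pl := mul_mem (P.pl_norm g hg t ht) (inv_mem ht)
  have hut : u * t = g * t * g⁻¹ := comm_elem_eq
  have htZ : t ∉ Zc z d := fun hm => h (T.Zc_mul (hconj hg hm) (by rwa [T.Zc_inv hm]))
  have hutZ : u * t ∉ Zc z d := fun hm => htZ (by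
    have := hconj hg.inv_right (hut ▸ hm)
    simpa [mul_assoc] using this)
  have e1 := P.pl_comm u hum t ht h htZ hutZ
  have huJ := P.pl_le hum
  have e2 : u * t * (u * t) = t * t := by
    rw [hut, show g * t * g⁻¹ * (g * t * g⁻¹) = g * (t * t) * g⁻¹ by group]
    rcases T.sq t htJ with e | e <;> rw [e]
    · group
    · exact conj_of_comm hg.symm
  have hzt : Commute z t := T.comm_z htJ
  have hut2 : Commute t (u * u) := by
    rcases T.sq u huJ with e | e <;> rw [e]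
    exacts [Commute.one_right t, hzt.symm]
  have e3 : u * t * (u * t) = ⁅u, t⁆ * (t * (u * u) * t) := by
    rw [commutatorElement_def]; group
  rw [e3, hut2.eq, e1, show z * (u * u * t * t) = z * (u * u) * (t * t) by group, mul_eq_right] at e2
  rw [eq_inv_of_mul_eq_one_right e2, T.z_inv]

/-- A square root of a conjugate of `z` outside the core, almost centralised by `z`, is impossible. -/
theorem absurd_root {y e s w : G} (T : Two z d) (T' : Two z (d * z)) (S : Small z d) (S' : Small z (d * z))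
    (Q : Plane y e) (Ty : Two y e) (hzy : Commute z y) (hdy : Commute d y) (hze : Commute z e) (hde : Commute d e)
    (hyJ : y ∉ coreAt z) (heJ : e ∉ coreAt z) (hfJ : e * y ∉ coreAt z)
    (hcase : s = z ∨ s = d ∨ s = d * z) (hw : w ∈ Q.pl) (hw2 : w * w = y) (hsw : Commute s w)
    (hζ : ⁅z, w⁆ ∈ Zc y e) : False := by
  have hwJ := Q.pl_le hw
  -- the conjugate of `z` commutes with `z`
  have hzw : Commute z (w * z * w⁻¹) := by
    rw [show w * z * w⁻¹ = ⁅z, w⁆⁻¹ * z by simp [commutatorElement_def, mul_assoc]]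
    exact ((Ty.Zc_comm hζ hzy.symm hze.symm).symm.inv_right).mul_right (Commute.refl z)
  have key : Commute z w ∧ Commute d w := by
    rcases hcase with rfl | rfl | rfl
    · refine ⟨hsw, ?_⟩
      rcases T.swap w hsw with e1 | e1
      · exact (comm_of_conj e1).symm
      exfalso
      have e2 : ⁅w, d⁆ = s := by
        rw [commutatorElement_def, e1, T.d_inv, ← T.zd.eq, mul_assoc, T.d2, mul_one]
      have hzp : s ∈ Q.pl := by
        rw [← e2, show ⁅w, d⁆ = w * (d * w⁻¹ * d⁻¹) by simp [commutatorElement_def, mul_assoc]]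
        exact mul_mem hw (Q.pl_norm d hdy.symm _ (inv_mem hw))
      have hzZ : s ∈ Zc y e := by_contra fun h => by
        have e3 : ⁅d, w⁆ = s := by rw [← commutatorElement_inv, e2, T.z_inv]
        have := Q.move_sq Ty hdy.symm hw (by rwa [e3])
        rw [e3, T.z2] at this
        exact Ty.z_ne this.symm
      rcases mem_Zc.1 hzZ with h | h | h | h
      exacts [T.z_ne h, hyJ (h ▸ T.z_mem), heJ (h ▸ T.z_mem), hfJ (h ▸ T.z_mem)]
    · exact ⟨(comm_of_conj (S.eq_of_comm T hsw hzw)).symm, hsw⟩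
    · have h1 : Commute z w := (comm_of_conj (S'.eq_of_comm T' hsw hzw)).symm
      refine ⟨h1, ?_⟩
      have := hsw.mul_left h1
      rwa [mul_assoc, T.z2, mul_one] at this
  refine T.no_root key.1 key.2 hw2 Ty.z2 hyJ fun a ha hay => ?_
  -- commutators of the core with `w` lie in the plane and in the core
  refine (commutatorElement_eq_one_iff_commute.1 ?_).symm
  have hmJ : ⁅a, w⁆ ∈ coreAt z := by
    rw [show ⁅a, w⁆ = a * (w * a⁻¹ * w⁻¹) by simp [commutatorElement_def, mul_assoc]]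
    exact mul_mem ha (T.conj_mem_core key.1 (inv_mem ha))
  have hmp : ⁅a, w⁆ ∈ Q.pl := mul_mem (Q.pl_norm a hay.symm w hw) (inv_mem hw)
  have hmZ : ⁅a, w⁆ ∈ Zc y e := by_contra fun h => by
    have h1 := Q.move_sq Ty hay.symm hw h
    rcases T.sq _ hmJ with h2 | h2 <;> rw [h2] at h1
    · exact Ty.z_ne h1.symm
    · exact hyJ (h1 ▸ T.z_mem)
  rcases mem_Zc.1 hmZ with h | h | h | h
  exacts [h, absurd (h ▸ hmJ) hyJ, absurd (h ▸ hmJ) heJ, absurd (h ▸ hmJ) hfJ]

/-- A conjugate pair outside the core commuting with `z` and `d` does not have a fixed plane, if all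
elements commuting with it induce inner automorphisms. -/
theorem absurd_pair {y e : G} (T : Two z d) (T' : Two z (d * z)) (S : Small z d) (S' : Small z (d * z))
    (Q : Plane y e) (Ty : Two y e) (hinn : ∀ g, Commute y g → Commute e g → g ∈ Q.inn)
    (hzy : Commute z y) (hdy : Commute d y) (hze : Commute z e) (hde : Commute d e)
    (hyJ : y ∉ coreAt z) (heJ : e ∉ coreAt z) (hfJ : e * y ∉ coreAt z) : False := by
  obtain ⟨w, hw, hwZ, hw2⟩ := Q.exists_root Ty
  have hz := Q.pl_inn z (hinn z hzy.symm hze.symm) w hw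
  have hd := Q.pl_inn d (hinn d hdy.symm hde.symm) w hw
  have hζ : ⁅z, w⁆ ∈ Zc y e := by
    rcases hz with h | h <;> rw [h]
    exacts [Ty.one_mem_Zc, Ty.z_mem_Zc]
  have go : ∀ {s : G}, (s = z ∨ s = d ∨ s = d * z) → Commute s w → False := fun hs hsw =>
    absurd_root T T' S S' Q Ty hzy hdy hze hde hyJ heJ hfJ hs hw hw2 hsw hζ
  rcases hz with h | h
  · exact go (Or.inl rfl) (commutatorElement_eq_one_iff_commute.1 h)
  rcases hd with h' | h'
  · exact go (Or.inr (Or.inl rfl)) (commutatorElement_eq_one_iff_commute.1 h')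
  refine go (Or.inr (Or.inr rfl)) (commutatorElement_eq_one_iff_commute.1 ?_)
  rw [show ⁅d * z, w⁆ = d * ⁅z, w⁆ * d⁻¹ * ⁅d, w⁆ by simp [commutatorElement_def, mul_assoc], h, h',
    conj_of_comm hdy, Ty.z2]

/-- An element of square `z` of the core centralised by an involution of three with equal centralisers. -/
theorem root_comm (P : Plane z d) (T : Two z d) {y e : G} (hyz : Commute z y) (hyd : Commute d y)
    (hez : Commute z e) (hed : Commute d e) (hy2 : y * y = 1) (he2 : e * e = 1) (hey : Commute e y)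
    (hle : ∀ a ∈ coreAt z, Commute e a → Commute y a)
    (hle' : ∀ a ∈ coreAt z, Commute (e * y) a → Commute y a) : ∃ r ∈ coreAt z, r * r = z ∧ Commute y r := by
  obtain ⟨s, hs, hs2, hsy⟩ : ∃ s ∈ P.inn, s * s = 1 ∧ ∀ a ∈ coreAt z, Commute s a → Commute y a := by
    by_cases hy : y ∈ P.inn
    · exact ⟨y, hy, hy2, fun a _ h => h⟩
    by_cases he : e ∈ P.inn
    · exact ⟨e, he, he2, hle⟩
    exact ⟨e * y, P.inn_mul e y hez hed hyz hyd he hy, by rw [hey.symm.mul_mul_mul_comm, he2, hy2, one_mul], hle'⟩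
  obtain ⟨v, hv, hvZ, hsv⟩ := P.root_exists T hs
  have hvJ := P.pl_le hv
  rcases T.sq v hvJ with hv2 | hv2
  swap; · exact ⟨v, hvJ, hv2, hsy v hvJ hsv⟩
  obtain ⟨n, hn, hnZ, hn2⟩ := P.exists_root T
  have hnJ := P.pl_le hn
  rcases P.pl_inn s hs n hn with hsn | hsn
  · exact ⟨n, hnJ, hn2, hsy n hnJ (commutatorElement_eq_one_iff_commute.1 hsn)⟩
  obtain ⟨a, ha, ha2, hap, hsa | hsa⟩ := P.perp_root s hs (by rw [hs2]; exact one_mem _)
  · exact ⟨a, ha, ha2, hsy a ha (commutatorElement_eq_one_iff_commute.1 hsa)⟩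
  have hsx : Commute s (a * n) := commutatorElement_eq_one_iff_commute.1 (by
    rw [show ⁅s, a * n⁆ = ⁅s, a⁆ * (a * ⁅s, n⁆ * a⁻¹) by simp [commutatorElement_def, mul_assoc], hsa, hsn,
      conj_of_comm (T.comm_z ha).symm, T.z2])
  set x := a * n with hx
  have hx2 : x * x = 1 := by rw [hx, (hap n hn).mul_mul_mul_comm, ha2, hn2, T.z2]
  have hnv : n * v ∉ Zc z d := fun h => T.z_ne (by
    have e : n = n * v * v := by rw [mul_assoc, hv2, mul_one]
    rw [← hn2, e, (T.Zc_central h hvJ).symm.mul_mul_mul_comm, T.Zc_sq h, hv2, one_mul])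
  refine ⟨x * v, mul_mem (mul_mem ha hnJ) hvJ, ?_,
    (hsy x (mul_mem ha hnJ) hsx).mul_right (hsy v hvJ hsv)⟩
  calc x * v * (x * v) = ⁅x, v⁆ := by
        rw [commutatorElement_def, inv_eq_of_mul_eq_one_right hx2, inv_eq_of_mul_eq_one_right hv2, mul_assoc (x * v)]
    _ = a * ⁅n, v⁆ * a⁻¹ * ⁅a, v⁆ := by rw [hx]; simp [commutatorElement_def, mul_assoc]
    _ = z := by
        rw [P.pl_comm n hn v hv hnZ hvZ hnv, conj_of_comm (T.comm_z ha).symm,
          commutatorElement_eq_one_iff_commute.2 (hap v hv).symm, mul_one]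

/-- A conjugate pair outside the core with equal centralisers in it has no fixed plane, if `z` is weakly
closed in its core. -/
theorem absurd_equal {y e : G} (P : Plane z d) (T : Two z d) (T' : Two z (d * z)) (S : Small z d)
    (S' : Small z (d * z)) (Q : Plane y e) (Ty : Two y e) (hzy : Commute z y) (hdy : Commute d y)
    (hze : Commute z e) (hde : Commute d e) (hyJ : y ∉ coreAt z) (heJ : e ∉ coreAt z) (hfJ : e * y ∉ coreAt z)
    (hzJ : z ∉ coreAt y) (hweak : ∀ g, g * z * g⁻¹ ∈ coreAt z → g * z * g⁻¹ = z)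
    (hle : ∀ a ∈ coreAt z, Commute e a → Commute y a) (hle' : ∀ a ∈ coreAt z, Commute (e * y) a → Commute y a)
    (hce : ∀ a ∈ coreAt z, Commute y a → Commute e a) : False := by
  obtain ⟨r₀, hr₀, hr₀2, hyr₀⟩ := P.root_comm T hzy hdy hze hde Ty.z2 Ty.d2 Ty.zd.symm hle hle'
  have her₀ := hce r₀ hr₀ hyr₀
  have hz : z ∈ Q.inn := by
    rw [← hr₀2]
    by_cases h : r₀ ∈ Q.inn
    · exact mul_mem h h
    · exact Q.inn_mul r₀ r₀ hyr₀ her₀ hyr₀ her₀ h h
  obtain ⟨n, hn, hnZ, hn2⟩ := Q.exists_root Ty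
  have hnJ := Q.pl_le hn
  have hzn : ⁅z, n⁆ = y := (Q.pl_inn z hz n hn).resolve_left fun h =>
    absurd_root T T' S S' Q Ty hzy hdy hze hde hyJ heJ hfJ (Or.inl rfl) hn hn2
      (commutatorElement_eq_one_iff_commute.1 h) (by rw [h]; exact Ty.one_mem_Zc)
  have hzn' : ⁅z, n⁆ ∈ Zc y e := by rw [hzn]; exact Ty.z_mem_Zc
  have hd : d ∉ Q.inn := fun hd => by
    rcases Q.pl_inn d hd n hn with h | h
    · exact absurd_root T T' S S' Q Ty hzy hdy hze hde hyJ heJ hfJ (Or.inr (Or.inl rfl)) hn hn2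
        (commutatorElement_eq_one_iff_commute.1 h) hzn'
    · refine absurd_root T T' S S' Q Ty hzy hdy hze hde hyJ heJ hfJ (Or.inr (Or.inr rfl)) hn hn2
        (commutatorElement_eq_one_iff_commute.1 ?_) hzn'
      rw [show ⁅d * z, n⁆ = d * ⁅z, n⁆ * d⁻¹ * ⁅d, n⁆ by simp [commutatorElement_def, mul_assoc], hzn, h,
        conj_of_comm hdy, Ty.z2]
  obtain ⟨r, hrJ, hr2, hry, hri⟩ : ∃ r ∈ coreAt z, r * r = z ∧ Commute y r ∧ r ∈ Q.inn := by
    by_cases h : r₀ ∈ Q.inn
    · exact ⟨r₀, hr₀, hr₀2, hyr₀, h⟩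
    · refine ⟨r₀ * d, mul_mem hr₀ T.d_mem, ?_, hyr₀.mul_right hdy.symm,
        Q.inn_mul r₀ d hyr₀ her₀ hdy.symm hde.symm h hd⟩
      rw [(T.d_central r₀ hr₀).mul_mul_mul_comm, hr₀2, T.d2, mul_one]
  have hrz : Commute r z := hr2 ▸ (Commute.refl r).mul_right (Commute.refl r)
  -- multiplication by the root
  have hmuln : ∀ {u : G}, u ∈ coreAt y → ∀ g : G, ⁅g, u * n⁆ = ⁅g, u⁆ * (u * ⁅g, n⁆ * u⁻¹) := fun {u} _ g => by
    simp [commutatorElement_def, mul_assoc]
  -- commutators with `z` in the core of `z` up to `y` vanish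
  have hlift : ∀ u ∈ coreAt y, ∀ i ∈ coreAt z, (⁅z, u⁆ = i ∨ ⁅z, u⁆ = i * y) → i = 1 := by
    intro u hu i hi h
    have key : ∀ k, ⁅z, k⁆ = i → i = 1 := fun k hk => by
      have e : k * z * k⁻¹ = i⁻¹ * z := by rw [← hk]; simp [commutatorElement_def, mul_assoc]
      have := hweak k (by rw [e]; exact mul_mem (inv_mem hi) T.z_mem)
      rw [e, mul_eq_right, inv_eq_one] at this
      exact this
    rcases h with h | h
    · exact key u h
    · exact key (u * n) (by rw [hmuln hu, h, hzn, conj_of_comm (Ty.comm_z hu).symm, mul_assoc, Ty.z2, mul_one])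
  -- commutators with `r` of elements moved by `y` at most
  have hbr : ∀ u ∈ coreAt y, (⁅z, u⁆ = 1 ∨ ⁅z, u⁆ = y) →
      ∃ i ∈ coreAt z, ⁅r, u⁆ = i ∨ ⁅r, u⁆ = i * y := by
    intro u hu h
    have hmem : ∀ k, Commute z k → ⁅r, k⁆ ∈ coreAt z := fun k hk => by
      rw [show ⁅r, k⁆ = r * (k * r⁻¹ * k⁻¹) by simp [commutatorElement_def, mul_assoc]]
      exact mul_mem hrJ (T.conj_mem_core hk (inv_mem hrJ))
    rcases h with h | h
    · exact ⟨_, hmem u (commutatorElement_eq_one_iff_commute.1 h), Or.inl rfl⟩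
    have hun : Commute z (u * n) := commutatorElement_eq_one_iff_commute.1 (by
      rw [hmuln hu, h, hzn, conj_of_comm (Ty.comm_z hu).symm, Ty.z2])
    refine ⟨_, hmem _ hun, ?_⟩
    rcases Q.pl_inn r hri n hn with e | e <;> rw [hmuln hu, e]
    · left; group
    · right; rw [conj_of_comm (Ty.comm_z hu).symm, mul_assoc, Ty.z2, mul_one]
  refine hzJ (Ty.faithful hzy.symm fun x hx => ?_)
  set m := ⁅z, x⁆ with hm
  set δ := ⁅r, x⁆ with hδ
  have hmJ : m ∈ coreAt y := Ty.bracket_mem hzy.symm hx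
  have hδJ : δ ∈ coreAt y := Ty.bracket_mem hry hx
  have hzm : ⁅z, m⁆ = 1 ∨ ⁅z, m⁆ = y := by
    rw [hm, bracket_self T.z2, ← hm]
    rcases Ty.sq m hmJ with e | e <;> rw [e]
    exacts [Or.inl inv_one, Or.inr Ty.z_inv]
  obtain ⟨i, hi, hri'⟩ := hbr m hmJ hzm
  have e1 : ⁅z, δ⁆ = ⁅r, m⁆ * ⁅m, δ⁆ := by
    calc ⁅z, δ⁆ = z * δ * z⁻¹ * δ⁻¹ := commutatorElement_def z δ
      _ = ⁅z * r * z⁻¹, z * x * z⁻¹⁆ * δ⁻¹ := by rw [bracket_conj, hδ]
      _ = ⁅r, m * x⁆ * δ⁻¹ := by rw [conj_of_comm hrz.symm, hm, comm_elem_eq]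
      _ = ⁅r, m⁆ * ⁅m, δ⁆ := by rw [hδ]; simp [commutatorElement_def, mul_assoc]
  have hzδ : ⁅z, δ⁆ = i ∨ ⁅z, δ⁆ = i * y := by
    rw [e1]
    rcases Ty.comm m hmJ δ hδJ with e | e <;> rcases hri' with e' | e' <;> rw [e, e']
    · exact Or.inl (mul_one i)
    · exact Or.inr (mul_one _)
    · exact Or.inr rfl
    · left; rw [mul_assoc, Ty.z2, mul_one]
  have hi1 := hlift δ hδJ i hi hzδ
  rw [hi1, one_mul] at hzδ
  obtain ⟨j, hj, hrj⟩ := hbr δ hδJ hzδ
  have hm' : m = j ∨ m = j * y := by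
    have e : m = ⁅r, δ⁆ * (δ * δ) := by
      rw [hm, ← hr2, hδ]; simp [commutatorElement_def, mul_assoc]
    rw [e]
    rcases Ty.sq δ hδJ with e | e <;> rcases hrj with e' | e' <;> rw [e, e']
    · exact Or.inl (mul_one j)
    · exact Or.inr (mul_one _)
    · exact Or.inr rfl
    · left; rw [mul_assoc, Ty.z2, mul_one]
  have hj1 := hlift x hx j hj hm'
  rw [hj1, one_mul] at hm'
  rcases hm' with e | e <;> rw [e]
  exacts [Ty.one_mem_Zc, Ty.z_mem_Zc]

/-- An involution over one of the core with a fixed plane lies in the core. -/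
theorem core_absurd (P : Plane z d) (T : Two z d) {e y : G} (hez : Commute z e) (hed : Commute d e)
    (he2 : e * e = 1) (hy2 : y * y = 1) (hey : Commute e y) (hei : e ∈ P.inn) (heJ : e ∉ coreAt z)
    (hyJ : y ∈ coreAt z) (hyZ : y ∉ Zc z d)
    (hle : ∀ c, Commute z c → Commute d c → Commute e c → Commute y c)
    (hle' : ∀ c, Commute z c → Commute d c → Commute (e * y) c → Commute y c)
    (hperm : ∀ c, Commute z c → Commute d c → Commute y c → c * e * c⁻¹ = e ∨ c * e * c⁻¹ = e * y) :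
    False := by
  have hall : ∀ w ∈ P.pl, Commute w y := by
    intro w hw
    have hwJ := P.pl_le hw
    by_contra hwy
    have e1 : w * y * w⁻¹ = y * z := (T.conj_cases hwJ hyJ).resolve_left fun h => hwy (comm_of_conj h)
    have hzw := T.comm_z hwJ
    have hdw := T.d_central w hwJ
    rcases P.pl_inn e hei w hw with h | h
    · exact hwy (hle w hzw hdw (commutatorElement_eq_one_iff_commute.1 h)).symm
    have e2 : w * e * w⁻¹ = e * z := by
      rw [show w * e * w⁻¹ = ⁅e, w⁆⁻¹ * e by simp [commutatorElement_def, mul_assoc], h, T.z_inv, hez.eq]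
    have hey2 : e * y * (e * y) = 1 := by rw [hey.symm.mul_mul_mul_comm, he2, hy2, one_mul]
    have hfw : Commute w (e * y) := by
      refine comm_of_conj ?_
      rw [show w * (e * y) * w⁻¹ = w * e * w⁻¹ * (w * y * w⁻¹) by group, e1, e2,
        show e * z * (y * z) = e * (z * y) * z by group, (T.comm_z hyJ).eq,
        show e * (y * z) * z = e * y * (z * z) by group, T.z2, mul_one]
    exact hwy (hle' w hzw hdw hfw.symm).symm
  have hypl : y ∉ P.pl := fun h => by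
    obtain ⟨a, ha, b, hb, h1, h2, h3⟩ := P.pl_big
    obtain ⟨w, hw, hwZ, hwy⟩ : ∃ w ∈ P.pl, w ∉ Zc z d ∧ w * y ∉ Zc z d := by
      by_cases hay : a * y ∈ Zc z d
      · refine ⟨b, hb, h2, fun hby => h3 ?_⟩
        have e : b * y * (a * y)⁻¹ = b * a⁻¹ := by group
        have h4 : b * a⁻¹ ∈ Zc z d := e ▸ T.Zc_mul hby (by rwa [T.Zc_inv hay])
        have h5 : a * b = a * (b * a⁻¹) * a := by group
        rw [h5, (T.Zc_central h4 (P.pl_le ha)).symm.eq, mul_assoc]
        refine T.Zc_mul h4 ?_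
        rcases T.sq a (P.pl_le ha) with e | e <;> rw [e]
        exacts [T.one_mem_Zc, T.z_mem_Zc]
      · exact ⟨a, ha, h1, hay⟩
    refine T.z_ne ?_
    rw [← P.pl_comm w hw y h hwZ hyZ hwy]
    exact commutatorElement_eq_one_iff_commute.2 (hall w hw)
  obtain ⟨r, hrz, hry, hr5, hr1⟩ := P.five y hyJ hypl hy2 hall
  have hrd : Commute d r := T.odd_d hrz ((show Odd 5 by decide).of_dvd_nat (orderOf_dvd_of_pow_eq_one hr5))
  have hre : Commute r e := by
    have h2 : Commute (r * r) e := by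
      refine comm_of_conj ?_
      rw [show r * r * e * (r * r)⁻¹ = r * (r * e * r⁻¹) * r⁻¹ by group]
      rcases hperm r hrz hrd hry with h | h <;> rw [h]
      · exact h
      · rw [show r * (e * y) * r⁻¹ = r * e * r⁻¹ * (r * y * r⁻¹) by group, h, conj_of_comm hry.symm, mul_assoc,
          hy2, mul_one]
    rw [show r = r * r * (r * r) * (r * r) * (r ^ 5)⁻¹ by group, hr5, inv_one, mul_one]
    exact (h2.mul_left h2).mul_left h2
  exact heJ (P.five_triv y hyJ hypl hy2 hall r hrz hry hr5 hr1 e hez hed hre hey.symm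
    (by rw [pow_succ, pow_succ, pow_two, he2, one_mul, he2]))

end Plane

end Cfsg.Agent.Fi22Two
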