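import Cfsg.Agent.Lib.Fi22Two.Natural
import Cfsg.Agent.Lib.Fi22Two.Planar
import Cfsg.Prelude.Def_IsolatedElements

/-!
Commuting conjugates of `z` when `d` is central in the centraliser of `z` and the centraliser of `d` is that
of `z` up to a normal subgroup of odd order.
-/

set_option autoImplicit false
set_option linter.style.haveILetI false
set_option linter.unusedSectionVars false

namespace Cfsg.Agent.Fi22Two

open Subgroup LargeExtra
open scoped commutatorElement

variable {G : Type*} [Group G] [Finite G] {z d : G}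

/-- The hypotheses when `d` is central in the centraliser of `z`. -/
structure Central (z d : G) : Prop where
  two : Two z d
  two' : Two z (d * z)
  cen : ∀ h, Commute z h → Commute d h
  hne : ∀ g, g * (d * z) * g⁻¹ ≠ d
  kind : Nonempty (Natural z d) ∨ (Nonempty (Plane z d) ∧ Small z d ∧ Small z (d * z))

theorem conj_mul_conj (g a b : G) : g * (a * b) * g⁻¹ = g * a * g⁻¹ * (g * b * g⁻¹) := by group

namespace Central

variable (C : Central z d)

include C

theorem cen' {g h : G} (hy : Commute (g * z * g⁻¹) h) : Commute (g * d * g⁻¹) h :=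
  comm_conj_fwd (C.cen _ (comm_conj_back hy))

/-- A pair meeting the core shares the third involution. -/
theorem core_case (S : Small z d) {g : G} (hy : Commute z (g * z * g⁻¹)) (hne : g * z * g⁻¹ ≠ z)
    (h : g * d * g⁻¹ ∈ coreAt z ∨ g * z * g⁻¹ ∈ coreAt z) : Commute (d * z) g := by
  have T := C.two
  set y := g * z * g⁻¹ with hydef
  set e := g * d * g⁻¹ with hedef
  have Ty : Two y e := T.conj g
  have hdy : Commute d y := C.cen y hy
  have hez : Commute z e := (C.cen' hy.symm).symm
  have hde : Commute d e := (C.cen' hdy.symm).symm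
  have hle : ∀ a ∈ coreAt z, Commute a e → Commute y a := fun a ha hae =>
    S.le T hy hez hde (T.comm_z ha) hae.symm
  have hyZ : y ∉ Zc z d := by
    intro hm
    rcases mem_Zc.1 hm with h' | h' | h' | h'
    exacts [Ty.z_ne h', hne h', (T.class_ne g).1 h', (T.class_ne g).2 h']
  have heJ : e ∈ coreAt z := by
    rcases h with h | h
    · exact h
    exact T.mem_core_of_perp h Ty.z2 hez hde fun a ha hay => (C.cen' hay.symm)
  have hyJ : y ∈ coreAt z := T.mem_core_of_perp heJ Ty.d2 hy hdy hle
  have hf : y * e ∈ Zc z d := (T.mem_of_perp heJ hyJ hle).resolve_left hyZ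
  have hef : y * e = g * (d * z) * g⁻¹ := by
    rw [hydef, hedef, ← conj_mul_conj, T.zd.eq]
  rw [hef] at hf
  rcases mem_Zc.1 hf with h' | h' | h' | h'
  · exact absurd (conj_eq_one_iff.1 h') T.dz_ne_one
  · exact absurd (by rw [eq_conj_iff] at h'; rw [h']; group) (T.class_ne g⁻¹).2
  · exact absurd h' (C.hne g)
  · exact (comm_of_conj h').symm

/-- A pair shares the third involution. -/
theorem pair (S : Small z d) {g : G} (hy : Commute z (g * z * g⁻¹)) (hne : g * z * g⁻¹ ≠ z) :
    Commute (d * z) g := by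
  have T := C.two
  by_cases hyeJ : g * d * g⁻¹ ∈ coreAt z ∨ g * z * g⁻¹ ∈ coreAt z
  · exact C.core_case S hy hne hyeJ
  push Not at hyeJ
  obtain ⟨heJ, hyJ⟩ := hyeJ
  set y := g * z * g⁻¹ with hydef
  set e := g * d * g⁻¹ with hedef
  have Ty : Two y e := T.conj g
  have hdy : Commute d y := C.cen y hy
  have hez : Commute z e := (C.cen' hy.symm).symm
  have hde : Commute d e := (C.cen' hdy.symm).symm
  have hef : e * y = g * (d * z) * g⁻¹ := (conj_mul_conj g d z).symm
  by_cases hfJ : e * y ∈ coreAt z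
  · by_cases hfZ : e * y ∈ Zc z d
    · rw [hef] at hfZ
      rcases mem_Zc.1 hfZ with h' | h' | h' | h'
      · exact absurd (conj_eq_one_iff.1 h') T.dz_ne_one
      · exact absurd (by rw [eq_conj_iff] at h'; rw [h']; group) (T.class_ne g⁻¹).2
      · exact absurd h' (C.hne g)
      · exact (comm_of_conj h').symm
    exfalso
    set f := e * y with hfdef
    have hf2 : f * f = 1 := Ty.dz2
    -- a conjugate pair with the same third involution centralising the centralizer of it in the core
    obtain ⟨c, hc, hcP⟩ := (C.two'.conj g).cover (coreAt z ⊓ centralizer ({f} : Set G))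
      ((coreAt_isPGroup z).to_le inf_le_left) (fun a ha => by
        rw [← hef]; exact (mem_centralizer_one.1 ha.2 : a * f = f * a).symm)
    rw [← hef] at hc
    rw [← hydef] at hcP
    set g' := c⁻¹ * g with hg'
    have hy' : ∀ a ∈ coreAt z, Commute a f → Commute (g' * z * g'⁻¹) a := fun a ha haf => by
      have h1 : Commute y (c * a * c⁻¹) := hcP a ⟨ha, mem_centralizer_one.2 haf⟩
      rw [show g' * z * g'⁻¹ = c⁻¹ * y * c by rw [hg', hydef]; group]
      have := conj_comm (g := c⁻¹) h1
      rwa [inv_inv, show c⁻¹ * (c * a * c⁻¹) * c = a by group] at this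
    have hf' : g' * (d * z) * g'⁻¹ = f := by
      rw [hg', show c⁻¹ * g * (d * z) * (c⁻¹ * g)⁻¹ = c⁻¹ * (g * (d * z) * g⁻¹) * c by group, ← hef,
        mul_assoc, hc.eq, inv_mul_cancel_left]
    set y' := g' * z * g'⁻¹ with hy'def
    have hzy' : Commute z y' := (hy' z T.z_mem (T.comm_z hfJ)).symm
    have hdy' : Commute d y' := (hy' d T.d_mem (T.d_central f hfJ)).symm
    have hy'J : y' ∈ coreAt z := T.mem_core_of_perp hfJ hf2 hzy' hdy' hy'
    by_cases hy'z : y' = z
    · refine hfZ ?_
      have h1 : Commute (d * z) g' := (C.cen g' (comm_of_conj hy'z).symm).mul_left (comm_of_conj hy'z).symm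
      rw [← hf', conj_of_comm h1.symm]
      simp [Zc]
    · refine hfZ ?_
      have h1 := C.core_case S hzy' hy'z (Or.inr hy'J)
      rw [← hf', conj_of_comm h1.symm]
      simp [Zc]
  exfalso
  rcases C.kind with ⟨⟨N⟩⟩ | ⟨⟨P⟩, -, S'⟩
  · refine N.equal_absurd T hez hde hy hdy Ty.d2 Ty.z2 (Ty.zd.symm) heJ hyJ hfJ fun c hcz _ =>
      ⟨fun hce => S.le T hy hez hde hcz hce, fun hcy => C.cen' hcy⟩
  · have hweak : ∀ k, k * z * k⁻¹ ∈ coreAt z → k * z * k⁻¹ = z := fun k hk => by_contra fun h =>
      h (S'.eq_of_comm C.two' (C.core_case S (T.comm_z hk) h (Or.inr hk)) (T.comm_z hk))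
    refine P.absurd_equal T C.two' S S' (P.conj g) Ty hy hdy hez hde hyJ heJ hfJ (fun hm => hne ?_) hweak
      (fun a ha hae => S.le T hy hez hde (T.comm_z ha) hae)
      (fun a ha haf => S'.le C.two' hy (hef ▸ hez.mul_right hy) (hef ▸ (hde.mul_right hdy).mul_left
        (hez.mul_right hy)) (T.comm_z ha) (hef ▸ haf))
      fun a _ hay => C.cen' hay
    have h1 := hweak g⁻¹ (by rw [inv_inv]; exact mem_core_conj.1 hm)
    rw [inv_inv] at h1
    calc g * z * g⁻¹ = g * (g⁻¹ * z * g) * g⁻¹ := by rw [h1]
      _ = z := by group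

/-- Both small: `z` commutes with no other conjugate. -/
theorem isolated_of_small (S : Small z d) (S' : Small z (d * z)) : Cfsg.IsIsolated z := by
  intro g hg
  by_contra hne
  exact hne (S'.eq_of_comm C.two' (C.pair S hg hne) hg)

/-- One small: the other involution commutes with no other conjugate of itself. -/
theorem isolated_big (S : Small z d) : Cfsg.IsIsolated (d * z) := by
  intro g hg
  have T := C.two'
  set D := d * z with hD
  have hDD : D * D = 1 := T.d2
  -- conjugate into the centralizer of `z`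
  have hp : ∀ {a : G}, a * a = 1 → IsPGroup 2 (zpowers a) := fun {a} ha => by
    refine fun x => ⟨1, Subtype.ext ?_⟩
    obtain ⟨k, hk⟩ := mem_zpowers_iff.1 x.2
    rw [SubmonoidClass.coe_pow, OneMemClass.coe_one, ← hk, ← zpow_natCast, ← zpow_mul, mul_comm, zpow_mul,
      zpow_natCast, pow_one, pow_two, ha, one_zpow]
  obtain ⟨c, hc, hcz⟩ := T.cover (zpowers (g * D * g⁻¹))
    (hp (by rw [show g * D * g⁻¹ * (g * D * g⁻¹) = g * (D * D) * g⁻¹ by group, hDD]; group))
    (fun a ha => by
      obtain ⟨k, rfl⟩ := mem_zpowers_iff.1 ha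
      exact hg.zpow_right k)
  have hcg : c * g * D * (c * g)⁻¹ = c * (g * D * g⁻¹) * c⁻¹ := by group
  have hzD' : Commute z (c * g * D * (c * g)⁻¹) := hcg ▸ hcz _ (mem_zpowers _)
  suffices h : c * g * D * (c * g)⁻¹ = D by
    rw [hcg, eq_conj_iff] at h
    rw [h, mul_assoc, hc.eq, inv_mul_cancel_left]
  set D' := c * g * D * (c * g)⁻¹ with hD'
  have hDD' : Commute D D' := by
    have := conj_comm (g := c) hg
    rwa [conj_of_comm hc.symm, ← hcg] at this
  -- a conjugate of `z` with the same third involution in the centralizer of `z`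
  obtain ⟨k, hk, hkP⟩ := (T.conj (c * g)).cover (zpowers z) (hp C.two.z2) (fun a ha => by
    obtain ⟨n, rfl⟩ := mem_zpowers_iff.1 ha
    exact hzD'.symm.zpow_right n)
  set g' := k⁻¹ * (c * g) with hg'
  have hf : g' * D * g'⁻¹ = D' := by
    rw [hg', show k⁻¹ * (c * g) * D * (k⁻¹ * (c * g))⁻¹ = k⁻¹ * D' * k by rw [hD']; group, mul_assoc, hk.eq,
      inv_mul_cancel_left]
  have hy : Commute z (g' * z * g'⁻¹) := by
    have := conj_comm (g := k⁻¹) (hkP z (mem_zpowers z))
    rw [inv_inv, show k⁻¹ * (k * z * k⁻¹) * k = z by group] at this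
    rw [hg', show k⁻¹ * (c * g) * z * (k⁻¹ * (c * g))⁻¹ = k⁻¹ * (c * g * z * (c * g)⁻¹) * k by group]
    exact this.symm
  rw [← hf]
  by_cases hne : g' * z * g'⁻¹ = z
  · exact conj_of_comm ((C.cen g' (comm_of_conj hne).symm).mul_left (comm_of_conj hne).symm).symm
  · exact conj_of_comm (C.pair S hy hne).symm

end Central

end Cfsg.Agent.Fi22Two
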