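import Cfsg.Agent.Lib.Fi22Two.Natural
import Cfsg.Agent.Lib.Fi22Two.Planar
import Cfsg.Prelude.Def_IsolatedElements

/-!
When `d` and `d * z` are conjugate in the centraliser of `z` and their centralisers are that of `z` up to
normal subgroups of odd order, `z` commutes with no other conjugate of itself.
-/

set_option autoImplicit false
set_option linter.style.haveILetI false
set_option linter.unusedSectionVars false

namespace Cfsg.Agent.Fi22Two

open Subgroup LargeExtra
open scoped commutatorElement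

variable {G : Type*} [Group G] [Finite G] {z d : G}

/-- The hypotheses when `d` and `d * z` are conjugate in the centraliser of `z`. -/
structure Swapped (z d : G) : Prop where
  two : Two z d
  swap_elt : ∃ t, Commute z t ∧ t * d * t⁻¹ = d * z
  small : Small z d
  kind : (∃ N : Natural z d, ∀ g, Commute z g → Commute d g → g ∈ N.inn) ∨
    ∃ P : Plane z d, ∀ g, Commute z g → Commute d g → g ∈ P.inn

theorem conj_mul_conj' (g a b : G) : g * (a * b) * g⁻¹ = g * a * g⁻¹ * (g * b * g⁻¹) := by group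

namespace Swapped

variable (W : Swapped z d)

include W

theorem exists_swap : ∃ t, t * z * t⁻¹ = z ∧ t * d * t⁻¹ = d * z ∧ t * (d * z) * t⁻¹ = d := by
  obtain ⟨t, ht, e⟩ := W.swap_elt
  have ez : t * z * t⁻¹ = z := conj_of_comm ht.symm
  refine ⟨t, ez, e, ?_⟩
  rw [show t * (d * z) * t⁻¹ = t * d * t⁻¹ * (t * z * t⁻¹) by group, e, ez, mul_assoc, W.two.z2, mul_one]

theorem two' : Two z (d * z) := by
  obtain ⟨t, ez, e, -⟩ := W.exists_swap
  have := W.two.conj t
  rwa [ez, e] at this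

theorem small' : Small z (d * z) := by
  obtain ⟨t, ez, e, -⟩ := W.exists_swap
  have := W.small.conj t
  rwa [ez, e] at this

/-- The third involution fixes the first. -/
theorem eq_of_third {g : G} (hy : Commute z (g * z * g⁻¹))
    (h : g * (d * z) * g⁻¹ = d ∨ g * (d * z) * g⁻¹ = d * z) : g * z * g⁻¹ = z := by
  obtain ⟨t, ez, e1, e2⟩ := W.exists_swap
  rcases h with h | h
  · have hg' : g * t * z * (g * t)⁻¹ = g * z * g⁻¹ := by
      rw [show g * t * z * (g * t)⁻¹ = g * (t * z * t⁻¹) * g⁻¹ by group, ez]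
    have hc : Commute d (g * t) := (comm_of_conj (by
      rw [show g * t * d * (g * t)⁻¹ = g * (t * d * t⁻¹) * g⁻¹ by group, e1, h])).symm
    rw [← hg'] at hy ⊢
    exact W.small.eq_of_comm W.two hc hy
  · exact W.small'.eq_of_comm W.two' (comm_of_conj h).symm hy

/-- The second involution fixes the first. -/
theorem eq_of_second {g : G} (hy : Commute z (g * z * g⁻¹))
    (h : g * d * g⁻¹ = d ∨ g * d * g⁻¹ = d * z) : g * z * g⁻¹ = z := by
  obtain ⟨t, ez, e1, e2⟩ := W.exists_swap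
  have h' : g * t⁻¹ * (d * z) * (g * t⁻¹)⁻¹ = g * d * g⁻¹ := by
    rw [← e1]; group
  have hz' : g * t⁻¹ * z * (g * t⁻¹)⁻¹ = g * z * g⁻¹ := by
    conv_lhs => rw [← ez]
    group
  rw [← hz'] at hy ⊢
  exact W.eq_of_third hy (h'.symm ▸ h)

/-- The first fixed, the second is `d` or `d * z`. -/
theorem second_of_eq {g : G} (h : g * z * g⁻¹ = z) : g * d * g⁻¹ = d ∨ g * d * g⁻¹ = d * z :=
  W.two.swap g (comm_of_conj h).symm

/-- A conjugate of `d` may be given a conjugate of `z` centralising its centraliser in the core. -/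
theorem reduce {g : G} (hez : Commute z (g * d * g⁻¹)) (hed : Commute d (g * d * g⁻¹)) :
    ∃ k, k * d * k⁻¹ = g * d * g⁻¹ ∧ Commute z (k * z * k⁻¹) ∧ Commute d (k * z * k⁻¹) ∧
      ∀ a ∈ coreAt z, Commute a (g * d * g⁻¹) → Commute (k * z * k⁻¹) a := by
  set e := g * d * g⁻¹ with he
  obtain ⟨c, hc, hcP⟩ := (W.two.conj g).cover (coreAt z ⊓ centralizer ({e} : Set G))
    ((coreAt_isPGroup z).to_le inf_le_left) fun a ha => (mem_centralizer_one.1 ha.2 : a * e = e * a).symm
  have key : ∀ a ∈ coreAt z, Commute a e → Commute (c⁻¹ * g * z * (c⁻¹ * g)⁻¹) a := fun a ha hae => by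
    have := conj_comm (g := c⁻¹) (hcP a ⟨ha, mem_centralizer_one.2 hae⟩)
    rw [inv_inv, show c⁻¹ * (c * a * c⁻¹) * c = a by group] at this
    rwa [show c⁻¹ * g * z * (c⁻¹ * g)⁻¹ = c⁻¹ * (g * z * g⁻¹) * c by group]
  refine ⟨c⁻¹ * g, ?_, (key z W.two.z_mem hez).symm, (key d W.two.d_mem hed).symm, key⟩
  rw [show c⁻¹ * g * d * (c⁻¹ * g)⁻¹ = c⁻¹ * e * c by rw [he]; group, mul_assoc, hc.eq, inv_mul_cancel_left]

/-- A conjugate of `d` in the core commuting with `z`. -/
theorem core_second {g : G} (hez : Commute z (g * d * g⁻¹)) (hed : Commute d (g * d * g⁻¹))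
    (heJ : g * d * g⁻¹ ∈ coreAt z) : g * d * g⁻¹ = d ∨ g * d * g⁻¹ = d * z := by
  have T := W.two
  obtain ⟨k, hk, hyz, hyd, hC⟩ := W.reduce hez hed
  rw [← hk] at hez hed heJ hC ⊢
  have Tk := T.conj k
  by_contra hcon
  have hyne : k * z * k⁻¹ ≠ z := fun h => hcon (W.second_of_eq h)
  have hyJ := T.mem_core_of_perp heJ Tk.d2 hyz hyd hC
  rcases T.mem_of_perp heJ hyJ hC with h | h
  · rcases mem_Zc.1 h with h' | h' | h' | h'
    exacts [Tk.z_ne h', hyne h', (T.class_ne k).1 h', (T.class_ne k).2 h']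
  · rw [show k * z * k⁻¹ * (k * d * k⁻¹) = k * (d * z) * k⁻¹ by rw [← T.zd.eq]; group] at h
    rcases mem_Zc.1 h with h' | h' | h' | h'
    · exact T.dz_ne_one (conj_eq_one_iff.1 h')
    · exact (T.class_ne k⁻¹).2 (by rw [eq_conj_iff] at h'; rw [h']; group)
    · exact hyne (W.eq_of_third hyz (Or.inl h'))
    · exact hyne (W.eq_of_third hyz (Or.inr h'))

/-- A conjugate of `d` commuting with `z` and `d` is `d` or `d * z`. -/
theorem second {g : G} (hez : Commute z (g * d * g⁻¹)) (hed : Commute d (g * d * g⁻¹)) :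
    g * d * g⁻¹ = d ∨ g * d * g⁻¹ = d * z := by
  have T := W.two
  obtain ⟨t, ez, e1, e2⟩ := W.exists_swap
  by_cases heJ : g * d * g⁻¹ ∈ coreAt z
  · exact W.core_second hez hed heJ
  obtain ⟨k, hk, hy, hdy, -⟩ := W.reduce hez hed
  rw [← hk] at hez hed heJ ⊢
  refine (by_contra fun hyne' => ?_)
  have hyne : k * z * k⁻¹ ≠ z := fun h => hyne' (W.second_of_eq h)
  have Ty := T.conj k
  set y := k * z * k⁻¹ with hydef
  set e := k * d * k⁻¹ with hedef
  have hef : e * y = k * t * d * (k * t)⁻¹ := by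
    rw [hydef, hedef, show k * t * d * (k * t)⁻¹ = k * (t * d * t⁻¹) * k⁻¹ by group, e1]; group
  have hyk : k * t * z * (k * t)⁻¹ = y := by
    rw [hydef, show k * t * z * (k * t)⁻¹ = k * (t * z * t⁻¹) * k⁻¹ by group, ez]
  by_cases hfJ : e * y ∈ coreAt z
  · rw [hef] at hfJ
    have h := W.core_second (g := k * t) (hef ▸ hez.mul_right hy) (hef ▸ hed.mul_right hdy) hfJ
    exact hyne (W.eq_of_third hy (by
      rwa [show k * t * d * (k * t)⁻¹ = k * (d * z) * k⁻¹ by rw [← e1]; group] at h))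
  have hle : ∀ c, Commute z c → Commute d c → Commute e c → Commute y c := fun c hcz _ hce =>
    W.small.le T hy hez hed hcz hce
  have hle' : ∀ c, Commute z c → Commute d c → Commute (e * y) c → Commute y c := fun c hcz _ hce => by
    have := W.small.le T (g := k * t) (by rw [hyk]; exact hy) (hef ▸ hez.mul_right hy) (hef ▸ hed.mul_right hdy)
      hcz (hef ▸ hce)
    rwa [hyk] at this
  by_cases hyJ : y ∈ coreAt z
  · have hyZ : y ∉ Zc z d := fun h => by
      rcases mem_Zc.1 h with h' | h' | h' | h'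
      exacts [Ty.z_ne h', hyne h', (T.class_ne k).1 h', (T.class_ne k).2 h']
    have hperm : ∀ c, Commute z c → Commute d c → Commute y c → c * e * c⁻¹ = e ∨ c * e * c⁻¹ = e * y :=
      fun c _ _ hc => Ty.swap c hc
    rcases W.kind with ⟨N, hN⟩ | ⟨P, hP⟩
    · exact N.core_absurd T hez hed Ty.d2 Ty.z2 Ty.zd.symm (hN e hez hed) heJ hyJ hyZ hle hperm
    · exact P.core_absurd T hez hed Ty.d2 Ty.z2 Ty.zd.symm (hP e hez hed) heJ hyJ hyZ hle hle' hperm
  rcases W.kind with ⟨N, hN⟩ | ⟨P, hP⟩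
  · exact N.pair_absurd T hN hez hed hy hdy Ty.d2 Ty.z2 Ty.zd.symm heJ hyJ hfJ hle hle'
  · exact Plane.absurd_pair T W.two' W.small W.small' (P.conj k) Ty (fun g hg hg' => mem_conjMap.2
      (hP _ (comm_conj_back hg) (comm_conj_back hg'))) hy hdy hez hed hyJ heJ hfJ

/-- A conjugate of `z` commuting with `z` and `d` is `z`. -/
theorem inner {g : G} (hy : Commute z (g * z * g⁻¹)) (hdy : Commute d (g * z * g⁻¹)) : g * z * g⁻¹ = z := by
  have T := W.two
  obtain ⟨t, ez, e1, e2⟩ := W.exists_swap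
  have Ty := T.conj g
  set y := g * z * g⁻¹ with hydef
  set e := g * d * g⁻¹ with hedef
  by_contra hyne
  by_cases hez : Commute z e
  · have hed : Commute d e := by
      rcases T.swap e hez with h | h
      · exact (comm_of_conj h).symm
      exfalso
      have h' : d * e * d⁻¹ = e * z := by
        rw [T.d_inv]
        have h2 : e * d = d * z * e := mul_inv_eq_iff_eq_mul.1 h
        calc d * e * d = d * (e * d) := by group
          _ = d * d * (z * e) := by rw [h2]; group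
          _ = e * z := by rw [T.d2, one_mul, hez.eq]
      rcases Ty.swap d hdy.symm with h2 | h2 <;> rw [h'] at h2
      · exact T.z_ne (mul_eq_left.1 h2)
      · exact hyne (mul_left_cancel h2).symm
    exact hyne (W.eq_of_second hy (W.second hez hed))
  have hzmove : z * e * z⁻¹ = e * y := (Ty.swap z hy.symm).resolve_left fun h => hez (comm_of_conj h)
  obtain ⟨s, hDe, hDy, hDz⟩ : ∃ s, Commute e (s * d * s⁻¹) ∧ Commute y (s * d * s⁻¹) ∧ Commute z (s * d * s⁻¹) := by
    rcases Ty.swap d hdy.symm with h | h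
    · exact ⟨1, by rw [one_mul, inv_one, mul_one]; exact (comm_of_conj h).symm, by
        rw [one_mul, inv_one, mul_one]; exact hdy.symm, by rw [one_mul, inv_one, mul_one]; exact T.zd⟩
    · refine ⟨t, ?_, by rw [e1]; exact hdy.symm.mul_right hy.symm, by rw [e1]; exact T.comm_z T.dz_mem⟩
      rw [e1]
      refine (comm_of_conj ?_).symm
      rw [show d * z * e * (d * z)⁻¹ = d * (z * e * z⁻¹) * d⁻¹ by group, hzmove,
        show d * (e * y) * d⁻¹ = d * e * d⁻¹ * (d * y * d⁻¹) by group, h, conj_of_comm hdy, mul_assoc, Ty.z2, mul_one]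
  have hback : ∀ {a b : G}, Commute (g * a * g⁻¹) b → Commute a (g⁻¹ * b * g) := fun h => comm_conj_back h
  have h := W.second (g := g⁻¹ * s) (by
    rw [show g⁻¹ * s * d * (g⁻¹ * s)⁻¹ = g⁻¹ * (s * d * s⁻¹) * g by group]; exact hback hDy) (by
    rw [show g⁻¹ * s * d * (g⁻¹ * s)⁻¹ = g⁻¹ * (s * d * s⁻¹) * g by group]; exact hback hDe)
  rw [show g⁻¹ * s * d * (g⁻¹ * s)⁻¹ = g⁻¹ * (s * d * s⁻¹) * g by group] at h
  have hD : s * d * s⁻¹ = e ∨ s * d * s⁻¹ = e * y :=
    h.imp (fun h' => by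
        calc s * d * s⁻¹ = g * (g⁻¹ * (s * d * s⁻¹) * g) * g⁻¹ := by group
          _ = e := by rw [h']) fun h' => by
      calc s * d * s⁻¹ = g * (g⁻¹ * (s * d * s⁻¹) * g) * g⁻¹ := by group
        _ = e * y := by rw [h', conj_mul_conj' g d z]
  rcases hD with h' | h' <;> rw [h'] at hDz
  · exact hez hDz
  · refine hez ?_
    have := hDz.mul_right hy
    rwa [mul_assoc, Ty.z2, mul_one] at this

/-- No conjugate of `z` commuting with `z` exchanges `d` and `d * z`. -/
theorem outer {g : G} (hy : Commute z (g * z * g⁻¹)) (hd : g * z * g⁻¹ * d * (g * z * g⁻¹)⁻¹ = d * z) : False := by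
  have T := W.two
  obtain ⟨t, ez, e1, e2⟩ := W.exists_swap
  have Ty := T.conj g
  set y := g * z * g⁻¹ with hydef
  set e := g * d * g⁻¹ with hedef
  have hyne : y ≠ z := fun h => T.dz_ne_d (by rw [← hd, h, conj_of_comm T.zd])
  have hyd : ¬ Commute d y := fun h => T.dz_ne_d (by rw [← hd, conj_of_comm h.symm])
  have hez : ¬ Commute z e := by
    intro hez
    rcases T.swap e hez with h | h
    · exact hyne (W.eq_of_second hy (W.second hez (comm_of_conj h).symm))
    have hfe : g * t * d * (g * t)⁻¹ = e * y := by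
      rw [hedef, hydef, show g * t * d * (g * t)⁻¹ = g * (t * d * t⁻¹) * g⁻¹ by group, e1]; group
    have hfd : Commute d (e * y) := by
      refine (comm_of_conj ?_).symm
      rw [show e * y * d * (e * y)⁻¹ = e * (y * d * y⁻¹) * e⁻¹ by group, hd,
        show e * (d * z) * e⁻¹ = e * d * e⁻¹ * (e * z * e⁻¹) by group, h, conj_of_comm hez.symm, mul_assoc, T.z2, mul_one]
    have h3 := W.second (g := g * t) (hfe.symm ▸ hez.mul_right hy) (hfe.symm ▸ hfd)
    exact hyne (W.eq_of_third hy (by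
      rwa [show g * t * d * (g * t)⁻¹ = g * (d * z) * g⁻¹ by rw [← e1]; group] at h3))
  have hzmove : z * e * z⁻¹ = e * y := (Ty.swap z hy.symm).resolve_left fun h => hez (comm_of_conj h)
  have hsq : ∀ m ∈ coreAt z, Commute y m → m * m = 1 := by
    intro m hm hym
    refine (T.sq m hm).resolve_right fun h => hez (comm_of_conj ?_)
    rw [← h, show m * m * e * (m * m)⁻¹ = m * (m * e * m⁻¹) * m⁻¹ by group]
    rcases Ty.swap m hym with h' | h' <;> rw [h']
    · exact h'
    · rw [show m * (e * y) * m⁻¹ = m * e * m⁻¹ * (m * y * m⁻¹) by group, h', conj_of_comm hym.symm, mul_assoc,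
        Ty.z2, mul_one]
  have hyi : y⁻¹ = y := Ty.z_inv
  -- the commutators with `y` are involutions
  have hl : ∀ a ∈ coreAt z, Commute y ⁅y, a⁆ ∧ ⁅y, a⁆ * ⁅y, a⁆ = 1 := by
    intro a ha
    have hm := T.bracket_mem hy ha
    set l := ⁅y, a⁆ with hldef
    have hyl : y * l * y⁻¹ = l⁻¹ := by
      rw [hldef, commutatorElement_def, hyi]
      simp only [mul_inv_rev, inv_inv, hyi, ← mul_assoc, Ty.z2, one_mul]
    have hl2 : l * l = 1 := by
      refine (T.sq l hm).resolve_right fun h => T.z_ne ?_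
      have hli : l⁻¹ = z * l := inv_eq_of_mul_eq_one_left (by rw [mul_assoc, h, T.z2])
      have hmy : Commute y (d * l) := by
        refine comm_of_conj ?_
        rw [show y * (d * l) * y⁻¹ = y * d * y⁻¹ * (y * l * y⁻¹) by group, hd, hyl, hli, mul_assoc d,
          ← mul_assoc z, T.z2, one_mul]
      have h2 := hsq _ (mul_mem T.d_mem hm) hmy
      rw [(T.d_central l hm).symm.mul_mul_mul_comm, T.d2, one_mul, h] at h2
      exact h2
    exact ⟨comm_of_conj (by rw [hyl, inv_eq_of_mul_eq_one_right hl2]), hl2⟩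
  -- those different from one exchange the pair at `y`
  have hswap : ∀ a ∈ coreAt z, ⁅y, a⁆ ≠ 1 → ⁅y, a⁆ * e * ⁅y, a⁆⁻¹ = e * y := by
    intro a ha hne
    refine (Ty.swap _ (hl a ha).1).resolve_left fun h => hne ?_
    have hly : a * y * a⁻¹ = y * ⁅y, a⁆ := by
      calc a * y * a⁻¹ = y * y * (a * y⁻¹ * a⁻¹) := by rw [Ty.z2, one_mul, hyi]
        _ = y * ⁅y, a⁆ := by rw [commutatorElement_def]; group
    have hk := W.inner (g := g⁻¹ * a * g) (by
      rw [show g⁻¹ * a * g * z * (g⁻¹ * a * g)⁻¹ = g⁻¹ * (a * y * a⁻¹) * g by rw [hydef]; group]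
      exact comm_conj_back (hly ▸ (Commute.refl y).mul_right (hl a ha).1)) (by
      rw [show g⁻¹ * a * g * z * (g⁻¹ * a * g)⁻¹ = g⁻¹ * (a * y * a⁻¹) * g by rw [hydef]; group]
      exact comm_conj_back (hly ▸ Ty.zd.symm.mul_right (comm_of_conj h).symm))
    have hay : a * y * a⁻¹ = y := by
      rw [show g⁻¹ * a * g * z * (g⁻¹ * a * g)⁻¹ = g⁻¹ * (a * y * a⁻¹) * g by rw [hydef]; group] at hk
      calc a * y * a⁻¹ = g * (g⁻¹ * (a * y * a⁻¹) * g) * g⁻¹ := by group
        _ = y := by rw [hk]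
    rwa [hly, mul_eq_left] at hay
  refine hyd (T.d_central y (T.faithful hy fun a ha => ?_))
  by_cases h1 : ⁅y, a⁆ = 1
  · rw [h1]; exact T.one_mem_Zc
  have hd' : ⁅y, a * d⁆ = ⁅y, a⁆ * z := by
    rw [show ⁅y, a * d⁆ = ⁅y, a⁆ * (a * ⁅y, d⁆ * a⁻¹) by simp [commutatorElement_def, mul_assoc],
      show ⁅y, d⁆ = z by rw [commutatorElement_def, hd, T.d_inv, mul_assoc d z d, T.zd.eq, ← mul_assoc d d z, T.d2, one_mul], conj_of_comm (T.comm_z ha).symm]
  by_cases h2 : ⁅y, a⁆ * z = 1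
  · rw [mul_eq_one_iff_eq_inv.1 h2, T.z_inv]; exact T.z_mem_Zc
  exfalso
  have h3 := hswap _ (mul_mem ha T.d_mem) (hd'.symm ▸ h2)
  rw [hd', show ⁅y, a⁆ * z * e * (⁅y, a⁆ * z)⁻¹ = ⁅y, a⁆ * (z * e * z⁻¹) * ⁅y, a⁆⁻¹ by group, hzmove,
    show ⁅y, a⁆ * (e * y) * ⁅y, a⁆⁻¹ = ⁅y, a⁆ * e * ⁅y, a⁆⁻¹ * (⁅y, a⁆ * y * ⁅y, a⁆⁻¹) by group,
    hswap a ha h1, conj_of_comm (hl a ha).1.symm] at h3
  exact Ty.z_ne (mul_eq_left.1 h3)

/-- `z` commutes with no other conjugate of itself. -/
theorem isolated : Cfsg.IsIsolated z := by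
  intro g hg
  rcases W.two.swap _ hg with h | h
  · exact W.inner hg (comm_of_conj h).symm
  · exact (W.outer hg h).elim

end Swapped

end Cfsg.Agent.Fi22Two
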