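import Cfsg.Agent.Lib.Fi22Two.LocalQuot
import Cfsg.Agent.Lib.Fi22Two.InstCoord
import Cfsg.Agent.Lib.Fi22Two.InstNatural
import Cfsg.Agent.Lib.Fi22Two.InstPlaneAut
import Cfsg.Agent.Lib.Fi22Two.InstPlaneLin
import Cfsg.Agent.Lib.Fi22Two.Line
import Cfsg.Agent.Lib.Fi22Two.Pair
import Cfsg.Agent.Lib.Fi22Two.SwapSmall
import Cfsg.Agent.Lib.U62Aut.Red.Final
import Cfsg.Agent.Lib.U62Rec.Red.Final

/-!
The two cases: the involution of the centre is central in the centraliser of `z`, or it is moved there.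
The facts on the conjugates over a transvection and the complement are taken as arguments.
-/

set_option autoImplicit false
set_option linter.style.haveILetI false
set_option linter.unusedSectionVars false

namespace Cfsg.Agent.Fi22Two

open Subgroup LargeExtra
open scoped commutatorElement

universe u v w

variable {G : Type u} [Group G] [Finite G]

/-- The conclusion about the large case. -/
def BigEnd (z : G) (M : Type v) [Group M] : Prop :=
  ∃ z₁ : G, Core z z₁ ∧ (zpowers z₁).Normal ∧ ∃ (G₀ : Subgroup G) (_ : z₁ ∈ G₀), G₀.index = 2 ∧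
    ∃ _ : ((zpowers z₁).subgroupOf G₀).Normal, Nonempty ((↥G₀ ⧸ (zpowers z₁).subgroupOf G₀) ≃* M)

variable {z a : G} {F : Type w} [Field F] [Fintype F]
  [hJn : (Cfsg.pCore 2 ↥(centralizer ({z} : Set G))).Normal]
  (e : (↥(centralizer ({z} : Set G)) ⧸ Cfsg.pCore 2 ↥(centralizer ({z} : Set G))) ≃* MulAut (Cfsg.PSp 2 F))
  {E : Subgroup G} (hE : Cfsg.IsExtraspecial 2 ↥E) (hEc : Nat.card E = 512) (hle : E ≤ coreAt z)

namespace Core

section Local

variable (K : Core z a) [((zpowers a).subgroupOf (centralizer ({a} : Set G))).Normal] (haE : a ∉ E)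

include K e hE hEc hle haE

/-- Central: the natural facts, or a plane and a small centraliser. -/
theorem central_data (hF : Fintype.card F = 3) (hcen : ∀ h, Commute z h → Commute a h) :
    Nonempty (Natural z a) ∨ (Nonempty (Plane z a) ∧ Small z a) := by
  classical
  have hC := K.cenAut e hE hEc hle haE hcen
  obtain ⟨V, iV, ⟨S⟩⟩ := hC.space hF
  letI := iV
  by_cases hfix : ∀ v, (∀ x, S.inn x v = v) → v = 0
  · left
    obtain ⟨C⟩ := S.exists_crdA hfix
    obtain ⟨C', -, -⟩ := K.down.coord_aut K.two C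
    obtain ⟨N, -⟩ := Coord.natural K.two C'
    exact ⟨N⟩
  · right
    push Not at hfix
    obtain ⟨v, hv, hv0⟩ := hfix
    obtain ⟨u, P⟩ := S.exists_planes ⟨v, hv0, hv⟩
    obtain ⟨Q, -⟩ := K.down.plane_aut K.two S P
    exact ⟨⟨Q⟩, K.small_of_isolated fun g hg => S.isolated ⟨v, hv0, hv⟩ g hg⟩

/-- Not small: almost the unitary group modulo `a`. -/
theorem big_data (hF : Fintype.card F = 3) (hcen : ∀ h, Commute z h → Commute a h) (hns : ¬ Small z a)
    {L : Type v} [Field L] [Fintype L] (hL : Fintype.card L = 4) :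
    ∃ G₀ : Subgroup (Quo a), G₀.index = 2 ∧ Nonempty (↥G₀ ≃* Cfsg.PSU 6 L 2) := by
  rcases U62Aut.main_end (K.cenAut e hE hEc hle haE hcen) hF hL with ⟨G₀, h1, h2, -⟩ | h
  · exact ⟨G₀, h1, h2⟩
  · exact absurd (K.small_of_sup h) hns

/-- Moved: the natural facts with all elements inner, or a plane with all elements inner and small. -/
theorem swapped_data (hF : Fintype.card F = 3) (hsw : ∃ t, Commute z t ∧ t * a * t⁻¹ = a * z) :
    (∃ N : Natural z a, ∀ g, Commute z g → Commute a g → g ∈ N.inn) ∨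
      ((∃ P : Plane z a, ∀ g, Commute z g → Commute a g → g ∈ P.inn) ∧ Small z a) := by
  classical
  obtain ⟨h1, h2, h3, h4, hn, ⟨ei⟩⟩ := K.hyp e hE hEc hle haE hF hsw
  by_cases hfix : ∀ x ∈ coreAt (K.proj z),
      (∀ g : Quo a, Commute (K.proj z) g → g * x * g⁻¹ = x ∨ g * x * g⁻¹ = x * K.proj z) → x = 1 ∨ x = K.proj z
  · left
    obtain ⟨C⟩ := U62Rec.Model.exists_crd h1 hF h2 h3 h4 ei hfix
    obtain ⟨C', -, -, hC⟩ := K.down.coord_lin K.two C
    obtain ⟨N, hN⟩ := Coord.natural K.two C'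
    exact ⟨N, fun g hg hga => (hN g).2 ⟨hg, hga, hC g⟩⟩
  · right
    obtain ⟨V, iV, ⟨S⟩⟩ := U62Rec.Model.exists_space h1 hF h2 h3 h4 ei
    letI := iV
    obtain ⟨u, P⟩ := S.exists_planes hfix
    obtain ⟨R⟩ := S.red P
    exact ⟨K.down.plane_lin K.two S P, K.small_of_isolated R.isolated⟩

/-- Moved and not small: the unitary group modulo `a`. -/
theorem swapped_iso (hF : Fintype.card F = 3) (hsw : ∃ t, Commute z t ∧ t * a * t⁻¹ = a * z)
    (hns : ¬ Small z a) : Nonempty (Quo a ≃* Cfsg.PSU 6 RigidGraph.He.K4 2) := by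
  refine (U62Rec.recognition (K.hyp e hE hEc hle haE hF hsw) hF RigidGraph.He.K4.card_K4 ?_).resolve_right
    fun h => hns (K.small_of_sup h)
  rintro w ⟨hw, hwJ, hwc, hwC, hwn, ⟨ew⟩⟩
  exact U62Rec.Model.exists_loc_or_isolated hw hF hwJ hwc hwC ew

end Local

variable (K : Core z a) (haE : a ∉ E) (hazE : a * z ∉ E)

include K e hE hEc hle haE hazE

/-- The case of a central involution. -/
theorem central_case (hF : Fintype.card F = 3) (hcen : ∀ h, Commute z h → Commute a h)
    {L : Type v} [Field L] [Fintype L] (hL : Fintype.card L = 4) (hnz : ¬ Cfsg.IsIsolated z)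
    (hside : ∀ (D : G) (T : Two z D) [((zpowers D).subgroupOf (centralizer ({D} : Set G))).Normal] (K' : Core z D),
      U62Aut.CenAut (K'.proj z) F → ¬ Cfsg.IsIsolated (K'.proj z) →
        (∀ g, Commute z g → Commute D g → g * g ∈ coreAt z → g ∉ coreAt z → (fx z D g).ncard = 256 →
          (Side z D g).ncard = 4) ∧
        ∃ y ∈ Cls z D, Commute z y ∧ y * y ∈ coreAt z ∧ y ∉ coreAt z ∧ (fx z D y).ncard = 256) :
    BigEnd z (Cfsg.PSU 6 L 2) := by
  classical
  have hcen' : ∀ h, Commute z h → Commute (a * z) h := fun h hh => (hcen h hh).mul_left hh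
  have hzz : a * z * z = a := by rw [mul_assoc, K.z2, mul_one]
  haveI := zpowers_normal a
  haveI := zpowers_normal (a * z)
  have T := K.two
  have T' := K.other.two
  have hkind : Nonempty (Natural z a) ∨ (Nonempty (Plane z a) ∧ Small z a ∧ Small z (a * z)) := by
    rcases K.central_data e hE hEc hle haE hF hcen with h | ⟨hP, hS⟩
    · exact Or.inl h
    rcases K.other.central_data e hE hEc hle hazE hF hcen' with ⟨⟨N⟩⟩ | ⟨-, hS'⟩
    · left
      have := N.other T'
      rwa [hzz] at this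
    · exact Or.inr ⟨hP, hS, hS'⟩
  have C : Central z a := ⟨T, T', hcen, K.ne_conj hcen, hkind⟩
  by_cases hS : Small z a <;> by_cases hS' : Small z (a * z)
  · exact absurd (C.isolated_of_small hS hS') hnz
  · exact ⟨a * z, K.other, K.other.normal_end (C.isolated_big hS) hnz
      (K.other.big_data e hE hEc hle hazE hF hcen' hS' hL)⟩
  · obtain ⟨N⟩ := hkind.resolve_right fun h => hS h.2.1
    have C' : Central z (a * z) := ⟨T', hzz.symm ▸ T, hcen',
      fun g h => by
        rw [hzz] at h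
        refine K.ne_conj hcen g⁻¹ ?_
        rw [← h]; group,
      Or.inl (N.other T)⟩
    have hiso := C'.isolated_big hS'
    rw [hzz] at hiso
    exact ⟨a, K, K.normal_end hiso hnz (K.big_data e hE hEc hle haE hF hcen hS hL)⟩
  · exfalso
    obtain ⟨N⟩ := hkind.resolve_right fun h => hS h.2.1
    obtain ⟨h4, y, hy, hzy, hy2, hyJ, h256⟩ := hside a T K (K.cenAut e hE hEc hle haE hcen)
      fun h => hS (K.small_of_isolated h)
    obtain ⟨h4', -⟩ := hside (a * z) T' K.other (K.other.cenAut e hE hEc hle hazE hcen')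
      fun h => hS' (K.other.small_of_isolated h)
    have hay : Commute a y := hcen y hzy
    exact N.cross_absurd T (K.ne_conj hcen) hzy hay hy2 hyJ h256 (h4 y hzy hay hy2 hyJ h256)
      (h4' y hzy (hcen' y hzy) hy2 hyJ ((fx_other T y).symm ▸ h256))

/-- The case of a moved involution. -/
theorem swapped_case (hF : Fintype.card F = 3) (hsw : ∃ t, Commute z t ∧ t * a * t⁻¹ = a * z)
    (hnz : ¬ Cfsg.IsIsolated z)
    (hcompl : ∀ [((zpowers a).subgroupOf (centralizer ({a} : Set G))).Normal],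
      U62Rec.Hyp F (K.proj z) → ¬ Cfsg.IsIsolated (K.proj z) → ∀ U : Subgroup G, a ∉ U → (∀ u ∈ U, Commute a u) →
        (∀ c, Commute a c → c ∈ U ∨ a * c ∈ U) → (∀ c, Commute a c → ∀ u ∈ U, c * u * c⁻¹ ∈ U) → z ∈ U →
          Nonempty (Complement z a)) :
    Cfsg.Spor.IsoFi22 G := by
  classical
  haveI := zpowers_normal a
  have T := K.two
  have hdat := K.swapped_data e hE hEc hle haE hF hsw
  by_cases hS : Small z a
  · exact absurd (Swapped.isolated ⟨T, hsw, hS, hdat.imp id fun h => h.1⟩) hnz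
  obtain ⟨N, -⟩ := hdat.resolve_right fun h => hS h.2
  obtain ⟨ex⟩ := K.swapped_iso e hE hEc hle haE hF hsw hS
  rcases K.fi22_or_complement hsw ex with h | ⟨U, hdU, hUd, hcov, hUn, hzU⟩
  · exact h
  exfalso
  obtain ⟨C⟩ := hcompl (K.hyp e hE hEc hle haE hF hsw) (fun h => hS (K.small_of_isolated h)) U hdU hUd hcov hUn hzU
  obtain ⟨t, htz, hta⟩ := hsw
  exact C.absurd_swap T N (conj_of_comm htz.symm) hta

end Core

end Cfsg.Agent.Fi22Two
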