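import Cfsg.Agent.Lib.Fi22Two.Frame

/-!
The finite facts in the case of the natural module, stated in the group, and their consequences for a pair of
commuting involutions with nested centralisers.
-/

set_option autoImplicit false
set_option linter.style.haveILetI false
set_option linter.unusedSectionVars false

namespace Cfsg.Agent.Fi22Two

open Subgroup LargeExtra
open scoped commutatorElement

variable {G : Type*} [Group G] [Finite G]

/-- The elements of the core centralised by `g` modulo the centre. -/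
def fx (z d g : G) : Set G := {a | a ∈ coreAt z ∧ ⁅g, a⁆ ∈ Zc z d}

/-- `m` is a commutator with `g` modulo the centre. -/
def InIm (z d g m : G) : Prop := ∃ v ∈ coreAt z, ⁅g, v⁆⁻¹ * m ∈ Zc z d

/-- The facts on the natural module. -/
structure Natural (z d : G) where
  /-- The elements inducing linear maps. -/
  inn : Subgroup G
  inn_z : ∀ g ∈ inn, Commute z g
  inn_d : ∀ g ∈ inn, Commute d g
  core_le : coreAt z ≤ inn
  inn_mul : ∀ g h, Commute z g → Commute d g → Commute z h → Commute d h → g ∉ inn → h ∉ inn → g * h ∈ inn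
  shape : ∀ g, Commute z g → Commute d g → g * g ∈ coreAt z → g ∉ coreAt z →
    (fx z d g).ncard = 256 ∨ ((fx z d g).ncard = 64 ∧ (∀ m ∈ fx z d g, InIm z d g m) ∧
      (g ∈ inn → ∀ m ∈ fx z d g, m * m = 1))
  tv_two : ∀ g h, Commute z g → Commute d g → Commute z h → Commute d h → g * g ∈ coreAt z → h * h ∈ coreAt z →
    h ∉ coreAt z → g⁻¹ * h ∉ coreAt z → (fx z d g).ncard = 256 → (fx z d g ∩ fx z d h).ncard ≤ 64
  tv_odd : ∀ g, Commute z g → Commute d g → g * g ∈ coreAt z → (fx z d g).ncard = 256 →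
    ∃ x ∈ inn, ∃ k ∈ inn, x ^ 3 ∈ coreAt z ∧ k ^ 3 ∈ coreAt z ∧ ⁅x, g⁆ ∈ coreAt z ∧ ⁅k, g⁆ ∈ coreAt z ∧
      ⁅x, k⁆ ∈ coreAt z ∧ (∀ v ∈ coreAt z, ⁅x, ⁅g, v⁆⁆ ∈ Zc z d) ∧
      (∀ m ∈ fx z d g, ⁅x, m⁆ ∈ Zc z d → InIm z d g m) ∧
      (∀ v ∈ coreAt z, ⁅k, ⁅g, v⁆⁆ ∈ Zc z d → ⁅g, v⁆ ∈ Zc z d)
  good_odd : ∀ s t, s ∈ inn → s * s ∈ coreAt z → s ∉ coreAt z → (fx z d s).ncard = 64 →
    Commute z t → Commute d t → t * t ∈ coreAt z → (∀ m ∈ fx z d s, ⁅t, m⁆ ∈ Zc z d) →
    t ∈ coreAt z ∨ s⁻¹ * t ∈ coreAt z ∨ ((fx z d t).ncard = 256 ∧ (fx z d (s * t)).ncard = 256) ∨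
      ∃ x ∈ inn, x ^ 3 ∈ coreAt z ∧ ⁅x, s⁆ ∈ coreAt z ∧ ⁅x, t⁆ ∉ coreAt z
  outer_pair : ∀ s t, Commute z s → Commute d s → Commute z t → Commute d t → s ∉ inn → t ∉ inn →
    s * s ∈ coreAt z → t * t ∈ coreAt z → ⁅s, t⁆ ∈ coreAt z →
    (∀ m ∈ fx z d s, m * m = 1 → ⁅t, m⁆ ∈ Zc z d) → (∀ m ∈ fx z d t, m * m = 1 → ⁅s, m⁆ ∈ Zc z d) →
    s⁻¹ * t ∈ coreAt z

namespace Two

variable {z d : G} (T : Two z d)

include T

theorem inv_of_sq {s : G} (h : s * s = 1) : s⁻¹ = s := inv_eq_of_mul_eq_one_right h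

theorem mem_fx_of_comm {g a : G} (ha : a ∈ coreAt z) (h : Commute g a) : a ∈ fx z d g :=
  ⟨ha, by rw [commutatorElement_eq_one_iff_commute.2 h]; exact T.one_mem_Zc⟩

theorem conj_of_bracket {s v : G} (hs2 : s * s = 1) : v * s * v⁻¹ = s * ⁅s, v⁆ := by
  rw [commutatorElement_def, inv_eq_of_mul_eq_one_right hs2, ← mul_assoc, ← mul_assoc, ← mul_assoc, hs2, one_mul]

/-- The commutator with an involution of its commutator. -/
theorem bracket_bracket {s v : G} (hs2 : s * s = 1) : ⁅s, ⁅s, v⁆⁆ = (⁅s, v⁆ * ⁅s, v⁆)⁻¹ := by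
  simp [commutatorElement_def, inv_eq_of_mul_eq_one_right hs2, mul_assoc, ← mul_assoc s s, hs2]

/-- A commutator modulo the centre with square one is centralised. -/
theorem comm_of_sq {s m : G} (hsz : Commute z s) (hsd : Commute d s) (hs2 : s * s = 1) (hm : InIm z d s m)
    (hm2 : m * m = 1) : Commute s m := by
  obtain ⟨v, hv, hζ⟩ := hm
  set α := ⁅s, v⁆ with hα
  obtain ⟨ζ, hζm, rfl⟩ : ∃ ζ ∈ Zc z d, m = α * ζ := ⟨_, hζ, by group⟩
  have hαζ : Commute α ζ := (T.Zc_central hζm (T.bracket_mem hsz hv)).symm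
  rw [hαζ.symm.mul_mul_mul_comm, T.Zc_sq hζm, mul_one] at hm2
  have hsα : Commute s α := by
    rw [← commutatorElement_eq_one_iff_commute, hα, T.bracket_bracket hs2, ← hα, hm2, inv_one]
  exact hsα.mul_right (T.Zc_comm hζm hsz hsd).symm

/-- Centralised elements are few. -/
theorem ncard_perp {g : G} : Nat.card ↥(coreAt z ⊓ centralizer ({g} : Set G)) =
    {a | a ∈ coreAt z ∧ Commute g a}.ncard := by
  rw [← Nat.card_coe_set_eq]
  refine Nat.card_congr (Equiv.setCongr ?_)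
  ext a
  simp only [coe_inf, Set.mem_inter_iff, SetLike.mem_coe, mem_centralizer_one, Set.mem_ofPred_eq]
  exact and_congr_right fun _ => ⟨fun h => h.symm, fun h => h.symm⟩

/-- A square of a lift centralises the involution. -/
theorem lift_sq {s h : G} (hsz : Commute z s) (hsd : Commute d s) (hs2 : s * s = 1) (hhz : Commute z h)
    (hhd : Commute d h) (hn : InIm z d s (s * (h * s * h⁻¹))) :
    ∃ v ∈ coreAt z, Commute (v⁻¹ * h * (v⁻¹ * h)) s := by
  obtain ⟨v, hv, hζ⟩ := hn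
  refine ⟨v, hv, comm_of_conj ?_⟩
  set ζ := ⁅s, v⁆⁻¹ * (s * (h * s * h⁻¹)) with hζdef
  have e1 : h * s * h⁻¹ = v * s * v⁻¹ * ζ := by
    rw [T.conj_of_bracket (v := v) hs2, hζdef]
    calc h * s * h⁻¹ = s * s * (h * s * h⁻¹) := by rw [hs2, one_mul]
      _ = _ := by group
  set k := v⁻¹ * h with hk
  have hkz : Commute z k := (T.comm_z hv).inv_right.mul_right hhz
  have hkd : Commute d k := (T.d_central v hv).inv_right.mul_right hhd
  have e2 : k * s * k⁻¹ = s * ζ := by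
    rw [hk, show v⁻¹ * h * s * (v⁻¹ * h)⁻¹ = v⁻¹ * (h * s * h⁻¹) * v by group, e1]
    have : Commute ζ v := T.Zc_central hζ hv
    rw [show v⁻¹ * (v * s * v⁻¹ * ζ) * v = s * (v⁻¹ * (ζ * v)) by group, this.eq, inv_mul_cancel_left]
  rw [show k * k * s * (k * k)⁻¹ = k * (k * s * k⁻¹) * k⁻¹ by group, e2,
    show k * (s * ζ) * k⁻¹ = k * s * k⁻¹ * (k * ζ * k⁻¹) by group, e2, conj_of_comm (T.Zc_comm hζ hkz hkd).symm,
    mul_assoc, T.Zc_sq hζ, mul_one]

/-- The translation of a lift lies among the elements centralised modulo the centre. -/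
theorem move_mem {s h : G} (hs2 : s * s = 1) (hsz : Commute z s) (hc : ⁅h, s⁆ ∈ coreAt z) :
    s * (h * s * h⁻¹) ∈ fx z d s := by
  set n := s * (h * s * h⁻¹) with hn
  have hsi := inv_eq_of_mul_eq_one_right hs2
  have hnJ : n ∈ coreAt z := by
    rw [hn, show s * (h * s * h⁻¹) = s * (⁅h, s⁆ * s) by rw [comm_elem_eq], ← mul_assoc]
    have := T.conj_mem_core hsz hc
    rwa [hsi] at this
  refine ⟨hnJ, ?_⟩
  have e : ⁅s, n⁆ = (n * n)⁻¹ := by
    have h2 : h * s * h⁻¹ * (h * s * h⁻¹) = 1 := by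
      rw [show h * s * h⁻¹ * (h * s * h⁻¹) = h * (s * s) * h⁻¹ by group, hs2]; group
    have e0 : s * n * s⁻¹ = n⁻¹ := by
      rw [hn, hsi, ← mul_assoc, hs2, one_mul, mul_inv_rev, hsi, inv_eq_of_mul_eq_one_right h2]
    rw [commutatorElement_def, e0]
    exact (mul_inv_rev n n).symm
  rw [e]
  rcases T.sq n hnJ with h1 | h1 <;> rw [h1]
  · rw [inv_one]; exact T.one_mem_Zc
  · rw [T.z_inv]; exact T.z_mem_Zc

end Two

namespace Natural

variable {z d : G} (N : Natural z d) (T : Two z d)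

include N T

/-- A good inner involution centralises all it centralises modulo the centre. -/
theorem good_full {s : G} (hs : s ∈ N.inn) (hs2 : s * s = 1) (hsJ : s ∉ coreAt z)
    (h64 : (fx z d s).ncard = 64) : ∀ m ∈ fx z d s, Commute s m := by
  intro m hm
  obtain ⟨-, hin, hsq⟩ := (N.shape s (N.inn_z s hs) (N.inn_d s hs) (by rw [hs2]; exact one_mem _) hsJ).resolve_left
    (by omega)
  exact T.comm_of_sq (N.inn_z s hs) (N.inn_d s hs) hs2 (hin m hm) (hsq hs m hm)

/-- A transvection centralises half of what it centralises modulo the centre. -/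
theorem tv_perp {g : G} (hgz : Commute z g) (hgd : Commute d g) (hg2 : g * g = 1)
    (h256 : (fx z d g).ncard = 256) : 128 ≤ {a | a ∈ coreAt z ∧ Commute g a}.ncard := by
  classical
  obtain ⟨x, hx, k, -, hx3, -, hxg, -, -, hxim, hxfix, -⟩ := N.tv_odd g hgz hgd (by rw [hg2]; exact one_mem _) h256
  have hxz := N.inn_z x hx
  have hxd := N.inn_d x hx
  have hgmul : ∀ {a b : G}, a ∈ fx z d g → b ∈ fx z d g → ⁅g, a * b⁆ = ⁅g, a⁆ * ⁅g, b⁆ := fun {a b} ha hb => by
    rw [show ⁅g, a * b⁆ = ⁅g, a⁆ * (a * ⁅g, b⁆ * a⁻¹) by simp [commutatorElement_def, mul_assoc],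
      conj_of_comm (T.Zc_central hb.2 ha.1).symm]
  have hmul : ∀ {a b : G}, a ∈ fx z d g → b ∈ fx z d g → a * b ∈ fx z d g := fun {a b} ha hb =>
    ⟨mul_mem ha.1 hb.1, by rw [hgmul ha hb]; exact T.Zc_mul ha.2 hb.2⟩
  -- invariance under `x`
  have hinv : ∀ a ∈ fx z d g, x * a * x⁻¹ ∈ fx z d g ∧
      ∃ η, (η = 1 ∨ η = z) ∧ ⁅g, x * a * x⁻¹⁆ = η * ⁅g, a⁆ := by
    intro a ha
    have hj : g⁻¹ * (x⁻¹ * g * x) ∈ coreAt z := by
      have e : g⁻¹ * (x⁻¹ * g * x) = g⁻¹ * (x⁻¹ * ⁅x, g⁆⁻¹ * x) * g := by simp [commutatorElement_def, mul_assoc]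
      rw [e]
      have h1 := T.conj_mem_core hxz.inv_right (inv_mem hxg)
      rw [inv_inv] at h1
      have h2 := T.conj_mem_core hgz.inv_right h1
      rwa [inv_inv] at h2
    set j := g⁻¹ * (x⁻¹ * g * x) with hjdef
    have e1 : ⁅g, x * a * x⁻¹⁆ = ⁅j, a⁆ * ⁅g, a⁆ := by
      calc ⁅g, x * a * x⁻¹⁆ = x * ⁅x⁻¹ * g * x, a⁆ * x⁻¹ := by simp [commutatorElement_def, mul_assoc]
        _ = x * ⁅g * j, a⁆ * x⁻¹ := by rw [hjdef, mul_inv_cancel_left]
        _ = x * (g * ⁅j, a⁆ * g⁻¹ * ⁅g, a⁆) * x⁻¹ := by simp [commutatorElement_def, mul_assoc]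
        _ = x * (g * ⁅j, a⁆ * g⁻¹) * x⁻¹ * (x * ⁅g, a⁆ * x⁻¹) := by group
        _ = ⁅j, a⁆ * ⁅g, a⁆ := by
          rw [conj_of_comm (T.Zc_comm ha.2 hxz hxd).symm]
          rcases T.comm j hj a ha.1 with e | e <;> rw [e]
          · group
          · rw [conj_of_comm hgz.symm, conj_of_comm hxz.symm]
    refine ⟨⟨T.conj_mem_core hxz ha.1, ?_⟩, ⁅j, a⁆, T.comm j hj a ha.1, e1⟩
    rw [e1]
    refine T.Zc_mul ?_ ha.2
    rcases T.comm j hj a ha.1 with e | e <;> rw [e]
    exacts [T.one_mem_Zc, T.z_mem_Zc]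
  have hmod : ∀ m ∈ fx z d g, ⁅g, m⁆ = 1 ∨ ⁅g, m⁆ = z := by
    intro m hm
    obtain ⟨hm1, η1, hη1, e1⟩ := hinv m hm
    obtain ⟨hm2, η2, hη2, e2⟩ := hinv _ hm1
    set a := m with ha
    set b := x * m * x⁻¹ with hb
    set c := x * b * x⁻¹ with hc
    set P := a * b * c with hP
    have hPfx : P ∈ fx z d g := hmul (hmul hm hm1) hm2
    have hxc : x * c * x⁻¹ = a ∨ x * c * x⁻¹ = a * z := by
      rw [hc, hb, show x * (x * (x * m * x⁻¹) * x⁻¹) * x⁻¹ = x ^ 3 * m * (x ^ 3)⁻¹ by rw [pow_three']; group]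
      exact T.conj_cases hx3 hm.1
    have hxP : ⁅x, P⁆ ∈ Zc z d := by
      have e3 : x * P * x⁻¹ = b * c * (x * c * x⁻¹) := by rw [hP, hc, hb, ha]; group
      have hcyc : b * c * a = P ∨ b * c * a = z * P := by
        rcases T.comm _ (mul_mem hm1.1 hm2.1) _ hm.1 with e | e
        · left; rw [hP, mul_assoc a b c]; exact commutatorElement_eq_one_iff_commute.1 e
        · right; rw [hP, mul_assoc a b c, ← e, commutatorElement_def]; group
      have hz' : ∀ {w : G}, w ∈ coreAt z → w * z = z * w := fun hw => (T.comm_z hw).eq.symm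
      rw [commutatorElement_def, e3]
      rcases hxc with e | e <;> rw [e]
      · rcases hcyc with e' | e' <;> rw [e']
        · rw [mul_inv_cancel]; exact T.one_mem_Zc
        · rw [mul_inv_cancel_right]; exact T.z_mem_Zc
      · rw [← mul_assoc, hz' (mul_mem (mul_mem hm1.1 hm2.1) hm.1)]
        rcases hcyc with e' | e' <;> rw [e']
        · rw [mul_inv_cancel_right]; exact T.z_mem_Zc
        · rw [← mul_assoc, T.z2, one_mul, mul_inv_cancel]; exact T.one_mem_Zc
    obtain ⟨v, hv, hζ⟩ := hxfix P hPfx hxP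
    have hψP : ⁅g, P⁆ = 1 ∨ ⁅g, P⁆ = z := by
      set ζ := ⁅g, v⁆⁻¹ * P with hζdef
      have hPe : P = ⁅g, v⁆ * ζ := by rw [hζdef]; group
      rw [hPe, show ⁅g, ⁅g, v⁆ * ζ⁆ = ⁅g, ⁅g, v⁆⁆ * (⁅g, v⁆ * ⁅g, ζ⁆ * ⁅g, v⁆⁻¹) by
        simp [commutatorElement_def, mul_assoc], commutatorElement_eq_one_iff_commute.2 (T.Zc_comm hζ hgz hgd).symm,
        mul_one, mul_inv_cancel, mul_one, T.bracket_bracket hg2]
      rcases T.sq _ (T.bracket_mem hgz hv) with e | e <;> rw [e]
      · exact Or.inl inv_one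
      · exact Or.inr T.z_inv
    rw [hP, hgmul (hmul hm hm1) hm2, hgmul hm hm1] at hψP
    rw [show ⁅g, c⁆ = η2 * ⁅g, b⁆ from e2, show ⁅g, b⁆ = η1 * ⁅g, a⁆ from e1] at hψP
    set w := ⁅g, a⁆ with hw
    have hw2 : w * w = 1 := T.Zc_sq hm.2
    have hwz : w * z = z * w := (T.Zc_comm hm.2 (Commute.refl z) T.zd.symm).eq
    have hsimp : w * (η1 * w) * (η2 * (η1 * w)) = η2 * w := by
      have c1 : Commute η1 w := by rcases hη1 with rfl | rfl; exacts [Commute.one_left _, hwz.symm]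
      have c2 : Commute η2 η1 := by
        rcases hη2 with rfl | rfl <;> rcases hη1 with rfl | rfl <;> simp [Commute, SemiconjBy]
      have q1 : η1 * η1 = 1 := by rcases hη1 with rfl | rfl; exacts [one_mul 1, T.z2]
      calc w * (η1 * w) * (η2 * (η1 * w)) = w * (w * η1) * (η2 * (η1 * w)) := by rw [c1.eq]
        _ = (w * w) * (η1 * η2) * (η1 * w) := by group
        _ = η2 * (η1 * η1) * w := by rw [hw2, one_mul, ← c2.eq]; group
        _ = η2 * w := by rw [q1, mul_one]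
    rw [hsimp] at hψP
    rcases hη2 with rfl | rfl
    · rwa [one_mul] at hψP
    · rcases hψP with e | e
      · right; rw [mul_eq_one_iff_eq_inv] at e; rw [← T.z_inv, e, inv_inv]
      · exact Or.inl (mul_eq_left.1 e)
  set C := {a | a ∈ coreAt z ∧ Commute g a} with hC
  by_cases hall : ∀ m ∈ fx z d g, Commute g m
  · have := Set.ncard_le_ncard (t := C) (fun m hm => ⟨hm.1, hall m hm⟩) (Set.toFinite _)
    omega
  push Not at hall
  obtain ⟨m₀, hm₀, hm₀g⟩ := hall
  have hsub : fx z d g ⊆ C ∪ (fun a => m₀ * a) '' C := by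
    intro m hm
    rcases hmod m hm with e | e
    · exact Or.inl ⟨hm.1, commutatorElement_eq_one_iff_commute.1 e⟩
    · refine Or.inr ⟨m₀⁻¹ * m, ⟨mul_mem (inv_mem hm₀.1) hm.1, ?_⟩, by group⟩
      have e0 : ⁅g, m₀⁆ = z := (hmod m₀ hm₀).resolve_left fun e' => hm₀g (commutatorElement_eq_one_iff_commute.1 e')
      refine comm_of_conj ?_
      rw [show g * (m₀⁻¹ * m) * g⁻¹ = (g * m₀ * g⁻¹)⁻¹ * (g * m * g⁻¹) by group, ← comm_elem_eq, e0,
        ← comm_elem_eq (a := m), e]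
      group
  have := (Set.ncard_le_ncard hsub (Set.toFinite _)).trans (Set.ncard_union_le _ _)
  rw [Set.ncard_image_of_injective _ (mul_right_injective m₀)] at this
  omega

/-- A transvection and another involution with nested centralisers are equal modulo the core. -/
theorem tv_base {s t : G} (hsz : Commute z s) (hsd : Commute d s) (htz : Commute z t) (htd : Commute d t)
    (hs2 : s * s = 1) (ht2 : t * t = 1) (htJ : t ∉ coreAt z) (hstJ : s * t ∉ coreAt z)
    (h256 : (fx z d s).ncard = 256) (hle : ∀ a ∈ coreAt z, Commute s a → Commute t a) : False := by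
  have h1 := N.tv_perp T hsz hsd hs2 h256
  have h2 := N.tv_two s t hsz hsd htz htd (by rw [hs2]; exact one_mem _) (by rw [ht2]; exact one_mem _) htJ
    (by rwa [inv_eq_of_mul_eq_one_right hs2]) h256
  have h3 := Set.ncard_le_ncard (s := {a | a ∈ coreAt z ∧ Commute s a}) (t := fx z d s ∩ fx z d t)
    (fun a ha => ⟨T.mem_fx_of_comm ha.1 ha.2, T.mem_fx_of_comm ha.1 (hle a ha.1 ha.2)⟩) (Set.toFinite _)
  omega

/-- A good inner involution and another with nested centralisers are equal modulo the core. -/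
theorem good_base {s t : G} (hs : s ∈ N.inn) (htz : Commute z t) (htd : Commute d t)
    (hs2 : s * s = 1) (ht2 : t * t = 1) (hsJ : s ∉ coreAt z) (htJ : t ∉ coreAt z) (hstJ : s * t ∉ coreAt z)
    (h64 : (fx z d s).ncard = 64) (hno : (fx z d t).ncard ≠ 256 ∨ (fx z d (s * t)).ncard ≠ 256)
    (hle : ∀ c, Commute z c → Commute d c → Commute s c → Commute t c) : False := by
  have hsz := N.inn_z s hs
  have hsd := N.inn_d s hs
  have hfull := N.good_full T hs hs2 hsJ h64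
  rcases N.good_odd s t hs (by rw [hs2]; exact one_mem _) hsJ h64 htz htd (by rw [ht2]; exact one_mem _)
    (fun m hm => by
      rw [commutatorElement_eq_one_iff_commute.2 (hle m (T.comm_z hm.1) (T.d_central m hm.1) (hfull m hm))]
      exact T.one_mem_Zc) with h | h | h | ⟨x, hx, hx3, hxs, hxt⟩
  · exact htJ h
  · exact hstJ (by rwa [inv_eq_of_mul_eq_one_right hs2] at h)
  · omega
  obtain ⟨-, hin, -⟩ := (N.shape s hsz hsd (by rw [hs2]; exact one_mem _) hsJ).resolve_left (by omega)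
  have hxz := N.inn_z x hx
  have hxd := N.inn_d x hx
  obtain ⟨v, hv, hc⟩ := T.lift_sq hsz hsd hs2 hxz hxd (hin _ (T.move_mem hs2 hsz hxs))
  set k := v⁻¹ * x with hk
  have hkz : Commute z k := (T.comm_z hv).inv_right.mul_right hxz
  have hkd : Commute d k := (T.d_central v hv).inv_right.mul_right hxd
  have hkt := hle (k * k) (hkz.mul_right hkz) (hkd.mul_right hkd) hc.symm
  -- the subgroup of elements commuting with `t` modulo the core
  let C : Subgroup G :=
    { carrier := {g | Commute z g ∧ ⁅g, t⁆ ∈ coreAt z}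
      one_mem' := ⟨Commute.one_right z, by rw [commutatorElement_one_left]; exact one_mem _⟩
      mul_mem' := fun {g g'} hg hg' => ⟨hg.1.mul_right hg'.1, by
        rw [show ⁅g * g', t⁆ = g * ⁅g', t⁆ * g⁻¹ * ⁅g, t⁆ by simp [commutatorElement_def, mul_assoc]]
        exact mul_mem (T.conj_mem_core hg.1 hg'.2) hg.2⟩
      inv_mem' := fun {g} hg => ⟨hg.1.inv_right, by
        rw [show ⁅g⁻¹, t⁆ = g⁻¹ * ⁅g, t⁆⁻¹ * g⁻¹⁻¹ by simp [commutatorElement_def, mul_assoc]]
        exact T.conj_mem_core hg.1.inv_right (inv_mem hg.2)⟩ }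
  have hJC : ∀ a ∈ coreAt z, a ∈ C := fun a ha => ⟨T.comm_z ha, by
    rw [show ⁅a, t⁆ = a * (t * a⁻¹ * t⁻¹) by simp [commutatorElement_def, mul_assoc]]
    exact mul_mem ha (T.conj_mem_core htz (inv_mem ha))⟩
  have h1 : k * k ∈ C := ⟨hkz.mul_right hkz,
    by rw [commutatorElement_eq_one_iff_commute.2 hkt.symm]; exact one_mem _⟩
  have hxx : x * x ∈ C := by
    have e : x * x = v * (k * k) * (k⁻¹ * v * k) := by rw [hk]; group
    rw [e]
    refine mul_mem (mul_mem (hJC v hv) h1) (hJC _ ?_)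
    have := T.conj_mem_core hkz.inv_right hv
    rwa [inv_inv] at this
  refine hxt (show x ∈ C from ?_).2
  have e : x = (x * x) * (x * x) * (x ^ 3)⁻¹ := by group
  rw [e]
  exact mul_mem (mul_mem hxx hxx) (inv_mem (hJC _ hx3))

/-- Two outer involutions with equal centralisers in the core are equal modulo the core. -/
theorem outer_base {s t : G} (hsz : Commute z s) (hsd : Commute d s) (htz : Commute z t) (htd : Commute d t)
    (hsn : s ∉ N.inn) (htn : t ∉ N.inn) (hs2 : s * s = 1) (ht2 : t * t = 1) (hst : Commute s t)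
    (hsJ : s ∉ coreAt z) (htJ : t ∉ coreAt z) (hstJ : s * t ∉ coreAt z)
    (h1 : (fx z d s).ncard = 64) (h2 : (fx z d t).ncard = 64)
    (hle : ∀ a ∈ coreAt z, Commute s a ↔ Commute t a) : False := by
  have key : ∀ {s t : G}, Commute z s → Commute d s → s * s = 1 → s ∉ coreAt z → (fx z d s).ncard = 64 →
      (∀ a ∈ coreAt z, Commute s a → Commute t a) → ∀ m ∈ fx z d s, m * m = 1 → ⁅t, m⁆ ∈ Zc z d := by
    intro s t hz' hd' h2' hJ' h64 hle' m hm hm2
    obtain ⟨-, hin, -⟩ := (N.shape s hz' hd' (by rw [h2']; exact one_mem _) hJ').resolve_left (by omega)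
    rw [commutatorElement_eq_one_iff_commute.2 (hle' m hm.1 (T.comm_of_sq hz' hd' h2' (hin m hm) hm2))]
    exact T.one_mem_Zc
  have := N.outer_pair s t hsz hsd htz htd hsn htn (by rw [hs2]; exact one_mem _) (by rw [ht2]; exact one_mem _)
    (by rw [commutatorElement_eq_one_iff_commute.2 hst]; exact one_mem _)
    (key hsz hsd hs2 hsJ h1 fun a ha => (hle a ha).1) (key htz htd ht2 htJ h2 fun a ha => (hle a ha).2)
  rw [inv_eq_of_mul_eq_one_right hs2] at this
  exact hstJ this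

/-- Two involutions with equal centralisers are equal modulo the core. -/
theorem equal_absurd {e y : G} (hez : Commute z e) (hed : Commute d e) (hyz : Commute z y) (hyd : Commute d y)
    (he2 : e * e = 1) (hy2 : y * y = 1) (hey : Commute e y) (heJ : e ∉ coreAt z) (hyJ : y ∉ coreAt z)
    (hfJ : e * y ∉ coreAt z) (hle : ∀ c, Commute z c → Commute d c → (Commute e c ↔ Commute y c)) : False := by
  have hfJ' : y * e ∉ coreAt z := by rwa [← hey.eq]
  have hleJ : ∀ a ∈ coreAt z, Commute e a ↔ Commute y a := fun a ha => hle a (T.comm_z ha) (T.d_central a ha)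
  by_cases he : (fx z d e).ncard = 256
  · exact N.tv_base T hez hed hyz hyd he2 hy2 hyJ hfJ he fun a ha => (hleJ a ha).1
  by_cases hy : (fx z d y).ncard = 256
  · exact N.tv_base T hyz hyd hez hed hy2 he2 heJ hfJ' hy fun a ha => (hleJ a ha).2
  have he64 := ((N.shape e hez hed (by rw [he2]; exact one_mem _) heJ).resolve_left he).1
  have hy64 := ((N.shape y hyz hyd (by rw [hy2]; exact one_mem _) hyJ).resolve_left hy).1
  by_cases hei : e ∈ N.inn
  · exact N.good_base T hei hyz hyd he2 hy2 heJ hyJ hfJ he64 (Or.inl hy) fun c hc hc' => (hle c hc hc').1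
  by_cases hyi : y ∈ N.inn
  · exact N.good_base T hyi hez hed hy2 he2 hyJ heJ hfJ' hy64 (Or.inl he) fun c hc hc' => (hle c hc hc').2
  exact N.outer_base T hez hed hyz hyd hei hyi he2 hy2 hey heJ hyJ hfJ he64 hy64 hleJ

/-- A pair and its product with nested centralisers, all inner. -/
theorem pair_absurd (hall : ∀ g, Commute z g → Commute d g → g ∈ N.inn) {e y : G} (hez : Commute z e)
    (hed : Commute d e) (hyz : Commute z y) (hyd : Commute d y) (he2 : e * e = 1) (hy2 : y * y = 1)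
    (hey : Commute e y) (heJ : e ∉ coreAt z) (hyJ : y ∉ coreAt z) (hfJ : e * y ∉ coreAt z)
    (hle : ∀ c, Commute z c → Commute d c → Commute e c → Commute y c)
    (hle' : ∀ c, Commute z c → Commute d c → Commute (e * y) c → Commute y c) : False := by
  by_cases he : (fx z d e).ncard = 256
  · exact N.tv_base T hez hed hyz hyd he2 hy2 hyJ hfJ he fun a ha => hle a (T.comm_z ha) (T.d_central a ha)
  by_cases hf : (fx z d (e * y)).ncard = 256
  · refine N.tv_base T (hez.mul_right hyz) (hed.mul_right hyd) hyz hyd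
      (by rw [hey.symm.mul_mul_mul_comm, he2, hy2, one_mul]) hy2 hyJ ?_ hf fun a ha =>
        hle' a (T.comm_z ha) (T.d_central a ha)
    rwa [mul_assoc, hy2, mul_one]
  exact N.good_base T (hall e hez hed) hyz hyd he2 hy2 heJ hyJ hfJ
    ((N.shape e hez hed (by rw [he2]; exact one_mem _) heJ).resolve_left he).1 (Or.inr hf) hle

/-- A pair over an involution of the core. -/
theorem core_absurd {e y : G} (hez : Commute z e) (hed : Commute d e) (he2 : e * e = 1) (hy2 : y * y = 1)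
    (hey : Commute e y) (hei : e ∈ N.inn) (heJ : e ∉ coreAt z) (hyJ : y ∈ coreAt z) (hyZ : y ∉ Zc z d)
    (hle : ∀ c, Commute z c → Commute d c → Commute e c → Commute y c)
    (hperm : ∀ c, Commute z c → Commute d c → Commute y c → c * e * c⁻¹ = e ∨ c * e * c⁻¹ = e * y) :
    False := by
  have hei2 := inv_eq_of_mul_eq_one_right he2
  set Ce := {a | a ∈ coreAt z ∧ Commute e a} with hCe
  set Cy := {a | a ∈ coreAt z ∧ Commute y a} with hCy
  have hCy512 : Cy.ncard = 512 := by rw [hCy, ← T.ncard_perp, T.card_perp hyJ hyZ]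
  have hCefx : Ce.ncard ≤ (fx z d e).ncard := Set.ncard_le_ncard (fun a ha => T.mem_fx_of_comm ha.1 ha.2) (Set.toFinite _)
  -- an element moving `e`
  obtain ⟨n, hn, hne⟩ : ∃ n ∈ Cy, ¬ Commute e n := by
    by_contra h
    push Not at h
    have := Set.ncard_le_ncard (s := Cy) (t := Ce) (fun a ha => ⟨ha.1, h a ha⟩) (Set.toFinite _)
    rcases N.shape e hez hed (by rw [he2]; exact one_mem _) heJ with h' | ⟨h', -⟩ <;> omega
  have hsub : Cy ⊆ Ce ∪ (fun a => n * a) '' Ce := by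
    intro a ha
    rcases hperm a (T.comm_z ha.1) (T.d_central a ha.1) ha.2 with h | h
    · exact Or.inl ⟨ha.1, (comm_of_conj h).symm⟩
    refine Or.inr ⟨n⁻¹ * a, ⟨mul_mem (inv_mem hn.1) ha.1, (comm_of_conj ?_).symm⟩, by group⟩
    have e2 : n * e * n⁻¹ = e * y := (hperm n (T.comm_z hn.1) (T.d_central n hn.1) hn.2).resolve_left
      fun h' => hne (comm_of_conj h').symm
    rw [show n⁻¹ * a * e * (n⁻¹ * a)⁻¹ = n⁻¹ * (a * e * a⁻¹) * n by group, h, ← e2]
    group
  have hCe256 : 256 ≤ Ce.ncard := by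
    have := (Set.ncard_le_ncard hsub (Set.toFinite _)).trans (Set.ncard_union_le _ _)
    rw [Set.ncard_image_of_injective _ (mul_right_injective n)] at this
    omega
  have h256 : (fx z d e).ncard = 256 := by
    rcases N.shape e hez hed (by rw [he2]; exact one_mem _) heJ with h | ⟨h, -⟩
    · exact h
    · omega
  -- `y` is a commutator with `e`
  have hyv : ⁅e, n⁆ = y := by
    have e2 : n * e * n⁻¹ = e * y := (hperm n (T.comm_z hn.1) (T.d_central n hn.1) hn.2).resolve_left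
      fun h' => hne (comm_of_conj h').symm
    rw [commutatorElement_def, hei2, show e * n * e * n⁻¹ = e * (n * e * n⁻¹) by group, e2, ← mul_assoc, he2, one_mul]
  obtain ⟨x, hx, k, hk, hx3, hk3, hxe, hke, hxk, hxim, hxfix, hkim⟩ :=
    N.tv_odd e hez hed (by rw [he2]; exact one_mem _) h256
  have hxz := N.inn_z x hx
  have hxd := N.inn_d x hx
  have hkz := N.inn_z k hk
  have hkd := N.inn_d k hk
  -- a lift of `x` centralising `e`
  have hxy : Commute y (x * x) := by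
    have hζ : ⁅x, y⁆ ∈ Zc z d := hyv ▸ hxim n hn.1
    refine (comm_of_conj ?_).symm
    have e := (comm_elem_eq (g := x) (a := y)).symm
    calc x * x * y * (x * x)⁻¹ = x * (x * y * x⁻¹) * x⁻¹ := by group
      _ = x * ⁅x, y⁆ * x⁻¹ * (x * y * x⁻¹) := by rw [e]; group
      _ = ⁅x, y⁆ * (⁅x, y⁆ * y) := by rw [conj_of_comm (T.Zc_comm hζ hxz hxd).symm, e]
      _ = y := by rw [← mul_assoc, T.Zc_sq hζ, one_mul]
  set x' := x * x * (x * x) with hx'
  have hx'z : Commute z x' := (hxz.mul_right hxz).mul_right (hxz.mul_right hxz)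
  have hx'd : Commute d x' := (hxd.mul_right hxd).mul_right (hxd.mul_right hxd)
  have hx'e : Commute x' e := by
    refine comm_of_conj ?_
    have hx2z := hxz.mul_right hxz
    have hx2d := hxd.mul_right hxd
    rw [hx', show x * x * (x * x) * e * (x * x * (x * x))⁻¹ = x * x * (x * x * e * (x * x)⁻¹) * (x * x)⁻¹ by group]
    rcases hperm _ hx2z hx2d hxy with h | h <;> rw [h]
    · exact h
    · rw [show x * x * (e * y) * (x * x)⁻¹ = x * x * e * (x * x)⁻¹ * (x * x * y * (x * x)⁻¹) by group, h,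
        conj_of_comm hxy.symm, mul_assoc, hy2, mul_one]
  -- the translation of `k` is a commutator
  set w := e * (k * e * k⁻¹) with hw
  have hwfx : w ∈ fx z d e := T.move_mem he2 hez hke
  have hwim : InIm z d e w := by
    have hx'x : x'⁻¹ * x ∈ coreAt z := by
      rw [hx', show (x * x * (x * x))⁻¹ * x = (x ^ 3)⁻¹ by group]
      exact inv_mem hx3
    -- the translation is fixed by `x` modulo commutators
    have hx'k : k⁻¹ * x' * k * x'⁻¹ ∈ coreAt z := by
      have h1 : k⁻¹ * ⁅x, k⁆ * k ∈ coreAt z := by simpa using T.conj_mem_core hkz.inv_right hxk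
      have e1 : k⁻¹ * x * k * x⁻¹ = k⁻¹ * ⁅x, k⁆ * k := by simp [commutatorElement_def, mul_assoc]
      rw [show k⁻¹ * x' * k * x'⁻¹ = (k⁻¹ * (x' * x⁻¹) * k) * (k⁻¹ * x * k * x⁻¹) * (x * x'⁻¹) by group, e1]
      have h2 : x' * x⁻¹ ∈ coreAt z := by
        rw [hx', show x * x * (x * x) * x⁻¹ = x ^ 3 by rw [pow_three']; group]; exact hx3
      refine mul_mem (mul_mem ?_ h1) ?_
      · simpa using T.conj_mem_core hkz.inv_right h2
      · rw [show x * x'⁻¹ = (x' * x⁻¹)⁻¹ by group]; exact inv_mem h2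
    set j := k⁻¹ * x' * k * x'⁻¹ with hj
    have e3 : x' * w * x'⁻¹ = w * (k * ⁅e, j⁆ * k⁻¹) := by
      have e1 : x' * k = k * (j * x') := by rw [hj]; group
      calc x' * w * x'⁻¹ = x' * e * x'⁻¹ * (x' * k * e * (x' * k)⁻¹) := by rw [hw]; group
        _ = x' * e * x'⁻¹ * (k * (j * (x' * e * x'⁻¹) * j⁻¹) * k⁻¹) := by rw [e1]; group
        _ = e * (k * (e * ⁅e, j⁆) * k⁻¹) := by rw [conj_of_comm hx'e, T.conj_of_bracket he2]
        _ = w * (k * ⁅e, j⁆ * k⁻¹) := by rw [hw]; group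
    -- im is closed
    have hmul : ∀ {a b : G}, InIm z d e a → InIm z d e b → InIm z d e (a * b) := by
      rintro a b ⟨u, hu, hua⟩ ⟨u', hu', hub⟩
      refine ⟨u * u', mul_mem hu hu', ?_⟩
      set ζa := ⁅e, u⁆⁻¹ * a with hζa
      set ζb := ⁅e, u'⁆⁻¹ * b with hζb
      have ea : a = ⁅e, u⁆ * ζa := by rw [hζa]; group
      have eb : b = ⁅e, u'⁆ * ζb := by rw [hζb]; group
      have hcent : Commute ζa ⁅e, u'⁆ := T.Zc_central hua (T.bracket_mem hez hu')
      have e4 : ⁅e, u * u'⁆ = ⁅e, u⁆ * (u * ⁅e, u'⁆ * u⁻¹) := by simp [commutatorElement_def, mul_assoc]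
      rw [ea, eb, show ⁅e, u⁆ * ζa * (⁅e, u'⁆ * ζb) = ⁅e, u⁆ * (ζa * ⁅e, u'⁆) * ζb by group, hcent.eq, e4]
      rcases T.conj_cases hu (T.bracket_mem hez hu') with h | h <;> rw [h]
      · rw [show (⁅e, u⁆ * ⁅e, u'⁆)⁻¹ * (⁅e, u⁆ * (⁅e, u'⁆ * ζa) * ζb) = ζa * ζb by group]
        exact T.Zc_mul hua hub
      · rw [show (⁅e, u⁆ * (⁅e, u'⁆ * z))⁻¹ * (⁅e, u⁆ * (⁅e, u'⁆ * ζa) * ζb) = z⁻¹ * (ζa * ζb) by group, T.z_inv]
        exact T.Zc_mul T.z_mem_Zc (T.Zc_mul hua hub)
    have hζim : ∀ {ζ : G}, ζ ∈ Zc z d → InIm z d e ζ := fun {ζ} h => ⟨1, one_mem _, by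
      rw [commutatorElement_one_right, inv_one, one_mul]; exact h⟩
    have hkim' : InIm z d e (k * ⁅e, j⁆ * k⁻¹) := by
      -- conjugation by `k` preserves commutators modulo the centre
      set u := k * j * k⁻¹ with hu
      refine ⟨u, T.conj_mem_core hkz hx'k, ?_⟩
      have e5 : k * ⁅e, j⁆ * k⁻¹ = ⁅e * w, u⁆ := by
        rw [hu, hw, ← mul_assoc, he2, one_mul]; simp [commutatorElement_def, mul_assoc]
      have hwJ : w ∈ coreAt z := hwfx.1
      have huJ : u ∈ coreAt z := T.conj_mem_core hkz hx'k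
      have e7 : ⁅e * w, u⁆ = ⁅w, u⁆ * ⁅e, u⁆ := by
        rw [show ⁅e * w, u⁆ = e * ⁅w, u⁆ * e⁻¹ * ⁅e, u⁆ by simp [commutatorElement_def, mul_assoc]]
        rcases T.comm w hwJ u huJ with h | h <;> rw [h]
        · group
        · rw [conj_of_comm hez.symm]
      rw [e5, e7]
      rcases T.comm w hwJ u huJ with h | h <;> rw [h]
      · rw [one_mul, inv_mul_cancel]; exact T.one_mem_Zc
      · rw [(T.comm_z (T.bracket_mem hez huJ)).eq, inv_mul_cancel_left]; exact T.z_mem_Zc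
    set μ := k * ⁅e, j⁆ * k⁻¹ with hμ
    have hμJ : μ ∈ coreAt z := T.conj_mem_core hkz (T.bracket_mem hez hx'k)
    have hzc : ∀ {a : G}, a ∈ coreAt z → Commute z a := fun ha => T.comm_z ha
    -- the product over the orbit
    set b := x' * w * x'⁻¹ with hb
    set c := x' * b * x'⁻¹ with hc
    have hbJ : b ∈ coreAt z := T.conj_mem_core hx'z hwfx.1
    have hcJ : c ∈ coreAt z := T.conj_mem_core hx'z hbJ
    set P := w * b * c with hP
    have hx'3 : x' ^ 3 ∈ coreAt z := by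
      rw [hx', show (x * x * (x * x)) ^ 3 = x ^ 3 * x ^ 3 * (x ^ 3 * x ^ 3) by rw [pow_three', pow_three']; group]
      exact mul_mem (mul_mem hx3 hx3) (mul_mem hx3 hx3)
    have hfxconj : ∀ {a : G}, a ∈ fx z d e → x' * a * x'⁻¹ ∈ fx z d e := fun {a} ha => by
      refine ⟨T.conj_mem_core hx'z ha.1, ?_⟩
      rw [show ⁅e, x' * a * x'⁻¹⁆ = ⁅x' * e * x'⁻¹, x' * a * x'⁻¹⁆ by rw [conj_of_comm hx'e],
        show ⁅x' * e * x'⁻¹, x' * a * x'⁻¹⁆ = x' * ⁅e, a⁆ * x'⁻¹ by simp [commutatorElement_def, mul_assoc],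
        conj_of_comm (T.Zc_comm ha.2 hx'z hx'd).symm]
      exact ha.2
    have hfxmul : ∀ {a a' : G}, a ∈ fx z d e → a' ∈ fx z d e → a * a' ∈ fx z d e := fun {a a'} ha ha' => by
      refine ⟨mul_mem ha.1 ha'.1, ?_⟩
      rw [show ⁅e, a * a'⁆ = ⁅e, a⁆ * (a * ⁅e, a'⁆ * a⁻¹) by simp [commutatorElement_def, mul_assoc],
        conj_of_comm (T.Zc_central ha'.2 ha.1).symm]
      exact T.Zc_mul ha.2 ha'.2
    have hPfx : P ∈ fx z d e := hfxmul (hfxmul hwfx (hfxconj hwfx)) (hfxconj (hfxconj hwfx))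
    have hxP' : ⁅x', P⁆ ∈ Zc z d := by
      have hxc : x' * c * x'⁻¹ = w ∨ x' * c * x'⁻¹ = w * z := by
        rw [hc, hb, show x' * (x' * (x' * w * x'⁻¹) * x'⁻¹) * x'⁻¹ = x' ^ 3 * w * (x' ^ 3)⁻¹ by rw [pow_three']; group]
        exact T.conj_cases hx'3 hwfx.1
      have e8 : x' * P * x'⁻¹ = b * c * (x' * c * x'⁻¹) := by rw [hP, hc, hb]; group
      have hcyc : b * c * w = P ∨ b * c * w = z * P := by
        rcases T.comm _ (mul_mem hbJ hcJ) _ hwfx.1 with h | h
        · left; rw [hP, mul_assoc w b c]; exact commutatorElement_eq_one_iff_commute.1 h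
        · right; rw [hP, mul_assoc w b c, ← h, commutatorElement_def]; group
      rw [commutatorElement_def, e8]
      rcases hxc with h | h <;> rw [h]
      · rcases hcyc with e' | e' <;> rw [e']
        · rw [mul_inv_cancel]; exact T.one_mem_Zc
        · rw [mul_inv_cancel_right]; exact T.z_mem_Zc
      · rw [← mul_assoc, ← (hzc (mul_mem (mul_mem hbJ hcJ) hwfx.1)).eq]
        rcases hcyc with e' | e' <;> rw [e']
        · rw [mul_inv_cancel_right]; exact T.z_mem_Zc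
        · rw [← mul_assoc, T.z2, one_mul, mul_inv_cancel]; exact T.one_mem_Zc
    have hxP : ⁅x, P⁆ ∈ Zc z d := by
      have e9 : ⁅x, P⁆ = x' * ⁅x'⁻¹ * x, P⁆ * x'⁻¹ * ⁅x', P⁆ := by simp [commutatorElement_def, mul_assoc]
      rw [e9]
      refine T.Zc_mul ?_ hxP'
      rcases T.comm _ hx'x P hPfx.1 with h | h <;> rw [h]
      · rw [mul_one, mul_inv_cancel]; exact T.one_mem_Zc
      · rw [conj_of_comm hx'z.symm]; exact T.z_mem_Zc
    have hPim := hxfix P hPfx hxP
    -- the orbit product is a translate of the cube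
    have hμ' : InIm z d e (x' * μ * x'⁻¹) := by
      obtain ⟨u, hu, hζ⟩ := hkim'
      refine ⟨x' * u * x'⁻¹, T.conj_mem_core hx'z hu, ?_⟩
      have e10 : ⁅e, x' * u * x'⁻¹⁆⁻¹ * (x' * μ * x'⁻¹) = x' * (⁅e, u⁆⁻¹ * μ) * x'⁻¹ := by
        conv_lhs => rw [← conj_of_comm hx'e]
        simp [commutatorElement_def, mul_assoc]
      rw [e10, conj_of_comm (T.Zc_comm hζ hx'z hx'd).symm]
      exact hζ
    have hb' : b = w * μ := e3
    have hc' : c = w * μ * (x' * μ * x'⁻¹) := by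
      rw [hc, hb', show x' * (w * μ) * x'⁻¹ = x' * w * x'⁻¹ * (x' * μ * x'⁻¹) by group, ← hb, hb']
    set μ' := x' * μ * x'⁻¹ with hμ'def
    have hinv : ∀ {a : G}, InIm z d e a → a ∈ coreAt z → InIm z d e a⁻¹ := fun {a} ha haJ => by
      rcases T.sq a haJ with h | h
      · rwa [inv_eq_of_mul_eq_one_right h]
      · have : a⁻¹ = a * z := inv_eq_of_mul_eq_one_right (by rw [← mul_assoc, h, T.z2])
        rw [this]; exact hmul ha (hζim T.z_mem_Zc)
    have hμ'J : μ' ∈ coreAt z := T.conj_mem_core hx'z hμJ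
    have ew : w * (w * μ) * (w * μ * μ') = P := by rw [hP, hc', hb']
    -- `w` modulo commutators
    have hwsq : w * w ∈ Zc z d := by
      rcases T.sq w hwfx.1 with h | h <;> rw [h]
      exacts [T.one_mem_Zc, T.z_mem_Zc]
    have e11 : w = μ⁻¹ * (w * w)⁻¹ * P * μ'⁻¹ * μ⁻¹ := by rw [← ew]; group
    rw [e11]
    exact hmul (hmul (hmul (hmul (hinv hkim' hμJ) (hζim (by rw [T.Zc_inv hwsq]; exact hwsq))) hPim)
      (hinv hμ' hμ'J)) (hinv hkim' hμJ)
  obtain ⟨v, hv, hc⟩ := T.lift_sq hez hed he2 hkz hkd hwim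
  set k' := v⁻¹ * k with hk'
  have hk'z : Commute z k' := (T.comm_z hv).inv_right.mul_right hkz
  have hk'd : Commute d k' := (T.d_central v hv).inv_right.mul_right hkd
  have hky := hle (k' * k') (hk'z.mul_right hk'z) (hk'd.mul_right hk'd) hc.symm
  -- `k` fixes `y` modulo the centre
  refine hyZ ?_
  have hK : ⁅k, ⁅e, n⁆⁆ ∈ Zc z d := by
    rw [hyv]
    let C : Subgroup G :=
      { carrier := {g | Commute z g ∧ Commute d g ∧ ⁅g, y⁆ ∈ Zc z d}
        one_mem' := ⟨Commute.one_right z, Commute.one_right d, by rw [commutatorElement_one_left]; exact T.one_mem_Zc⟩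
        mul_mem' := fun {g g'} hg hg' => ⟨hg.1.mul_right hg'.1, hg.2.1.mul_right hg'.2.1, by
          rw [show ⁅g * g', y⁆ = g * ⁅g', y⁆ * g⁻¹ * ⁅g, y⁆ by simp [commutatorElement_def, mul_assoc],
            conj_of_comm (T.Zc_comm hg'.2.2 hg.1 hg.2.1).symm]
          exact T.Zc_mul hg'.2.2 hg.2.2⟩
        inv_mem' := fun {g} hg => ⟨hg.1.inv_right, hg.2.1.inv_right, by
          rw [show ⁅g⁻¹, y⁆ = g⁻¹ * ⁅g, y⁆⁻¹ * g⁻¹⁻¹ by simp [commutatorElement_def, mul_assoc], T.Zc_inv hg.2.2,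
            conj_of_comm (T.Zc_comm hg.2.2 hg.1.inv_right hg.2.1.inv_right).symm]
          exact hg.2.2⟩ }
    have hJC : ∀ a ∈ coreAt z, a ∈ C := fun a ha => ⟨T.comm_z ha, T.d_central a ha, by
      rcases T.comm a ha y hyJ with h | h <;> rw [h]
      exacts [T.one_mem_Zc, T.z_mem_Zc]⟩
    have h1 : k' * k' ∈ C := ⟨hk'z.mul_right hk'z, hk'd.mul_right hk'd,
      by rw [commutatorElement_eq_one_iff_commute.2 hky.symm]; exact T.one_mem_Zc⟩
    have hkk : k * k ∈ C := by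
      rw [show k * k = v * (k' * k') * (k'⁻¹ * v * k') by rw [hk']; group]
      refine mul_mem (mul_mem (hJC v hv) h1) (hJC _ ?_)
      simpa using T.conj_mem_core hk'z.inv_right hv
    have hkC : k ∈ C := by
      rw [show k = (k * k) * (k * k) * (k ^ 3)⁻¹ by group]
      exact mul_mem (mul_mem hkk hkk) (inv_mem (hJC _ hk3))
    exact hkC.2.2
  exact hyv ▸ hkim n hn.1 hK

end Natural

end Cfsg.Agent.Fi22Two
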