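import Cfsg.Agent.Lib.Fi22Two.Defs
import Cfsg.Agent.Lib.Fi22Two.Natural

/-!
Interfaces between the group and the model: coordinates on the core modulo its centre, and the passage to
the centraliser of `d` modulo `d`.
-/

set_option autoImplicit false
set_option linter.style.haveILetI false

namespace Cfsg.Agent.Fi22Two

open LargeExtra U62Rec.Model U62Aut

universe u

variable {G : Type u} [Group G]

/-- Coordinates on the core modulo the centre. -/
structure Coord (z d : G) where
  /-- The vector of an element of the core. -/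
  nv : G → Vec
  nv_mul : ∀ a ∈ coreAt z, ∀ b ∈ coreAt z, nv (a * b) = xorV (nv a) (nv b)
  nv_surj : ∀ v, ∃ a ∈ coreAt z, nv a = v
  nv_eq : ∀ a ∈ coreAt z, ∀ b ∈ coreAt z, nv a = nv b ↔ a⁻¹ * b ∈ Zc z d
  nv_sq : ∀ a ∈ coreAt z, (a * a = 1 ↔ q0 (nv a) = 0)
  /-- The map of an element commuting with `z` and `d`. -/
  lin : G → Agrp
  lin_mul : ∀ g h : G, Commute z g → Commute d g → Commute z h → Commute d h → lin (g * h) = lin g * lin h
  lin_one : ∀ g : G, Commute z g → Commute d g → (lin g = 1 ↔ g ∈ coreAt z)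
  lin_conj : ∀ g : G, Commute z g → Commute d g → ∀ a ∈ coreAt z, nv (g * a * g⁻¹) = (lin g).1 (nv a)
  lin_surj : ∀ σ : Agrp, σ.1 ∈ Lgrp → ∃ g : G, Commute z g ∧ Commute d g ∧ lin g = σ

/-- The passage to the centraliser of `d` modulo `d`. -/
structure Down (z d : G) (X : Type u) [Group X] where
  /-- The map, a homomorphism on the centraliser of `d`. -/
  π : G → X
  π_mul : ∀ g h : G, Commute d g → Commute d h → π (g * h) = π g * π h
  π_surj : ∀ x, ∃ g : G, Commute d g ∧ π g = x
  π_eq : ∀ g h : G, Commute d g → Commute d h → (π g = π h ↔ h = g ∨ h = g * d)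
  π_comm : ∀ g : G, Commute d g → (Commute (π z) (π g) ↔ Commute z g)
  π_core : ∀ g : G, Commute d g → (π g ∈ coreAt (π z) ↔ g ∈ coreAt z)

end Cfsg.Agent.Fi22Two
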