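import Cfsg.Agent.Lib.Fi22Two.Natural
import Mathlib.GroupTheory.Perm.Cycle.Type

/-!
The conjugates of `z` over a transvection under the centraliser of `d` and under that of `d * z`: multiplication
by `z` exchanges them.
-/

set_option autoImplicit false
set_option linter.style.haveILetI false
set_option linter.unusedSectionVars false

namespace Cfsg.Agent.Fi22Two

open Subgroup LargeExtra
open scoped commutatorElement

variable {G : Type*} [Group G] [Finite G]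

/-- The conjugates of `z` under the centraliser of `D` commuting with `z` in the coset of `g`. -/
def Side (z D g : G) : Set G :=
  {y | ∃ h, Commute D h ∧ h * z * h⁻¹ = y ∧ Commute z y ∧ g⁻¹ * y ∈ coreAt z}

namespace Two

variable {z d : G} (T : Two z d)

include T

/-- Congruent elements move an element of the core alike modulo the centre. -/
theorem bracket_congr {g τ a : G} (hgz : Commute z g) (hj : g⁻¹ * τ ∈ coreAt z) (ha : a ∈ coreAt z) :
    ∃ η, (η = 1 ∨ η = z) ∧ ⁅τ, a⁆ = η * ⁅g, a⁆ := by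
  refine ⟨⁅g⁻¹ * τ, a⁆, T.comm _ hj a ha, ?_⟩
  set i := g⁻¹ * τ with hi
  rw [show τ = g * i by rw [hi, mul_inv_cancel_left],
    show ⁅g * i, a⁆ = g * ⁅i, a⁆ * g⁻¹ * ⁅g, a⁆ by simp [commutatorElement_def, mul_assoc]]
  congr 1
  rcases T.comm i hj a ha with h | h <;> rw [h]
  · group
  · exact conj_of_comm hgz.symm

/-- Congruent elements centralise the same elements modulo the centre. -/
theorem fx_congr {g τ : G} (hgz : Commute z g) (hj : g⁻¹ * τ ∈ coreAt z) : fx z d τ = fx z d g := by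
  have key : ∀ {a η : G}, (η = 1 ∨ η = z) → (η * a ∈ Zc z d ↔ a ∈ Zc z d) := fun {a η} h => by
    have hη : η ∈ Zc z d := by rcases h with rfl | rfl; exacts [T.one_mem_Zc, T.z_mem_Zc]
    refine ⟨fun h' => ?_, fun h' => T.Zc_mul hη h'⟩
    have := T.Zc_mul hη h'
    rwa [← mul_assoc, T.Zc_sq hη, one_mul] at this
  ext a
  refine and_congr_right fun ha => ?_
  obtain ⟨η, hη, e⟩ := T.bracket_congr hgz hj ha
  rw [e]
  exact key hη

/-- Conjugation by the core keeps the sets. -/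
theorem side_conj {D g v y : G} (hD : Commute D v) (hgz : Commute z g) (hv : v ∈ coreAt z) (hy : y ∈ Side z D g) :
    v * y * v⁻¹ ∈ Side z D g := by
  obtain ⟨h, hh, e, hzy, hj⟩ := hy
  have hzv := T.comm_z hv
  refine ⟨v * h, hD.mul_right hh, by rw [← e]; group, (hzv.mul_right hzy).mul_right hzv.inv_right, ?_⟩
  rw [show g⁻¹ * (v * y * v⁻¹) = g⁻¹ * v * g * (g⁻¹ * y) * v⁻¹ by group]
  exact mul_mem (mul_mem (by simpa using T.conj_mem_core hgz.inv_right hv) hj) (inv_mem hv)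

/-- The sets are single orbits of the core. -/
theorem side_orbit {D g τ σ : G} (hD : ∀ v ∈ coreAt z, Commute D v) (hgz : Commute z g)
    (h256 : (fx z d g).ncard = 256) (h4 : (Side z D g).ncard = 4) (hτ : τ ∈ Side z D g) (hσ : σ ∈ Side z D g) :
    ∃ v ∈ coreAt z, σ = v * τ * v⁻¹ := by
  classical
  by_contra hcon
  push Not at hcon
  set O : Finset G := ((Set.toFinite (Side z D g)).toFinset.erase σ) with hO
  have hOc : O.card ≤ 3 := by
    rw [hO, Finset.card_erase_of_mem ((Set.toFinite _).mem_toFinset.2 hσ), ← Set.ncard_eq_toFinset_card, h4]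
  have hcov : (coreAt z : Set G) ⊆ ⋃ o ∈ O, {v | v ∈ coreAt z ∧ v * τ * v⁻¹ = o} := by
    intro v hv
    simp only [Set.mem_iUnion]
    exact ⟨_, Finset.mem_erase.2 ⟨fun h => hcon v hv h.symm,
      (Set.toFinite _).mem_toFinset.2 (T.side_conj (hD v hv) hgz hv hτ)⟩, hv, rfl⟩
  have hsmall : ∀ o ∈ O, {v | v ∈ coreAt z ∧ v * τ * v⁻¹ = o}.ncard ≤ 256 := by
    intro o _
    rcases Set.eq_empty_or_nonempty {v | v ∈ coreAt z ∧ v * τ * v⁻¹ = o} with h | ⟨w, hw, hwo⟩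
    · rw [h, Set.ncard_empty]; norm_num
    refine le_trans (Set.ncard_le_ncard_of_injOn (fun v => w⁻¹ * v) (fun v hv => ?_)
      (mul_right_injective w⁻¹).injOn (Set.toFinite _)) h256.le
    rw [← T.fx_congr hgz hτ.choose_spec.2.2.2]
    refine ⟨mul_mem (inv_mem hw) hv.1, ?_⟩
    have hc : Commute τ (w⁻¹ * v) := by
      refine (comm_of_conj ?_).symm
      rw [show w⁻¹ * v * τ * (w⁻¹ * v)⁻¹ = w⁻¹ * (v * τ * v⁻¹) * w by group, hv.2, ← hwo]; group
    rw [commutatorElement_eq_one_iff_commute.2 hc]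
    exact T.one_mem_Zc
  have h1 := Set.ncard_le_ncard hcov (Set.toFinite _)
  have h2 := (Finset.set_ncard_biUnion_le O fun o => {v | v ∈ coreAt z ∧ v * τ * v⁻¹ = o}).trans
    (Finset.sum_le_card_nsmul O _ 256 hsmall)
  have hc : (coreAt z : Set G).ncard = 1024 := by rw [← Nat.card_coe_set_eq]; exact T.card
  rw [hc] at h1
  rw [smul_eq_mul] at h2
  omega

/-- A member of one set times an element of the centre in the other: the element is `z`. -/
theorem cross_eq {g y ζ : G} (hgz : Commute z g) (hgJ : g ∉ coreAt z) (hy : y ∈ Side z d g)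
    (hζ : ζ ∈ Zc z d) (hσ : y * ζ ∈ Side z (d * z) g) : ζ = z := by
  obtain ⟨h, hh, rfl, hzy, hj⟩ := hy
  obtain ⟨k, hk, e, -, -⟩ := hσ
  have hkd : k * d * k⁻¹ = d * z * (k * z * k⁻¹) := by
    calc k * d * k⁻¹ = k * (d * z * z) * k⁻¹ := by rw [mul_assoc d z z, T.z2, mul_one]
      _ = k * (d * z) * k⁻¹ * (k * z * k⁻¹) := by group
      _ = _ := by rw [conj_of_comm hk.symm]
  have hhd : h * (d * z) * h⁻¹ = d * (h * z * h⁻¹) := by
    rw [show h * (d * z) * h⁻¹ = h * d * h⁻¹ * (h * z * h⁻¹) by group, conj_of_comm hh.symm]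
  have hdy : Commute d (h * z * h⁻¹) := (hh.mul_right T.zd.symm).mul_right hh.inv_right
  set y := h * z * h⁻¹ with hydef
  have hy2 : y * y = 1 := by rw [hydef, show h * z * h⁻¹ * (h * z * h⁻¹) = h * (z * z) * h⁻¹ by group, T.z2]; group
  rcases mem_Zc.1 hζ with rfl | rfl | rfl | rfl
  · exfalso
    rw [mul_one] at e
    have hz : Commute z (h⁻¹ * k) := by
      refine (comm_of_conj ?_).symm
      rw [show h⁻¹ * k * z * (h⁻¹ * k)⁻¹ = h⁻¹ * (k * z * k⁻¹) * h by group, e, hydef]; group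
    have e' : h⁻¹ * k * d * (h⁻¹ * k)⁻¹ = h⁻¹ * (d * z * y) * h := by
      rw [show h⁻¹ * k * d * (h⁻¹ * k)⁻¹ = h⁻¹ * (k * d * k⁻¹) * h by group, hkd, e]
    rcases T.swap _ hz with h' | h' <;> rw [e'] at h'
    · have h3 : d * z * y = d := by
        calc d * z * y = h * (h⁻¹ * (d * z * y) * h) * h⁻¹ := by group
          _ = d := by rw [h', conj_of_comm hh.symm]
      rw [mul_assoc, mul_eq_left, mul_eq_one_iff_eq_inv, inv_eq_of_mul_eq_one_right hy2] at h3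
      exact hgJ (inv_mem_iff.1 ((coreAt z).mul_mem_cancel_right T.z_mem |>.1 (h3 ▸ hj)))
    · have h3 : d * z * y = d * y := by
        calc d * z * y = h * (h⁻¹ * (d * z * y) * h) * h⁻¹ := by group
          _ = d * y := by rw [h', hhd]
      exact T.z_ne (mul_eq_left.1 (mul_right_cancel h3))
  · rfl
  · exfalso
    refine (T.class_ne (h⁻¹ * k)).2 ?_
    rw [show h⁻¹ * k * z * (h⁻¹ * k)⁻¹ = h⁻¹ * (k * z * k⁻¹) * h by group, e, ← hdy.eq, ← hhd]; group
  · exfalso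
    refine (T.class_ne (k⁻¹ * h)).1 ?_
    have h4 : k * d * k⁻¹ = y := by
      have hc : Commute (d * z) y := hdy.mul_left hzy
      rw [hkd, e, ← mul_assoc, hc.eq, mul_assoc, T.dz2, mul_one]
    rw [show k⁻¹ * h * z * (k⁻¹ * h)⁻¹ = k⁻¹ * (h * z * h⁻¹) * k by group, ← hydef, ← h4]; group

end Two

/-- Conjugation of order three on four elements fixes one of them. -/
theorem exists_fixed_three {x : G} (h3 : x ^ 3 = 1) {S : Set G} (h4 : S.ncard = 4)
    (hS : ∀ y ∈ S, x * y * x⁻¹ ∈ S) : ∃ y ∈ S, Commute x y := by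
  classical
  have hx2 : ∀ {y : G}, y ∈ S → x⁻¹ * y * x ∈ S := fun {y} hy => by
    have := hS _ (hS y hy)
    have e : x⁻¹ = x * x := inv_eq_of_mul_eq_one_right (by rw [← h3, pow_three', mul_assoc])
    rw [show x * (x * y * x⁻¹) * x⁻¹ = x * x * y * (x * x)⁻¹ by group, ← e, inv_inv] at this
    exact this
  haveI := Fintype.ofFinite G
  let σ : Equiv.Perm S :=
    { toFun := fun a => ⟨x * a * x⁻¹, hS a a.2⟩
      invFun := fun a => ⟨x⁻¹ * a * x, hx2 a.2⟩
      left_inv := fun a => Subtype.ext (show x⁻¹ * (x * a * x⁻¹) * x = a by group)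
      right_inv := fun a => Subtype.ext (show x * (x⁻¹ * a * x) * x⁻¹ = a by group) }
  haveI : Fact (Nat.Prime 3) := ⟨Nat.prime_three⟩
  obtain ⟨a, ha⟩ := Equiv.Perm.exists_fixed_point_of_prime (p := 3) (n := 1) (σ := σ)
    (by rw [← Nat.card_eq_fintype_card, Nat.card_coe_set_eq, h4]; norm_num)
    (by
      rw [pow_one, pow_three']
      refine Equiv.ext fun a => Subtype.ext ?_
      show x * (x * (x * a * x⁻¹) * x⁻¹) * x⁻¹ = a
      rw [show x * (x * (x * a * x⁻¹) * x⁻¹) * x⁻¹ = x * x * x * a * (x * x * x)⁻¹ by group, ← pow_three', h3]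
      group)
  exact ⟨a, a.2, comm_of_conj (congrArg Subtype.val ha)⟩

namespace Natural

variable {z d : G} (N : Natural z d) (T : Two z d)

include N T

/-- Multiplication by `z` carries the set of `d * z` to that of `d`. -/
theorem cross {g : G} (hgz : Commute z g) (hgd : Commute d g) (hg2 : g * g ∈ coreAt z) (hgJ : g ∉ coreAt z)
    (h256 : (fx z d g).ncard = 256) (h1 : (Side z d g).ncard = 4) (h2 : (Side z (d * z) g).ncard = 4) :
    ∀ σ ∈ Side z (d * z) g, σ * z ∈ Side z d g := by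
  obtain ⟨x, hx, k, -, hx3, -, hxg, -, -, -, hxfix, -⟩ := N.tv_odd g hgz hgd hg2 h256
  have hxz := N.inn_z x hx
  have hxd := N.inn_d x hx
  set x' := x * x ^ 3 with hx'
  have hx'3 : x' ^ 3 = 1 := by
    have e4 : x ^ 3 * x ^ 3 * (x ^ 3 * x ^ 3) = 1 := by
      rcases T.sq _ hx3 with h | h <;> rw [h]
      exacts [one_mul 1, T.z2]
    rw [hx', ← e4, pow_three', pow_three']; group
  have hx'z : Commute z x' := hxz.mul_right (hxz.pow_right 3)
  have hx'd : Commute d x' := hxd.mul_right (hxd.pow_right 3)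
  have hx'g : g⁻¹ * (x' * g * x'⁻¹) ∈ coreAt z := by
    have h1 : g⁻¹ * (x * g * x⁻¹) ∈ coreAt z := by
      rw [show g⁻¹ * (x * g * x⁻¹) = g⁻¹ * ⁅x, g⁆ * g by rw [commutatorElement_def]; group]
      simpa using T.conj_mem_core hgz.inv_right hxg
    rw [hx', show g⁻¹ * (x * x ^ 3 * g * (x * x ^ 3)⁻¹) =
      g⁻¹ * (x * g * x⁻¹) * (x * (g⁻¹ * x ^ 3 * g * (x ^ 3)⁻¹) * x⁻¹) by group]
    exact mul_mem h1 (T.conj_mem_core hxz
      (mul_mem (by simpa using T.conj_mem_core hgz.inv_right hx3) (inv_mem hx3)))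
  have hperm : ∀ D, Commute D x' → ∀ y ∈ Side z D g, x' * y * x'⁻¹ ∈ Side z D g := by
    rintro D hD y ⟨h, hh, e, hzy, hj⟩
    refine ⟨x' * h, hD.mul_right hh, by rw [← e]; group, (hx'z.mul_right hzy).mul_right hx'z.inv_right, ?_⟩
    rw [show g⁻¹ * (x' * y * x'⁻¹) = g⁻¹ * (x' * g * x'⁻¹) * (x' * (g⁻¹ * y) * x'⁻¹) by group]
    exact mul_mem hx'g (T.conj_mem_core hx'z hj)
  obtain ⟨τ, hτ, hxτ⟩ := exists_fixed_three hx'3 h1 (hperm d hx'd)
  obtain ⟨σ₀, hσ₀, hxσ⟩ := exists_fixed_three hx'3 h2 (hperm _ (hx'd.mul_left hx'z))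
  obtain ⟨h, hh, hτe, hzτ, hjτ⟩ := id hτ
  obtain ⟨h', -, hσe, -, hjσ⟩ := id hσ₀
  have hsq : ∀ {u : G}, u * z * u⁻¹ * (u * z * u⁻¹) = 1 := fun {u} => by
    rw [show u * z * u⁻¹ * (u * z * u⁻¹) = u * (z * z) * u⁻¹ by group, T.z2]; group
  have hτ2 : τ * τ = 1 := hτe ▸ hsq
  have hσ2 : σ₀ * σ₀ = 1 := hσe ▸ hsq
  set j := τ⁻¹ * σ₀ with hj
  have hjJ : j ∈ coreAt z := by
    rw [hj, show τ⁻¹ * σ₀ = (g⁻¹ * τ)⁻¹ * (g⁻¹ * σ₀) by group]
    exact mul_mem (inv_mem hjτ) hjσ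
  have hτj : ⁅τ, j⁆ = (j * j)⁻¹ := by
    have hi := inv_eq_of_mul_eq_one_right hτ2
    have e : τ * j * τ⁻¹ = j⁻¹ := by
      rw [hj, hi, ← mul_assoc, hτ2, one_mul, mul_inv_rev, inv_eq_of_mul_eq_one_right hσ2, hi]
    rw [commutatorElement_def, e]
    exact (mul_inv_rev j j).symm
  have hjfx : j ∈ fx z d g := by
    rw [← T.fx_congr hgz hjτ]
    refine ⟨hjJ, ?_⟩
    rw [hτj]
    rcases T.sq j hjJ with e | e <;> rw [e]
    · rw [inv_one]; exact T.one_mem_Zc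
    · rw [T.z_inv]; exact T.z_mem_Zc
  have hxj : ⁅x, j⁆ ∈ Zc z d := by
    have hc : ⁅x', j⁆ = 1 := commutatorElement_eq_one_iff_commute.2 (hxτ.inv_right.mul_right hxσ)
    rw [show x = x' * (x ^ 3)⁻¹ by rw [hx']; group,
      show ⁅x' * (x ^ 3)⁻¹, j⁆ = x' * ⁅(x ^ 3)⁻¹, j⁆ * x'⁻¹ * ⁅x', j⁆ by simp [commutatorElement_def, mul_assoc],
      hc, mul_one]
    rcases T.comm _ (inv_mem hx3) j hjJ with e | e <;> rw [e]
    · rw [mul_one, mul_inv_cancel]; exact T.one_mem_Zc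
    · rw [conj_of_comm hx'z.symm]; exact T.z_mem_Zc
  obtain ⟨v, hv, hv'⟩ := hxfix j hjfx hxj
  obtain ⟨η, hη, eη⟩ := T.bracket_congr hgz hjτ hv
  have hηZ : η ∈ Zc z d := by rcases hη with rfl | rfl; exacts [T.one_mem_Zc, T.z_mem_Zc]
  have hvJ := T.bracket_mem hgz hv
  set ζ := η * (⁅g, v⁆⁻¹ * j) with hζ
  have hζZ : ζ ∈ Zc z d := T.Zc_mul hηZ hv'
  have hσvτ : σ₀ = v * τ * v⁻¹ * ζ := by
    rw [T.conj_of_bracket (v := v) hτ2, eη, hζ]
    calc σ₀ = τ * j := by rw [hj]; group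
      _ = τ * (η * η * (⁅g, v⁆ * (⁅g, v⁆⁻¹ * j))) := by rw [T.Zc_sq hηZ]; group
      _ = τ * (η * (η * ⁅g, v⁆) * (⁅g, v⁆⁻¹ * j)) := by group
      _ = τ * (η * (⁅g, v⁆ * η) * (⁅g, v⁆⁻¹ * j)) := by rw [(T.Zc_central hηZ hvJ).eq]
      _ = _ := by group
  have hvτ : v * τ * v⁻¹ ∈ Side z d g := T.side_conj (T.d_central v hv) hgz hv hτ
  have hζz : ζ = z := T.cross_eq hgz hgJ hvτ hζZ (hσvτ ▸ hσ₀)
  intro σ hσ
  have hdz : ∀ a ∈ coreAt z, Commute (d * z) a := fun a ha => (T.d_central a ha).mul_left (T.comm_z ha)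
  obtain ⟨w, hw, rfl⟩ := T.side_orbit hdz hgz h256 h2 hσ₀ hσ
  rw [hσvτ, hζz, show w * (v * τ * v⁻¹ * z) * w⁻¹ * z = w * v * τ * (w * v)⁻¹ * (w * z * w⁻¹ * z) by group,
    conj_of_comm (T.comm_z hw).symm, T.z2, mul_one]
  exact T.side_conj (T.d_central _ (mul_mem hw hv)) hgz (mul_mem hw hv) hτ

/-- When `d` and `d * z` are not conjugate, one of the sets has not four elements. -/
theorem cross_absurd (hne : ∀ u, u * (d * z) * u⁻¹ ≠ d) {g : G} (hgz : Commute z g) (hgd : Commute d g)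
    (hg2 : g * g ∈ coreAt z) (hgJ : g ∉ coreAt z) (h256 : (fx z d g).ncard = 256)
    (h1 : (Side z d g).ncard = 4) (h2 : (Side z (d * z) g).ncard = 4) : False := by
  obtain ⟨σ, hσ⟩ := Set.nonempty_of_ncard_ne_zero (s := Side z (d * z) g) (by omega)
  obtain ⟨h, hh, e, -, -⟩ := N.cross T hgz hgd hg2 hgJ h256 h1 h2 σ hσ
  obtain ⟨k, hk, e', hzσ, -⟩ := hσ
  refine hne (k⁻¹ * h) ?_
  have hkd : k * d * k⁻¹ = d * z * σ := by
    calc k * d * k⁻¹ = k * (d * z * z) * k⁻¹ := by rw [mul_assoc d z z, T.z2, mul_one]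
      _ = k * (d * z) * k⁻¹ * (k * z * k⁻¹) := by group
      _ = _ := by rw [conj_of_comm hk.symm, e']
  have hhd : h * (d * z) * h⁻¹ = d * z * σ := by
    rw [show h * (d * z) * h⁻¹ = h * d * h⁻¹ * (h * z * h⁻¹) by group, conj_of_comm hh.symm, e, ← hzσ.eq, mul_assoc]
  rw [show k⁻¹ * h * (d * z) * (k⁻¹ * h)⁻¹ = k⁻¹ * (h * (d * z) * h⁻¹) * k by group, hhd, ← hkd]
  group

end Natural

end Cfsg.Agent.Fi22Two
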