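import Cfsg.Agent.Lib.U62Aut.Model.Grp

/-!
Words for the finite facts on the semilinear unitary group acting on 256 vectors: the fixed vectors, the
commutator vectors and the transvections as members of the group.
-/

set_option autoImplicit false

namespace Cfsg.Agent.Fi22Two

open U62Rec.Model U62Aut

/-- The fixed vectors. -/
def fixV (σ : Agrp) : Set Vec := {v | σ.1 v = v}

/-- The commutator vectors. -/
def imV (σ : Agrp) : Set Vec := Set.range fun v : Vec => xorV v (σ.1 v)

/-- A transvection as a member of the semilinear group. -/
def tvA (p : Pt) : Agrp := ⟨tvV p, lin_le (tvV_mem p)⟩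

end Cfsg.Agent.Fi22Two
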