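import Cfsg.Agent.Lib.Fi22Two.Small2
import Cfsg.Agent.Lib.FischerUnique.Presented
import Cfsg.Agent.S1713

/-!
The two large cases: an isolated involution of the centre is normal in the whole group; an involution of the
centre moved in the centraliser of `z` either has a complement in its centraliser or gives the Fischer group.
-/

set_option autoImplicit false
set_option linter.style.haveILetI false
set_option linter.unusedSectionVars false

namespace Cfsg.Agent.Fi22Two

open Subgroup LargeExtra
open scoped commutatorElement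

universe u v

variable {G : Type u} [Group G] [Finite G] {z a : G}

namespace Core

theorem order_z (K : Core z a) : orderOf z = 2 := orderOf_eq_prime (by rw [pow_two, K.z2]) K.z_ne

theorem order_a (K : Core z a) : orderOf a = 2 := orderOf_eq_prime (by rw [pow_two, K.a2]) K.a_ne

theorem a_notMem_zpowers (K : Core z a) : a ∉ zpowers z := fun h =>
  (zpowers_cases K.z2 h).elim K.a_ne K.a_ne_z

/-- Two elements of the core which do not commute. -/
theorem exists_not_comm (K : Core z a) : ∃ b ∈ coreAt z, ∃ c ∈ coreAt z, ¬ Commute b c := by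
  by_contra h
  push Not at h
  have h1 := Set.ncard_le_ncard (s := (coreAt z : Set G)) (t := Zc z a) (fun b hb => K.center b hb (h b hb))
    (Set.toFinite _)
  have h2 : (Zc z a).ncard ≤ 4 := by
    refine (Set.ncard_insert_le _ _).trans (Nat.succ_le_succ ?_)
    refine (Set.ncard_insert_le _ _).trans (Nat.succ_le_succ ?_)
    refine (Set.ncard_insert_le _ _).trans ?_
    rw [Set.ncard_singleton]
  have h3 : (coreAt z : Set G).ncard = 1024 := by rw [← Nat.card_coe_set_eq]; exact K.card
  omega

/-- `z` is a commutator in the centraliser of `a`. -/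
theorem z_mem_commutator (K : Core z a) :
    z ∈ ⁅centralizer ({a} : Set G), centralizer ({a} : Set G)⁆ := by
  obtain ⟨b, hb, c, hc, hbc⟩ := K.exists_not_comm
  rw [← (K.comm b hb c hc).resolve_left fun e => hbc (commutatorElement_eq_one_iff_commute.1 e)]
  exact commutator_mem_commutator (mem_centralizer_one.2 (K.a_central b hb).eq.symm)
    (mem_centralizer_one.2 (K.a_central c hc).eq.symm)

/-- An isolated involution of the centre is normal, with a subgroup of index two. -/
theorem normal_end (K : Core z a) [((zpowers a).subgroupOf (centralizer ({a} : Set G))).Normal]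
    (hiso : Cfsg.IsIsolated a) (hnz : ¬ Cfsg.IsIsolated z) {M : Type v} [Group M]
    (h : ∃ G₀ : Subgroup (Quo a), G₀.index = 2 ∧ Nonempty (↥G₀ ≃* M)) :
    (zpowers a).Normal ∧ ∃ (G₀ : Subgroup G) (_ : a ∈ G₀), G₀.index = 2 ∧
      ∃ _ : ((zpowers a).subgroupOf G₀).Normal, Nonempty ((↥G₀ ⧸ (zpowers a).subgroupOf G₀) ≃* M) := by
  classical
  obtain ⟨G₀, hidx, ⟨e⟩⟩ := h
  have hO : Cfsg.oddCore G = ⊥ := by
    haveI : (Cfsg.oddCore G).Normal := Cfsg.Agent.FittingCores.pPrimeCore_normal 2
    exact K.two.odd_normal_bot hnz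
      (Nat.coprime_two_right.1 (Cfsg.Agent.FittingCores.pPrimeCore_coprime (G := G) 2))
  have htop := McLTwoA8.sup_oddCore_of_isolated a K.order_a hiso
  rw [hO, sup_bot_eq] at htop
  have hall : ∀ g, Commute a g := fun g => (mem_centralizer_one.1 (htop ▸ mem_top g)).symm
  haveI hn : (zpowers a).Normal := ⟨fun b hb g => by
    obtain ⟨k, rfl⟩ := mem_zpowers_iff.1 hb
    rw [((hall g).symm.zpow_right k).eq, mul_inv_cancel_right]
    exact zpow_mem (mem_zpowers a) k⟩
  let f : G →* Quo a := MonoidHom.mk' K.proj fun g h => K.proj_mul (hall g) (hall h)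
  have hfs : Function.Surjective f := fun x => by
    obtain ⟨g, -, hg⟩ := K.proj_surj x
    exact ⟨g, hg⟩
  have hfa : f a = 1 := by
    show K.proj a = 1
    rw [← K.proj_one, K.proj_iff (Commute.refl a) (Commute.one_right a)]
    exact Or.inr K.a2.symm
  set N : Subgroup G := G₀.comap f with hN
  haveI hnN : ((zpowers a).subgroupOf N).Normal := hn.subgroupOf _
  let ψ : ↥N →* ↥G₀ := MonoidHom.mk' (fun g => ⟨f g, g.2⟩) fun g h => Subtype.ext (map_mul f _ _)
  have hψs : Function.Surjective ψ := fun x => by
    obtain ⟨g, hg⟩ := hfs x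
    exact ⟨⟨g, mem_comap.2 (hg ▸ x.2)⟩, Subtype.ext hg⟩
  have hker : (zpowers a).subgroupOf N = ψ.ker := by
    ext g
    rw [MonoidHom.mem_ker, Subtype.ext_iff, mem_subgroupOf]
    show (g : G) ∈ zpowers a ↔ K.proj g = ((1 : ↥G₀) : Quo a)
    rw [OneMemClass.coe_one, ← K.proj_one, eq_comm (a := K.proj g), K.proj_iff (Commute.one_right a) (hall g),
      one_mul]
    refine ⟨fun h => zpowers_cases K.a2 h, ?_⟩
    rintro (h | h) <;> rw [h]
    exacts [one_mem _, mem_zpowers a]
  exact ⟨hn, N, mem_comap.2 (hfa ▸ one_mem G₀), by rw [hN, index_comap_of_surjective _ hfs, hidx], hnN,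
    ⟨((QuotientGroup.quotientMulEquivOfEq hker).trans
      (QuotientGroup.quotientKerEquivOfSurjective ψ hψs)).trans e⟩⟩

/-- A complement in the centraliser, or the Fischer group. -/
theorem fi22_or_complement (K : Core z a) [((zpowers a).subgroupOf (centralizer ({a} : Set G))).Normal]
    (hsw : ∃ t, Commute z t ∧ t * a * t⁻¹ = a * z)
    (e : Quo a ≃* Cfsg.PSU 6 RigidGraph.He.K4 2) :
    Cfsg.Spor.IsoFi22 G ∨ ∃ U : Subgroup G, a ∉ U ∧ (∀ u ∈ U, Commute a u) ∧
      (∀ c, Commute a c → c ∈ U ∨ a * c ∈ U) ∧ (∀ c, Commute a c → ∀ u ∈ U, c * u * c⁻¹ ∈ U) ∧ z ∈ U := by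
  classical
  set C := centralizer ({a} : Set G) with hC
  set D : Subgroup G := ⁅C, C⁆ with hD
  haveI : IsSimpleGroup (Quo a) :=
    haveI := FischerUnique.isSimple_psu
    e.isSimpleGroup
  have hnab : ¬ ∀ x y : Quo a, Commute x y := by
    intro h
    obtain ⟨b, hb, c, hc, hbc⟩ := K.exists_not_comm
    have hb' := K.a_central b hb
    have hc' := K.a_central c hc
    rcases (K.proj_iff (hb'.mul_right hc') (hc'.mul_right hb')).1
      (by rw [K.proj_mul hb' hc', K.proj_mul hc' hb']; exact h _ _) with e' | e'
    · exact hbc e'.symm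
    · have hz : ⁅b, c⁆ = z := (K.comm b hb c hc).resolve_left fun h =>
        hbc (commutatorElement_eq_one_iff_commute.1 h)
      rw [commutatorElement_def] at hz
      refine K.a_ne_z ?_
      rw [← hz]
      calc a = a * (b * c * (b * c)⁻¹) := by group
        _ = b * c * a * (b * c)⁻¹ * a * a := by
          rw [mul_inv_cancel, mul_one, mul_assoc _ a a, K.a2, mul_one, ← (hb'.mul_right hc').eq]; group
        _ = _ := by
          rw [← e', mul_assoc _ a a, K.a2, mul_one,
            show c * b * (b * c)⁻¹ = (b * c * b⁻¹ * c⁻¹)⁻¹ by group, hz, inv_eq_of_mul_eq_one_right K.z2]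
  have hDC : D ≤ C := by
    rw [hD, commutator_le]
    intro x hx y hy
    rw [commutatorElement_def]
    exact mul_mem (mul_mem (mul_mem hx hy) (inv_mem hx)) (inv_mem hy)
  have hconj : ∀ c, Commute a c → ∀ u ∈ D, c * u * c⁻¹ ∈ D := by
    intro c hc u hu
    have hmap : C.map (MulAut.conj c).toMonoidHom ≤ C := by
      rintro _ ⟨x, hx, rfl⟩
      have hcC : c ∈ C := mem_centralizer_one.2 hc.eq.symm
      exact mul_mem (mul_mem hcC hx) (inv_mem hcC)
    have := commutator_mono hmap hmap
    rw [← map_commutator] at this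
    exact this ⟨u, hu, rfl⟩
  have hcover : ∀ c, Commute a c → c ∈ D ∨ a * c ∈ D := by
    intro c hc
    have himg : ∀ x : Quo a, x ∈ K.img D fun g hg => (mem_centralizer_one.1 (hDC hg)).symm := by
      intro x
      have htop : commutator (Quo a) = ⊤ := by
        refine ((commutator (Quo a)).normal_of_characteristic.eq_bot_or_eq_top).resolve_left fun hb => hnab ?_
        intro x y
        refine commutatorElement_eq_one_iff_commute.1 (mem_bot.1 (hb ▸ ?_))
        exact commutator_mem_commutator (mem_top x) (mem_top y)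
      have hle : commutator (Quo a) ≤ K.img D fun g hg => (mem_centralizer_one.1 (hDC hg)).symm := by
        rw [commutator_def, commutator_le]
        intro x _ y _
        obtain ⟨g, hg, rfl⟩ := K.proj_surj x
        obtain ⟨h, hh, rfl⟩ := K.proj_surj y
        refine ⟨⁅g, h⁆, commutator_mem_commutator (mem_centralizer_one.2 hg.eq.symm)
          (mem_centralizer_one.2 hh.eq.symm), ?_⟩
        rw [commutatorElement_def, commutatorElement_def, K.proj_mul ((hg.mul_right hh).mul_right hg.inv_right) hh.inv_right,
          K.proj_mul (hg.mul_right hh) hg.inv_right, K.proj_mul hg hh, K.proj_inv hg, K.proj_inv hh]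
      exact hle (htop ▸ mem_top x)
    obtain ⟨g, hg, eg⟩ := himg (K.proj c)
    have hga : Commute a g := (mem_centralizer_one.1 (hDC hg)).symm
    rcases (K.proj_iff hga hc).1 eg with rfl | rfl
    · exact Or.inl hg
    · right
      rw [← mul_assoc, hga.eq, mul_assoc, K.a2, mul_one]
      exact hg
  by_cases haD : a ∈ D
  swap
  · exact Or.inr ⟨D, haD, fun u hu => (mem_centralizer_one.1 (hDC hu)).symm, hcover, hconj, K.z_mem_commutator⟩
  left
  have hCD : C ≤ D := fun c hc => by
    rcases hcover c (mem_centralizer_one.1 hc).symm with h | h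
    · exact h
    · have := mul_mem (inv_mem haD) h
      rwa [inv_mul_cancel_left] at this
  have hperf : Group.IsPerfect ↥C := Subgroup.isPerfect_iff.2 (le_antisymm hDC hCD)
  have hcen : Subgroup.center ↥C = (zpowers a).subgroupOf C := by
    refine le_antisymm (fun g hg => ?_) fun g hg => ?_
    · have hga : Commute a (g : G) := (mem_centralizer_one.1 g.2).symm
      have hc : K.proj (g : G) ∈ Subgroup.center (Quo a) := Subgroup.mem_center_iff.2 fun x => by
        obtain ⟨h, hh, rfl⟩ := K.proj_surj x
        rw [← K.proj_mul hh hga, ← K.proj_mul hga hh]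
        exact congrArg K.proj (congrArg Subtype.val
          (Subgroup.mem_center_iff.1 hg ⟨h, mem_centralizer_one.2 hh.eq.symm⟩))
      have hb : Subgroup.center (Quo a) = ⊥ :=
        ((Subgroup.center (Quo a)).normal_of_characteristic.eq_bot_or_eq_top).resolve_right fun ht => hnab
          fun x y => (Subgroup.mem_center_iff.1 (ht ▸ mem_top y) x)
      rw [hb, mem_bot, ← K.proj_one, eq_comm, K.proj_iff (Commute.one_right a) hga, one_mul] at hc
      rw [mem_subgroupOf]
      rcases hc with h | h <;> rw [h]
      exacts [one_mem _, mem_zpowers a]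
    · refine Subgroup.mem_center_iff.2 fun h => Subtype.ext ?_
      obtain ⟨k, hk⟩ := mem_zpowers_iff.1 (mem_subgroupOf.1 hg)
      show (h : G) * g = g * h
      rw [← hk]
      exact Commute.zpow_right (mem_centralizer_one.1 h.2 : Commute (h : G) a) k
  have hq : Cfsg.IsQuasisimple ↥C := ⟨hperf, by
    haveI := FischerUnique.isSimple_psu
    exact ((QuotientGroup.quotientMulEquivOfEq hcen).trans e).isSimpleGroup⟩
  obtain ⟨t, -, ht⟩ := hsw
  refine S1713.result a K.order_a hq RigidGraph.He.K4 RigidGraph.He.K4.card_K4 e ⟨t, ?_, ?_⟩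
  · rw [ht]
    exact mem_centralizer_one.2 ((Commute.refl a).mul_right K.za.symm).eq.symm
  · rw [ht]
    exact fun h => K.z_ne (mul_eq_left.1 h)

end Core

end Cfsg.Agent.Fi22Two
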