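import Cfsg.Agent.Lib.LargeExtra.Setting

/-!
The centraliser of an involution `z` whose 2-core `J` has centre of order four, generated by `z` and `d`:
elementary facts about the action on `J`.
-/

set_option autoImplicit false
set_option linter.style.haveILetI false
set_option linter.unusedSectionVars false

namespace Cfsg.Agent.Fi22Two

open Subgroup LargeExtra
open scoped commutatorElement

variable {G : Type*} [Group G] [Finite G]

/-- The four elements `1`, `z`, `d`, `d * z`. -/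
def Zc (z d : G) : Set G := {1, z, d, d * z}

theorem mem_Zc {z d a : G} : a ∈ Zc z d ↔ a = 1 ∨ a = z ∨ a = d ∨ a = d * z := by
  simp [Zc]

/-- The hypotheses at the pair `z`, `d`. -/
structure Two (z d : G) : Prop where
  z2 : z * z = 1
  d2 : d * d = 1
  z_ne : z ≠ 1
  d_ne : d ≠ 1
  d_ne_z : d ≠ z
  z_mem : z ∈ coreAt z
  d_mem : d ∈ coreAt z
  d_central : ∀ a ∈ coreAt z, Commute d a
  center : ∀ a ∈ coreAt z, (∀ b ∈ coreAt z, Commute a b) → a ∈ Zc z d
  sq : ∀ a ∈ coreAt z, a * a = 1 ∨ a * a = z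
  comm : ∀ a ∈ coreAt z, ∀ b ∈ coreAt z, ⁅a, b⁆ = 1 ∨ ⁅a, b⁆ = z
  card : Nat.card (coreAt z) = 1024
  self : ∀ c, Commute z c → (∀ a ∈ coreAt z, Commute c a) → c ∈ coreAt z
  swap : ∀ h, Commute z h → h * d * h⁻¹ = d ∨ h * d * h⁻¹ = d * z
  class_ne : ∀ g, g * z * g⁻¹ ≠ d ∧ g * z * g⁻¹ ≠ d * z
  cover : ∀ P : Subgroup G, IsPGroup 2 P → (∀ a ∈ P, Commute d a) →
    ∃ c, Commute d c ∧ ∀ a ∈ P, Commute z (c * a * c⁻¹)

theorem conj_comm {g a b : G} (h : Commute a b) : Commute (g * a * g⁻¹) (g * b * g⁻¹) :=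
  h.map (MulAut.conj g)

theorem comm_of_conj {g a : G} (h : g * a * g⁻¹ = a) : Commute g a := mul_inv_eq_iff_eq_mul.1 h

theorem conj_of_comm {g a : G} (h : Commute g a) : g * a * g⁻¹ = a := by
  rw [h.eq, mul_inv_cancel_right]

theorem eq_conj_iff {g a b : G} : g * a * g⁻¹ = b ↔ a = g⁻¹ * b * g := by
  constructor <;> rintro rfl <;> group

theorem comm_elem_eq {g a : G} : ⁅g, a⁆ * a = g * a * g⁻¹ := by
  rw [commutatorElement_def, inv_mul_cancel_right]

namespace Two

variable {z d : G} (T : Two z d)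

include T

theorem z_inv : z⁻¹ = z := inv_eq_of_mul_eq_one_right T.z2

theorem d_inv : d⁻¹ = d := inv_eq_of_mul_eq_one_right T.d2

theorem comm_z {a : G} (ha : a ∈ coreAt z) : Commute z a :=
  (mem_centralizer_one.1 (coreAt_le z ha)).symm

theorem zd : Commute z d := T.comm_z T.d_mem

theorem dz2 : d * z * (d * z) = 1 := by
  rw [T.zd.mul_mul_mul_comm, T.d2, T.z2, one_mul]

theorem dz_inv : (d * z)⁻¹ = d * z := inv_eq_of_mul_eq_one_right T.dz2

theorem dz_mem : d * z ∈ coreAt z := mul_mem T.d_mem T.z_mem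

theorem dz_ne_one : d * z ≠ 1 := fun h => T.d_ne_z (by
  rw [mul_eq_one_iff_eq_inv, T.z_inv] at h; exact h)

theorem dz_ne_z : d * z ≠ z := fun h => T.d_ne (mul_eq_right.1 h)

theorem dz_ne_d : d * z ≠ d := fun h => T.z_ne (mul_eq_left.1 h)

theorem Zc_mem {a : G} (ha : a ∈ Zc z d) : a ∈ coreAt z := by
  rcases mem_Zc.1 ha with rfl | rfl | rfl | rfl
  exacts [one_mem _, T.z_mem, T.d_mem, T.dz_mem]

theorem Zc_comm {a g : G} (ha : a ∈ Zc z d) (hz : Commute z g) (hd : Commute d g) : Commute a g := by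
  rcases mem_Zc.1 ha with rfl | rfl | rfl | rfl
  exacts [Commute.one_left g, hz, hd, hd.mul_left hz]

theorem Zc_central {a : G} (ha : a ∈ Zc z d) {b : G} (hb : b ∈ coreAt z) : Commute a b :=
  T.Zc_comm ha (T.comm_z hb) (T.d_central b hb)

theorem one_mem_Zc : (1 : G) ∈ Zc z d := by simp [Zc]

theorem z_mem_Zc : z ∈ Zc z d := by simp [Zc]

theorem Zc_sq {a : G} (ha : a ∈ Zc z d) : a * a = 1 := by
  rcases mem_Zc.1 ha with rfl | rfl | rfl | rfl
  exacts [one_mul 1, T.z2, T.d2, T.dz2]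

theorem Zc_inv {a : G} (ha : a ∈ Zc z d) : a⁻¹ = a := inv_eq_of_mul_eq_one_right (T.Zc_sq ha)

theorem Zc_mul {a b : G} (ha : a ∈ Zc z d) (hb : b ∈ Zc z d) : a * b ∈ Zc z d := by
  have hzd : z * d = d * z := T.zd.eq
  have e1 : d * (d * z) = z := by rw [← mul_assoc, T.d2, one_mul]
  have e2 : d * z * d = z := by rw [mul_assoc, hzd, ← mul_assoc, T.d2, one_mul]
  have e3 : z * (d * z) = d := by rw [← mul_assoc, hzd, mul_assoc, T.z2, mul_one]
  have e4 : d * z * z = d := by rw [mul_assoc, T.z2, mul_one]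
  rcases mem_Zc.1 ha with rfl | rfl | rfl | rfl <;> rcases mem_Zc.1 hb with rfl | rfl | rfl | rfl <;>
    simp [mem_Zc, T.z2, T.d2, T.dz2, hzd, e1, e2, e3, e4]

theorem conj_mem_core {g a : G} (hg : Commute z g) (ha : a ∈ coreAt z) : g * a * g⁻¹ ∈ coreAt z :=
  LargeExtra.conj_mem (coreAt_normal z (mem_centralizer_one.2 hg.eq.symm)) ha

theorem bracket_mem {g a : G} (hg : Commute z g) (ha : a ∈ coreAt z) : ⁅g, a⁆ ∈ coreAt z := by
  rw [commutatorElement_def]
  exact mul_mem (T.conj_mem_core hg ha) (inv_mem ha)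

/-- Conjugation inside the core. -/
theorem conj_cases {a b : G} (ha : a ∈ coreAt z) (hb : b ∈ coreAt z) :
    a * b * a⁻¹ = b ∨ a * b * a⁻¹ = b * z := by
  rw [← comm_elem_eq]
  rcases T.comm a ha b hb with h | h <;> rw [h]
  · exact Or.inl (one_mul b)
  · exact Or.inr (T.comm_z hb).eq

/-- Elements of odd order commuting with `z` commute with `d`. -/
theorem odd_d {x : G} (hx : Commute z x) (ho : Odd (orderOf x)) : Commute d x := by
  have hstep : ∀ h, Commute z h → Commute d (h * h) := fun h hh => by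
    have hz' : h * z * h⁻¹ = z := conj_of_comm hh.symm
    refine (comm_of_conj ?_).symm
    rw [show h * h * d * (h * h)⁻¹ = h * (h * d * h⁻¹) * h⁻¹ by group]
    rcases T.swap h hh with e | e
    · rw [e, e]
    · rw [e, show h * (d * z) * h⁻¹ = h * d * h⁻¹ * (h * z * h⁻¹) by group, e, hz', mul_assoc, T.z2, mul_one]
  have h1 := hstep x hx
  rw [← pow_two] at h1
  exact (commute_of_pow ho 1 (by rw [pow_one]; exact h1.symm)).symm

/-- An element acting trivially on the core modulo its centre lies in the core. -/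
theorem faithful {g : G} (hg : Commute z g) (h : ∀ a ∈ coreAt z, ⁅g, a⁆ ∈ Zc z d) : g ∈ coreAt z := by
  have hconjZ : ∀ k, Commute z k → ∀ ζ ∈ Zc z d, k * ζ * k⁻¹ ∈ Zc z d := by
    intro k hk ζ hζ
    have hkz : k * z * k⁻¹ = z := conj_of_comm hk.symm
    rcases mem_Zc.1 hζ with rfl | rfl | rfl | rfl
    · simpa using one_mem_Zc T
    · rw [hkz]; exact T.z_mem_Zc
    · rcases T.swap k hk with e | e <;> rw [e] <;> simp [Zc]
    · rw [show k * (d * z) * k⁻¹ = k * d * k⁻¹ * (k * z * k⁻¹) by group, hkz]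
      rcases T.swap k hk with e | e <;> rw [e]
      · simp [Zc]
      · rw [mul_assoc, T.z2, mul_one]; simp [Zc]
  let K : Subgroup G :=
    { carrier := {k | Commute z k ∧ ∀ a ∈ coreAt z, ⁅k, a⁆ ∈ Zc z d}
      one_mem' := ⟨Commute.one_right z, fun a _ => by rw [commutatorElement_one_left]; exact T.one_mem_Zc⟩
      mul_mem' := fun {k l} hk hl => ⟨hk.1.mul_right hl.1, fun a ha => by
        rw [show ⁅k * l, a⁆ = k * ⁅l, a⁆ * k⁻¹ * ⁅k, a⁆ by simp [commutatorElement_def, mul_assoc]]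
        exact T.Zc_mul (hconjZ k hk.1 _ (hl.2 a ha)) (hk.2 a ha)⟩
      inv_mem' := fun {k} hk => ⟨hk.1.inv_right, fun a ha => by
        have h1 := hk.2 (k⁻¹ * a * k) (by simpa using T.conj_mem_core hk.1.inv_right ha)
        have e : ⁅k⁻¹, a⁆ = (⁅k, k⁻¹ * a * k⁆)⁻¹ := by simp [commutatorElement_def, mul_assoc]
        rw [e, T.Zc_inv h1]
        exact h1⟩ }
  have hK : K ≤ centralizer ({z} : Set G) := fun k hk => mem_centralizer_one.2 hk.1.eq.symm
  have hsq : ∀ k ∈ K, k * k * (k * k) ∈ coreAt z := by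
    intro k hk
    refine T.self _ ((hk.1.mul_right hk.1).mul_right (hk.1.mul_right hk.1)) fun a ha => comm_of_conj ?_
    set l := k * k with hl
    have hlz : Commute z l := hk.1.mul_right hk.1
    obtain ⟨η, hη, e⟩ : ∃ η, (η = 1 ∨ η = z) ∧ l * a * l⁻¹ = η * a := by
      refine ⟨⁅l, a⁆, ?_, comm_elem_eq.symm⟩
      rw [hl, show ⁅k * k, a⁆ = k * ⁅k, a⁆ * k⁻¹ * ⁅k, a⁆ by simp [commutatorElement_def, mul_assoc]]
      have hkz : k * z * k⁻¹ = z := conj_of_comm hk.1.symm
      rcases mem_Zc.1 (hk.2 a ha) with h1 | h1 | h1 | h1 <;> rw [h1]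
      · left; group
      · left; rw [hkz, T.z2]
      · rcases T.swap k hk.1 with e | e <;> rw [e]
        · exact Or.inl T.d2
        · right; rw [mul_assoc, T.zd.eq, ← mul_assoc, T.d2, one_mul]
      · rw [show k * (d * z) * k⁻¹ = k * d * k⁻¹ * (k * z * k⁻¹) by group, hkz]
        rcases T.swap k hk.1 with e | e <;> rw [e]
        · exact Or.inl T.dz2
        · right; rw [mul_assoc, mul_assoc, ← mul_assoc z, T.z2, one_mul, ← mul_assoc, T.d2, one_mul]
    have hlη : l * η * l⁻¹ = η := by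
      rcases hη with rfl | rfl
      · group
      · exact conj_of_comm hlz.symm
    rw [show l * l * a * (l * l)⁻¹ = l * (l * a * l⁻¹) * l⁻¹ by group, e,
      show l * (η * a) * l⁻¹ = l * η * l⁻¹ * (l * a * l⁻¹) by group, hlη, e, ← mul_assoc]
    rcases hη with rfl | rfl
    · rw [one_mul, one_mul]
    · rw [T.z2, one_mul]
  have hK2 : IsPGroup 2 K := fun k => by
    obtain ⟨n, hn⟩ := coreAt_isPGroup z ⟨_, hsq k k.2⟩
    refine ⟨2 + n, Subtype.ext ?_⟩
    have h1 := congrArg Subtype.val hn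
    rw [SubmonoidClass.coe_pow, OneMemClass.coe_one] at h1 ⊢
    rw [pow_add, pow_mul, show (k : G) ^ 2 ^ 2 = k * k * (k * k) by
      rw [show 2 ^ 2 = 2 + 2 from rfl, pow_add, pow_two]]
    exact h1
  have hconjK : ∀ k, Commute z k → ∀ l ∈ K, k * l * k⁻¹ ∈ K := fun k hk l hl => by
    refine ⟨(hk.mul_right hl.1).mul_right hk.inv_right, fun a ha => ?_⟩
    rw [show ⁅k * l * k⁻¹, a⁆ = k * ⁅l, k⁻¹ * a * k⁆ * k⁻¹ by simp [commutatorElement_def, mul_assoc]]
    exact hconjZ k hk _ (hl.2 _ (by simpa using T.conj_mem_core hk.inv_right ha))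
  exact le_coreAt (T := K) hK2 hK (fun k hk => mem_normalizer_iff.2 fun l => ⟨hconjK k (mem_centralizer_one.1 hk).symm l,
    fun h' => by simpa [mul_assoc] using hconjK k⁻¹ (Commute.inv_right (mem_centralizer_one.1 hk).symm) _ h'⟩) ⟨hg, h⟩

/-- An element of the core commuting with the centralizer of `u` in the core lies in `u Zc` or `Zc`. -/
theorem mem_of_perp {u w : G} (hu : u ∈ coreAt z) (hw : w ∈ coreAt z)
    (h : ∀ a ∈ coreAt z, Commute a u → Commute w a) : w ∈ Zc z d ∨ w * u ∈ Zc z d := by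
  by_cases hw' : ∀ a ∈ coreAt z, Commute w a
  · exact Or.inl (T.center w hw hw')
  push Not at hw'
  obtain ⟨a, ha, hwa⟩ := hw'
  refine Or.inr (T.center _ (mul_mem hw hu) fun b hb => ?_)
  have hua : ¬ Commute a u := fun h' => hwa (h a ha h')
  have hzc : ∀ {x : G}, x ∈ coreAt z → x * z = z * x := fun hx => (T.comm_z hx).eq.symm
  have flip : ∀ {x y : G}, x ∈ coreAt z → y ∈ coreAt z → ¬ Commute x y → x * y = z * (y * x) := fun {x y} hx hy hn => by
    rcases T.comm x hx y hy with e | e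
    · exact absurd (commutatorElement_eq_one_iff_commute.1 e) hn
    · rw [← e, commutatorElement_def]; group
  by_cases hbu : Commute b u
  · exact (h b hb hbu).mul_left hbu.symm
  have hab : Commute (a * b) u := by
    show a * b * u = u * (a * b)
    calc a * b * u = a * (b * u) := mul_assoc _ _ _
      _ = a * z * u * b := by rw [flip hb hu hbu]; group
      _ = z * (a * u) * b := by rw [hzc ha]; group
      _ = z * z * (u * a) * b := by rw [flip ha hu hua]; group
      _ = u * (a * b) := by rw [T.z2, one_mul, mul_assoc]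
  have hwab := h _ (mul_mem ha hb) hab
  have hwb : ¬ Commute w b := fun h' => hwa (by
    have := hwab.mul_right h'.inv_right
    rwa [mul_inv_cancel_right] at this)
  show w * u * b = b * (w * u)
  calc w * u * b = w * (u * b) := mul_assoc _ _ _
    _ = w * z * b * u := by rw [flip hu hb fun h' => hbu h'.symm]; group
    _ = z * (w * b) * u := by rw [hzc hw]; group
    _ = z * z * (b * w) * u := by rw [flip hw hb hwb]; group
    _ = b * (w * u) := by rw [T.z2, one_mul, mul_assoc]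

/-- An element centralising the centralizer of an involution `u` of the core lies in the core. -/
theorem mem_core_of_perp {u y : G} (hu : u ∈ coreAt z) (hu2 : u * u = 1) (hyz : Commute z y) (hyd : Commute d y)
    (h : ∀ a ∈ coreAt z, Commute a u → Commute y a) : y ∈ coreAt z := by
  refine T.faithful hyz fun a ha => ?_
  by_cases hau : Commute a u
  · rw [commutatorElement_eq_one_iff_commute.2 (h a ha hau)]; exact T.one_mem_Zc
  have hk := T.bracket_mem hyz ha
  set k := ⁅y, a⁆ with hkdef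
  have hyu : Commute y u := h u hu (Commute.refl u)
  have hkC : ∀ b ∈ coreAt z, Commute b u → Commute k b := fun b hb hbu => by
    have hyb := h b hb hbu
    rw [← commutatorElement_eq_one_iff_commute]
    have e1 : y * ⁅a, b⁆ * y⁻¹ = ⁅a, b⁆ := by
      rcases T.comm a ha b hb with e | e <;> rw [e]
      · group
      · exact conj_of_comm hyz.symm
    have e2 : ⁅k * a, b⁆ = ⁅a, b⁆ := by
      rw [hkdef, comm_elem_eq]
      calc ⁅y * a * y⁻¹, b⁆ = y * ⁅a, y⁻¹ * b * y⁆ * y⁻¹ := by simp [commutatorElement_def, mul_assoc]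
        _ = y * ⁅a, b⁆ * y⁻¹ := by rw [show y⁻¹ * b * y = b by rw [mul_assoc, ← hyb.eq, inv_mul_cancel_left]]
        _ = ⁅a, b⁆ := e1
    rw [show ⁅k * a, b⁆ = k * ⁅a, b⁆ * k⁻¹ * ⁅k, b⁆ by simp [commutatorElement_def, mul_assoc]] at e2
    have e3 : k * ⁅a, b⁆ * k⁻¹ = ⁅a, b⁆ := by
      rcases T.comm a ha b hb with e | e <;> rw [e]
      · group
      · exact conj_of_comm (T.comm_z hk).symm
    rwa [e3, mul_eq_left] at e2
  rcases T.mem_of_perp hu hk hkC with hZ | hZ
  · exact hZ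
  exfalso
  obtain ⟨ζ, hζ, ek⟩ : ∃ ζ ∈ Zc z d, k = ζ * u := ⟨k * u, hZ, by rw [mul_assoc, hu2, mul_one]⟩
  have hζa : Commute ζ a := T.Zc_central hζ ha
  have hζu : Commute ζ u := T.Zc_central hζ hu
  have h1 : k * a * (k * a) = a * a := by
    rw [hkdef, comm_elem_eq, show y * a * y⁻¹ * (y * a * y⁻¹) = y * (a * a) * y⁻¹ by group]
    rcases T.sq a ha with e | e <;> rw [e]
    · group
    · exact conj_of_comm hyz.symm
  have h2 : k * a * (k * a) = z * (a * a) := by
    have eau : a * u = z * (u * a) := by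
      rcases T.comm a ha u hu with e | e
      · exact absurd (commutatorElement_eq_one_iff_commute.1 e) hau
      · rw [← e, commutatorElement_def]; group
    rw [ek]
    calc ζ * u * a * (ζ * u * a) = ζ * u * (a * ζ) * u * a := by group
      _ = ζ * u * (ζ * a) * u * a := by rw [← hζa.eq]
      _ = ζ * (u * ζ) * (a * u) * a := by group
      _ = ζ * (ζ * u) * (a * u) * a := by rw [← hζu.eq]
      _ = ζ * ζ * u * (a * u) * a := by group
      _ = u * (z * (u * a)) * a := by rw [T.Zc_sq hζ, one_mul, eau]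
      _ = u * z * u * (a * a) := by group
      _ = z * u * u * (a * a) := by rw [(T.comm_z hu).eq]
      _ = z * (a * a) := by rw [mul_assoc z u u, hu2, mul_one]
  exact T.z_ne (mul_eq_right.1 (h2.symm.trans h1))

/-- An element of odd order commuting with an involution and fixing its centralizer in the core is trivial. -/
theorem odd_trivial {e x : G} (he : Commute z e) (hed : Commute d e) (he2 : e * e = 1) (hxz : Commute z x)
    (hxe : Commute e x) (ho : Odd (orderOf x)) (h : ∀ a ∈ coreAt z, Commute a e → Commute x a) : x = 1 := by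
  have hxd : Commute d x := T.odd_d hxz ho
  have hei : e⁻¹ = e := inv_eq_of_mul_eq_one_right he2
  have step : ∀ a ∈ coreAt z, Commute (⁅x, a⁆) e → Commute x a := by
    intro a ha hc
    have hδ := T.bracket_mem hxz ha
    set δ := ⁅x, a⁆ with hδdef
    have hxδ : Commute x δ := h δ hδ hc
    have hpow : ∀ n : ℕ, x ^ n * a * (x ^ n)⁻¹ = δ ^ n * a := by
      intro n
      induction n with
      | zero => simp
      | succ n ih =>
        rw [show x ^ (n + 1) * a * (x ^ (n + 1))⁻¹ = x * (x ^ n * a * (x ^ n)⁻¹) * x⁻¹ by rw [pow_succ']; group, ih,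
          show x * (δ ^ n * a) * x⁻¹ = x * δ ^ n * x⁻¹ * (x * a * x⁻¹) by group,
          conj_of_comm (hxδ.pow_right n), ← comm_elem_eq, ← hδdef, ← mul_assoc, pow_succ]
    have h1 := hpow (orderOf x)
    rw [pow_orderOf_eq_one, one_mul, inv_one, mul_one, right_eq_mul] at h1
    have hd1 : δ = 1 := by
      rw [← orderOf_eq_one_iff]
      obtain ⟨m, hm⟩ := (coreAt_isPGroup z) ⟨δ, hδ⟩
      have hm' := congrArg Subtype.val hm
      rw [SubmonoidClass.coe_pow, OneMemClass.coe_one] at hm'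
      exact Nat.eq_one_of_dvd_coprimes ((Nat.coprime_two_right.2 ho).pow_right m)
        (orderOf_dvd_of_pow_eq_one h1) (orderOf_dvd_of_pow_eq_one hm')
    exact commutatorElement_eq_one_iff_commute.1 hd1
  -- an element commuting with `x` carries the commutator with `e` to that with `x`
  have key : ∀ a ∈ coreAt z, Commute x ⁅e, a⁆ → Commute ⁅e, a⁆ ⁅x, a⁆ → Commute ⁅x, a⁆ e := by
    intro a ha hxα hαδ
    have hea : e * a * e⁻¹ = ⁅e, a⁆ * a := comm_elem_eq.symm
    refine (comm_of_conj ?_).symm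
    rw [commutatorElement_def x a]
    calc e * (x * a * x⁻¹ * a⁻¹) * e⁻¹
        = e * x * e⁻¹ * (e * a * e⁻¹) * (e * x * e⁻¹)⁻¹ * (e * a * e⁻¹)⁻¹ := by group
      _ = x * ⁅e, a⁆ * a * x⁻¹ * (⁅e, a⁆ * a)⁻¹ := by rw [conj_of_comm hxe, hea]; group
      _ = ⁅e, a⁆ * ⁅x, a⁆ * ⁅e, a⁆⁻¹ := by rw [hxα.eq, commutatorElement_def x a]; group
      _ = ⁅x, a⁆ := conj_of_comm hαδ
      _ = _ := commutatorElement_def x a
  -- the elements centralised by `e` modulo the centre
  have hfx : ∀ a ∈ coreAt z, ⁅e, a⁆ ∈ Zc z d → Commute x a := fun a ha hζ =>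
    step a ha (key a ha (T.Zc_comm hζ hxz hxd).symm (T.Zc_central hζ (T.bracket_mem hxz ha)))
  have hall : ∀ a ∈ coreAt z, Commute x a := by
    intro a ha
    have hα := T.bracket_mem he ha
    have hxα : Commute x ⁅e, a⁆ := hfx _ hα (by
      have e1 : ⁅e, ⁅e, a⁆⁆ = (⁅e, a⁆ * ⁅e, a⁆)⁻¹ := by
        simp [commutatorElement_def, hei, mul_assoc, ← mul_assoc e e, he2]
      rw [e1]
      rcases T.sq _ hα with h1 | h1 <;> rw [h1]
      · rw [inv_one]; exact T.one_mem_Zc
      · rw [T.z_inv]; exact T.z_mem_Zc)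
    refine step a ha (key a ha hxα ?_)
    rw [← commutatorElement_eq_one_iff_commute]
    have h2 : ⁅⁅e, a⁆, ⁅x, a⁆ * a⁆ = ⁅⁅e, a⁆, a⁆ := by
      rw [comm_elem_eq]
      calc ⁅⁅e, a⁆, x * a * x⁻¹⁆ = x * ⁅x⁻¹ * ⁅e, a⁆ * x, a⁆ * x⁻¹ := by simp [commutatorElement_def, mul_assoc]
        _ = x * ⁅⁅e, a⁆, a⁆ * x⁻¹ := by rw [show x⁻¹ * ⁅e, a⁆ * x = ⁅e, a⁆ by
              rw [mul_assoc, ← hxα.eq, inv_mul_cancel_left]]
        _ = ⁅⁅e, a⁆, a⁆ := by
          rcases T.comm _ hα a ha with h3 | h3 <;> rw [h3]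
          · group
          · exact conj_of_comm hxz.symm
    rw [show ⁅⁅e, a⁆, ⁅x, a⁆ * a⁆ = ⁅⁅e, a⁆, ⁅x, a⁆⁆ * (⁅x, a⁆ * ⁅⁅e, a⁆, a⁆ * ⁅x, a⁆⁻¹) by
      simp [commutatorElement_def, mul_assoc]] at h2
    rwa [show ⁅x, a⁆ * ⁅⁅e, a⁆, a⁆ * ⁅x, a⁆⁻¹ = ⁅⁅e, a⁆, a⁆ by
      rcases T.comm _ hα a ha with h3 | h3 <;> rw [h3]
      · group
      · exact conj_of_comm (T.comm_z (T.bracket_mem hxz ha)).symm, mul_eq_right] at h2
  have hxJ := T.self x hxz hall
  rw [← orderOf_eq_one_iff]
  obtain ⟨m, hm⟩ := (coreAt_isPGroup z) ⟨x, hxJ⟩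
  have hm' := congrArg Subtype.val hm
  rw [SubmonoidClass.coe_pow, OneMemClass.coe_one] at hm'
  exact Nat.eq_one_of_dvd_coprimes ((Nat.coprime_two_right.2 ho).pow_right m) dvd_rfl
    (orderOf_dvd_of_pow_eq_one hm')

/-- The centralizer of an element of the core outside its centre has index two. -/
theorem card_perp {u : G} (hu : u ∈ coreAt z) (hn : u ∉ Zc z d) :
    Nat.card ↥(coreAt z ⊓ centralizer ({u} : Set G)) = 512 := by
  classical
  obtain ⟨q, hq, hqu⟩ : ∃ q ∈ coreAt z, ¬ Commute q u := by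
    by_contra h
    push Not at h
    exact hn (T.center u hu fun b hb => (h b hb).symm)
  set N := coreAt z ⊓ centralizer ({u} : Set G) with hN
  have hNmem : ∀ {a : G}, a ∈ N ↔ a ∈ coreAt z ∧ Commute a u := fun {a} => by
    rw [hN, mem_inf, mem_centralizer_one]
    rfl
  have hset : (coreAt z : Set G) = (N : Set G) ∪ (fun a => q * a) '' (N : Set G) := by
    ext a
    simp only [Set.mem_union, Set.mem_image, SetLike.mem_coe, hNmem]
    constructor
    · intro ha
      by_cases hau : Commute a u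
      · exact Or.inl ⟨ha, hau⟩
      refine Or.inr ⟨q⁻¹ * a, ⟨mul_mem (inv_mem hq) ha, ?_⟩, by group⟩
      have e1 : a * u * a⁻¹ = u * z := (T.conj_cases ha hu).resolve_left fun h => hau (comm_of_conj h)
      have e2 : q * u * q⁻¹ = u * z := (T.conj_cases hq hu).resolve_left fun h => hqu (comm_of_conj h)
      refine comm_of_conj ?_
      rw [show q⁻¹ * a * u * (q⁻¹ * a)⁻¹ = q⁻¹ * (a * u * a⁻¹) * q by group, e1, ← e2]
      group
    · rintro (ha | ⟨b, hb, rfl⟩)
      exacts [ha.1, mul_mem hq hb.1]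
  have hd : Disjoint (N : Set G) ((fun a => q * a) '' (N : Set G)) := by
    rw [Set.disjoint_left]
    rintro a ha ⟨b, hb, rfl⟩
    exact hqu (hNmem.1 (by simpa using N.mul_mem ha (N.inv_mem hb))).2
  have hc : (coreAt z : Set G).ncard = 1024 := by rw [← Nat.card_coe_set_eq]; exact T.card
  rw [hset, Set.ncard_union_eq hd, Set.ncard_image_of_injective _ (mul_right_injective q), ← Nat.card_coe_set_eq] at hc
  simp only [SetLike.coe_sort_coe] at hc
  omega

/-- The other central involution. -/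
theorem other (hz : ∀ P : Subgroup G, IsPGroup 2 P → (∀ a ∈ P, Commute (d * z) a) →
    ∃ c, Commute (d * z) c ∧ ∀ a ∈ P, Commute z (c * a * c⁻¹)) : Two z (d * z) where
  z2 := T.z2
  d2 := T.dz2
  z_ne := T.z_ne
  d_ne := T.dz_ne_one
  d_ne_z := T.dz_ne_z
  z_mem := T.z_mem
  d_mem := T.dz_mem
  d_central := fun a ha => (T.d_central a ha).mul_left (T.comm_z ha)
  center := fun a ha h => by
    have := T.center a ha h
    rw [mem_Zc] at this ⊢
    rw [mul_assoc, T.z2, mul_one]
    tauto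
  sq := T.sq
  comm := T.comm
  card := T.card
  self := T.self
  swap := fun h hh => by
    have hz' : h * z * h⁻¹ = z := conj_of_comm hh.symm
    rw [show h * (d * z) * h⁻¹ = h * d * h⁻¹ * (h * z * h⁻¹) by group, hz']
    rcases T.swap h hh with e | e <;> rw [e] <;> tauto
  class_ne := fun g => by
    rw [mul_assoc d, T.z2, mul_one]
    exact (T.class_ne g).symm
  cover := hz

end Two

end Cfsg.Agent.Fi22Two
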