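import Cfsg.Agent.Lib.Fi22Two.InstNatural
import Cfsg.Agent.Lib.Fi22Two.InstCoord
import Cfsg.Agent.Lib.Fi22Two.Line
import Cfsg.Agent.Lib.U62Rec.Assembly
import Cfsg.Agent.Lib.U62Rec.Red.Final

/-!
The hypotheses on a complement of `d` from the class of the image of `z` in the centraliser of `d` modulo `d`:
a class of 3-transpositions whose commuting quintuples of product one are the members over one point with their
common neighbour.
-/

set_option autoImplicit false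
set_option linter.style.haveILetI false
set_option linter.unusedSectionVars false
set_option linter.unusedVariables false
set_option maxRecDepth 20000

namespace Cfsg.Agent.Fi22Two

open Subgroup LargeExtra
open scoped commutatorElement

universe u

section Class

variable {X : Type*} [Group X] [Finite X] (Φ : U62Rec.Fam (G := X) U62Rec.Model.geo)
  (hnwc : ∀ w ∈ Φ.D, ∃ e, e ∈ U62Rec.nbr Φ.D w)

/-- Two members are over one point when they are congruent modulo the core. -/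
theorem ptF_eq_iff {x e e' : X} (hx : x ∈ Φ.D) (he : e ∈ U62Rec.nbr Φ.D x) (he' : e' ∈ U62Rec.nbr Φ.D x) :
    Φ.ptF x e = Φ.ptF x e' ↔ e⁻¹ * e' ∈ coreAt x := by
  obtain ⟨L, hL⟩ : ∃ L : U62Rec.Loc U62Rec.Model.geo x, L = Φ.loc x hx := ⟨_, rfl⟩
  have e1 : L.perm e = U62Rec.Model.geo.tr (Φ.ptF x e) := hL ▸ Φ.ptF_spec hx he
  have e2 : L.perm e' = U62Rec.Model.geo.tr (Φ.ptF x e') := hL ▸ Φ.ptF_spec hx he'
  rw [← L.perm_eq_one _ (he.2.2.inv_right.mul_right he'.2.2), L.perm_mul _ _ he.2.2.inv_right he'.2.2,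
    show L.perm e⁻¹ = (L.perm e)⁻¹ from eq_inv_of_mul_eq_one_left (by
      rw [← L.perm_mul _ _ he.2.2.inv_right he.2.2, inv_mul_cancel, L.perm_one]),
    inv_mul_eq_one, e1, e2]
  exact ⟨fun h => by rw [h], fun h => U62Rec.Model.geo.tr_inj h⟩

/-- Half of the core is fixed by a member modulo the centre. -/
theorem member_fix {x e : X} (hx : x ∈ Φ.D) (he : e ∈ U62Rec.nbr Φ.D x) :
    {a | a ∈ coreAt x ∧ ⁅e, a⁆ ∈ zpowers x}.ncard = 128 := by
  rw [← (Φ.loc x hx).perp_card (Φ.ptF x e), ← SetLike.coe_sort_coe, Nat.card_coe_set_eq]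
  congr 1
  ext a
  simp only [Set.mem_ofPred_eq, SetLike.mem_coe, mem_inf, mem_centralizer_iff]
  exact and_congr_right fun ha => ((Φ.loc x hx).tr_ker _ e he.2.2 (Φ.ptF_spec hx he) a ha).trans
    ⟨fun h r hr => (h r hr).symm.eq, fun h r hr => (show Commute r a from h r hr).symm⟩

include hnwc

/-- The class is a class of 3-transpositions. -/
theorem class_tri {a b : X} (ha : a ∈ Φ.D) (hb : b ∈ Φ.D) : Commute a b ∨ (a * b) ^ 3 = 1 :=
  or_iff_not_imp_left.2 fun hc => ((U62Rec.Setting.near_all (S := Φ.setting hnwc) ha hb).pow_three hc)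

/-- Four commuting neighbours with product `w` lie over one point. -/
theorem four_pt {w a b c e : X} (hw : w ∈ Φ.D) (ha : a ∈ U62Rec.nbr Φ.D w) (hb : b ∈ U62Rec.nbr Φ.D w)
    (hc : c ∈ U62Rec.nbr Φ.D w) (he : e ∈ U62Rec.nbr Φ.D w) (hab : a ≠ b) (hac : a ≠ c) (hae : a ≠ e)
    (hbc : b ≠ c) (hbe : b ≠ e) (hce : c ≠ e) (cab : Commute a b) (cac : Commute a c) (cae : Commute a e)
    (cbc : Commute b c) (cbe : Commute b e) (cce : Commute c e) (h : w * a * b * c * e = 1) :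
    Φ.ptF w a = Φ.ptF w b ∧ Φ.ptF w a = Φ.ptF w c ∧ Φ.ptF w a = Φ.ptF w e := by
  classical
  -- two pairs over points give one point
  have pair : ∀ {a b c e : X}, a ∈ U62Rec.nbr Φ.D w → b ∈ U62Rec.nbr Φ.D w → c ∈ U62Rec.nbr Φ.D w →
      e ∈ U62Rec.nbr Φ.D w → a ≠ b → Φ.ptF w a = Φ.ptF w b → Φ.ptF w c = Φ.ptF w e → w * a * b * c * e = 1 →
      Φ.ptF w a = Φ.ptF w c := by
    intro a b c e ha hb hc he hab p1 p2 h
    have h4 := Φ.fibre_ncard hnwc hw (Φ.ptF w a)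
    obtain ⟨a', ⟨ha', pa'⟩, hna'⟩ := Set.exists_mem_notMem_of_ncard_lt_ncard
      (s := ({a, b} : Set X)) (t := {f | f ∈ U62Rec.nbr Φ.D w ∧ Φ.ptF w f = Φ.ptF w a})
      (by rw [h4, Set.ncard_pair hab]; norm_num)
    obtain ⟨b', ⟨hb', pb'⟩, hnb'⟩ := Set.exists_mem_notMem_of_ncard_lt_ncard
      (s := ({a, b, a'} : Set X)) (t := {f | f ∈ U62Rec.nbr Φ.D w ∧ Φ.ptF w f = Φ.ptF w a})
      (by
        rw [h4]
        refine lt_of_le_of_lt (Set.ncard_insert_le _ _) ?_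
        have := Set.ncard_insert_le b ({a'} : Set X)
        rw [Set.ncard_singleton] at this
        omega)
    simp only [Set.mem_insert_iff, Set.mem_singleton_iff, not_or] at hna' hnb'
    have h5 := (Φ.setting hnwc).line_five w hw a ha b hb a' ha' b' hb' hab (Ne.symm hna'.1) (Ne.symm hnb'.1)
      (Ne.symm hna'.2) (Ne.symm hnb'.2.1) (Ne.symm hnb'.2.2) p1 pa'.symm pb'.symm
    have heq : a' * b' = c * e := mul_left_cancel (a := w * a * b) (by rw [← mul_assoc, ← mul_assoc, h5, h])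
    exact pa'.symm.trans (Φ.line_prod' hw ha' hb' hc he (Ne.symm hnb'.2.2) (pa'.trans pb'.symm) p2 heq)
  -- the points are equal or adjacent
  have adj : ∀ {a b : X}, a ∈ U62Rec.nbr Φ.D w → b ∈ U62Rec.nbr Φ.D w → Commute a b →
      Φ.ptF w a = Φ.ptF w b ∨ U62Rec.Model.adjP (Φ.ptF w a) (Φ.ptF w b) :=
    fun ha hb hab => ((Φ.setting hnwc).commute_iff hw ha hb).1 hab
  obtain ⟨L, hL⟩ : ∃ L : U62Rec.Loc U62Rec.Model.geo w, L = Φ.loc w hw := ⟨_, rfl⟩
  have htv : ∀ {f : X}, f ∈ U62Rec.nbr Φ.D w → L.perm f = U62Rec.Model.tvP (Φ.ptF w f) :=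
    fun hf => hL ▸ Φ.ptF_spec hw hf
  have hww : Commute w w := Commute.refl w
  have hperm : U62Rec.Model.tvP (Φ.ptF w a) * U62Rec.Model.tvP (Φ.ptF w b) * U62Rec.Model.tvP (Φ.ptF w c) *
      U62Rec.Model.tvP (Φ.ptF w e) = 1 := by
    have h1 := congrArg L.perm h
    rw [L.perm_mul _ _ (((hww.mul_right ha.2.2).mul_right hb.2.2).mul_right hc.2.2) he.2.2,
      L.perm_mul _ _ ((hww.mul_right ha.2.2).mul_right hb.2.2) hc.2.2, L.perm_mul _ _ (hww.mul_right ha.2.2) hb.2.2,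
      L.perm_mul _ _ hww ha.2.2, L.perm_z, L.perm_one, one_mul, htv ha, htv hb, htv hc, htv he] at h1
    exact h1
  rcases four_tv (adj ha hb cab) (adj ha hc cac) (adj ha he cae) (adj hb hc cbc) (adj hb he cbe) (adj hc he cce)
    hperm with ⟨p1, p2⟩ | ⟨p1, p2⟩ | ⟨p1, p2⟩
  · have h3 := pair ha hb hc he hab p1 p2 h
    exact ⟨p1, h3, h3.trans p2⟩
  · have h3 := pair ha hc hb he hac p1 p2 (by rw [mul_assoc (w * a) c b, ← cbc.eq, ← mul_assoc]; exact h)
    exact ⟨h3, p1, h3.trans p2⟩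
  · have h3 := pair ha he hb hc hae p1 p2 (by
      rw [mul_assoc (w * a) e b, ← cbe.eq, ← mul_assoc, mul_assoc (w * a * b) e c, ← cce.eq, ← mul_assoc]; exact h)
    exact ⟨h3, h3.trans p2, p1⟩

/-- Two commuting quintuples of product one with two common members are equal. -/
theorem class_uniq (L L' : Fin 5 → X) (h : IsFive Φ.D L 1) (h' : IsFive Φ.D L' 1) (e0 : L 0 = L' 0)
    (e1 : L 1 = L' 1) : ∀ i, ∃ j, L' i = L j := by
  classical
  have key : ∀ M : Fin 5 → X, IsFive Φ.D M 1 → ∀ i, i ≠ 0 →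
      M i ∈ U62Rec.nbr Φ.D (M 0) ∧ Φ.ptF (M 0) (M i) = Φ.ptF (M 0) (M 1) := by
    intro M hM
    have nb : ∀ i, i ≠ 0 → M i ∈ U62Rec.nbr Φ.D (M 0) := fun i hi =>
      ⟨hM.mem i, fun e => hi (hM.inj e), hM.comm 0 i⟩
    have ne : ∀ i j : Fin 5, i ≠ j → M i ≠ M j := fun i j hij e => hij (hM.inj e)
    obtain ⟨p2, p3, p4⟩ := four_pt Φ hnwc (hM.mem 0) (nb 1 (by decide)) (nb 2 (by decide)) (nb 3 (by decide))
      (nb 4 (by decide)) (ne 1 2 (by decide)) (ne 1 3 (by decide)) (ne 1 4 (by decide)) (ne 2 3 (by decide))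
      (ne 2 4 (by decide)) (ne 3 4 (by decide)) (hM.comm 1 2) (hM.comm 1 3) (hM.comm 1 4) (hM.comm 2 3)
      (hM.comm 2 4) (hM.comm 3 4) hM.prod
    intro i hi
    refine ⟨nb i hi, ?_⟩
    fin_cases i
    exacts [absurd rfl hi, rfl, p2.symm, p3.symm, p4.symm]
  intro i
  by_cases hi : i = 0
  · exact ⟨0, hi ▸ e0.symm⟩
  obtain ⟨hn, hp⟩ := key L' h' i hi
  rw [← e0, ← e1] at hp
  rw [← e0] at hn
  have himg : L '' {j | j ≠ 0} = {f | f ∈ U62Rec.nbr Φ.D (L 0) ∧ Φ.ptF (L 0) f = Φ.ptF (L 0) (L 1)} := by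
    refine Set.eq_of_subset_of_ncard_le ?_ ?_ (Set.toFinite _)
    · rintro _ ⟨j, hj, rfl⟩
      exact key L h j hj
    · rw [Φ.fibre_ncard hnwc (h.mem 0), Set.ncard_image_of_injective _ h.inj,
        show {j : Fin 5 | j ≠ 0} = Set.univ \ {0} by ext j; simp, Set.ncard_diff_singleton_of_mem (Set.mem_univ _),
        Set.ncard_univ, Nat.card_eq_fintype_card, Fintype.card_fin]
  obtain ⟨j, -, hj⟩ : L' i ∈ L '' {j | j ≠ 0} := himg ▸ (show L' i ∈ {f | f ∈ U62Rec.nbr Φ.D (L 0) ∧ _} from ⟨hn, hp⟩)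
  exact ⟨j, hj.symm⟩

/-- A commuting quintuple of product one commuting with a member, over five different points. -/
theorem class_base {x : X} (hx : x ∈ Φ.D) : ∃ L : Fin 5 → X, IsFive Φ.D L 1 ∧
    (∀ i, L i ∈ U62Rec.nbr Φ.D x) ∧ ∀ i j, i ≠ j → (L i)⁻¹ * L j ∉ coreAt x := by
  classical
  set S := Φ.setting hnwc with hS
  obtain ⟨t, ht⟩ := hnwc x hx
  have hxt : x ∈ U62Rec.nbr Φ.D t := Φ.nbr_symm hx ht
  obtain ⟨q, hq⟩ : ∃ q, U62Rec.Model.geo.adj (Φ.ptF t x) q := by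
    by_contra hn
    have h12 := U62Rec.Model.geo.adj_card (Φ.ptF t x)
    rw [show {q | U62Rec.Model.geo.adj (Φ.ptF t x) q} = ∅ from Set.eq_empty_of_forall_notMem fun q hq => hn ⟨q, hq⟩,
      Set.ncard_empty] at h12
    omega
  obtain ⟨T', hT'⟩ : ∃ T' : Finset X, (T' : Set X) = {f | f ∈ U62Rec.nbr Φ.D t ∧ Φ.ptF t f = q} :=
    ⟨(Set.toFinite _).toFinset, Set.Finite.coe_toFinset _⟩
  have hcard : T'.card = 4 := by rw [← Set.ncard_coe_finset, hT']; exact Φ.fibre_ncard hnwc ht.1 q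
  let b : Fin 4 → X := fun k => (T'.equivFinOfCardEq hcard).symm k
  have hb : ∀ k, b k ∈ U62Rec.nbr Φ.D t ∧ Φ.ptF t (b k) = q := fun k => by
    have h : b k ∈ (T' : Set X) := ((T'.equivFinOfCardEq hcard).symm k).2
    rwa [hT'] at h
  have binj : Function.Injective b := fun k l h => (T'.equivFinOfCardEq hcard).symm.injective (Subtype.ext h)
  have bne : ∀ k, b k ≠ t := fun k => (hb k).1.2.1
  have hbc : ∀ k l, Commute (b k) (b l) := fun k l =>
    S.line_comm t ht.1 _ (hb k).1 _ (hb l).1 ((hb k).2.trans (hb l).2.symm)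
  have hpne : ∀ k, Φ.ptF t x ≠ Φ.ptF t (b k) := fun k e => by
    rw [(hb k).2] at e
    exact U62Rec.Model.geo.adj_irrefl q (e ▸ hq)
  have hbx : ∀ k, b k ∈ U62Rec.nbr Φ.D x := fun k => ⟨(hb k).1.1, fun e => hpne k (by rw [e]),
    (S.commute_iff ht.1 hxt (hb k).1).2 (Or.inr (by show U62Rec.Model.geo.adj (Φ.ptF t x) (Φ.ptF t (b k)); rw [(hb k).2]; exact hq))⟩
  -- different points at the member
  have ht_b : ∀ k, Φ.ptF x t ≠ Φ.ptF x (b k) := fun k e =>
    hpne k (S.line_symm x hx t ht (b k) (hbx k) (Ne.symm (bne k)) e)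
  have hb_b : ∀ k l, k ≠ l → Φ.ptF x (b k) ≠ Φ.ptF x (b l) := fun k l hkl e => by
    have hne := binj.ne hkl
    have h1 : Φ.ptF (b k) x = Φ.ptF (b k) (b l) := S.line_symm x hx _ (hbx k) _ (hbx l) hne e
    have h2 : Φ.ptF (b k) t = Φ.ptF (b k) (b l) :=
      S.line_symm t ht.1 _ (hb k).1 _ (hb l).1 hne ((hb k).2.trans (hb l).2.symm)
    exact ht_b k (S.line_symm (b k) (hb k).1.1 x (Φ.nbr_symm hx (hbx k)) t (Φ.nbr_symm ht.1 (hb k).1)
      (Ne.symm ht.2.1) (h1.trans h2.symm)).symm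
  refine ⟨![t, b 0, b 1, b 2, b 3], ⟨?_, ?_, ?_, ?_⟩, ?_, ?_⟩
  · intro i; fin_cases i
    exacts [ht.1, (hb 0).1.1, (hb 1).1.1, (hb 2).1.1, (hb 3).1.1]
  · intro i j; fin_cases i <;> fin_cases j
    all_goals first
      | exact Commute.refl _
      | exact hbc _ _
      | exact (hb _).1.2.2
      | exact (hb _).1.2.2.symm
  · intro i j h
    fin_cases i <;> fin_cases j <;> first
      | rfl
      | exact absurd h (bne _)
      | exact absurd h.symm (bne _)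
      | exact absurd (binj h) (by decide)
  · have ne : ∀ k l : Fin 4, k ≠ l → b k ≠ b l := fun k l h => binj.ne h
    have p : ∀ k, Φ.ptF t (b 0) = Φ.ptF t (b k) := fun k => (hb 0).2.trans (hb k).2.symm
    exact S.line_five t ht.1 _ (hb 0).1 _ (hb 1).1 _ (hb 2).1 _ (hb 3).1 (ne 0 1 (by decide)) (ne 0 2 (by decide))
      (ne 0 3 (by decide)) (ne 1 2 (by decide)) (ne 1 3 (by decide)) (ne 2 3 (by decide)) (p 1) (p 2) (p 3)
  · intro i; fin_cases i
    exacts [ht, hbx 0, hbx 1, hbx 2, hbx 3]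
  · intro i j hij hmem
    have hn : ∀ i, ![t, b 0, b 1, b 2, b 3] i ∈ U62Rec.nbr Φ.D x := by
      intro i; fin_cases i
      exacts [ht, hbx 0, hbx 1, hbx 2, hbx 3]
    have e := (ptF_eq_iff Φ hx (hn i) (hn j)).2 hmem
    fin_cases i <;> fin_cases j <;> first
      | exact hij rfl
      | exact ht_b _ e
      | exact ht_b _ e.symm
      | exact hb_b _ _ (by decide) e

end Class


/-- The hypotheses on a complement, from the image in the centraliser of `d` modulo `d`. -/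
theorem Down.complement {G : Type u} [Group G] [Finite G] {z d : G} {X : Type u} [Group X] [Finite X]
    (D : Down z d X) (T : Two z d) {F : Type*} [Field F] [Fintype F] (hF : Fintype.card F = 3)
    (h : U62Rec.Hyp F (D.π z)) (hiso : ¬ Cfsg.IsIsolated (D.π z))
    (U : Subgroup G) (hdU : d ∉ U) (hUd : ∀ u ∈ U, Commute d u) (hcov : ∀ c, Commute d c → c ∈ U ∨ d * c ∈ U)
    (hUn : ∀ c, Commute d c → ∀ u ∈ U, c * u * c⁻¹ ∈ U) (hzU : z ∈ U) : Nonempty (Complement z d) := by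
  classical
  set x := D.π z with hx_def
  -- coordinates
  have hfix : ∀ a ∈ coreAt x, (∀ g : X, Commute x g → g * a * g⁻¹ = a ∨ g * a * g⁻¹ = a * x) → a = 1 ∨ a = x := by
    by_contra hfix
    obtain ⟨hz2, hJ, hJc, hCJ, hJn, ⟨e⟩⟩ := h
    obtain ⟨V, iV, ⟨S⟩⟩ := U62Rec.Model.exists_space hz2 hF hJ hJc hCJ e
    letI := iV
    obtain ⟨u, P⟩ := S.exists_planes hfix
    obtain ⟨R⟩ := S.red P
    exact hiso R.isolated
  obtain ⟨K⟩ : Nonempty (U62Rec.Model.Crd x) := by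
    obtain ⟨hz2, hJ, hJc, hCJ, hJn, ⟨e⟩⟩ := h
    exact U62Rec.Model.exists_crd hz2 hF hJ hJc hCJ e hfix
  obtain ⟨C, -, -, -⟩ := D.coord_lin T K
  -- the class
  have hnbr : ∀ w ∈ conjugatesOf x, ∃ e, e ∈ U62Rec.nbr (conjugatesOf x) w := by
    intro w hw
    obtain ⟨c, rfl⟩ := isConj_iff.1 (show IsConj _ _ from hw)
    obtain ⟨g, hg, hne⟩ : ∃ g, Commute x (g * x * g⁻¹) ∧ g * x * g⁻¹ ≠ x := by
      simpa [Cfsg.IsIsolated] using hiso
    exact ⟨c * (g * x * g⁻¹) * c⁻¹, (isConj_iff.2 ⟨c * g, by group⟩),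
      fun e => hne (mul_left_cancel (mul_right_cancel e)), hg.map (MulAut.conj c).toMonoidHom⟩
  have hL : ∀ w ∈ conjugatesOf x, Nonempty (U62Rec.Loc U62Rec.Model.geo w) := by
    intro w hw
    obtain ⟨c, rfl⟩ := isConj_iff.1 (show IsConj _ _ from hw)
    obtain ⟨h1, h2, h3, h4, hn, ⟨e⟩⟩ := h.conj c
    refine (U62Rec.Model.exists_loc_or_isolated h1 hF h2 h3 h4 e).resolve_right fun hi => ?_
    obtain ⟨f, hf, hne, hc⟩ := hnbr _ hw
    obtain ⟨k, hk⟩ := isConj_iff.1 ((show IsConj _ _ from hw).symm.trans (show IsConj _ _ from hf))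
    exact hne (hk ▸ hi k (hk.symm ▸ hc))
  let Φ : U62Rec.Fam (G := X) U62Rec.Model.geo :=
    { D := conjugatesOf x
      conj_mem := fun g w hw => ((show IsConj _ _ from hw).trans (isConj_iff.2 ⟨g, rfl⟩))
      isConj := fun a ha b hb => isConj_iff.1 ((show IsConj _ _ from ha).symm.trans (show IsConj _ _ from hb))
      loc := fun w hw => (hL w hw).some }
  have hnwc : ∀ w ∈ Φ.D, ∃ e, e ∈ U62Rec.nbr Φ.D w := hnbr
  have hxD : x ∈ Φ.D := (IsConj.refl x)
  -- the restriction to the complement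
  have πd : D.π d = 1 := by
    rw [← D.π_one]
    exact ((D.π_eq 1 d (Commute.one_right d) (Commute.refl d)).2 (Or.inr (one_mul d).symm)).symm
  have Uinj : ∀ u ∈ U, ∀ v ∈ U, D.π u = D.π v → u = v := fun u hu v hv e => by
    rcases (D.π_eq u v (hUd u hu) (hUd v hv)).1 e with h' | h'
    · exact h'.symm
    · exact absurd ((U.mul_mem_cancel_left hu).1 (h' ▸ hv)) hdU
  have Usurj : ∀ s : X, ∃ u ∈ U, D.π u = s := fun s => by
    obtain ⟨c, hc, rfl⟩ := D.π_surj s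
    rcases hcov c hc with h' | h'
    · exact ⟨c, h', rfl⟩
    · exact ⟨d * c, h', by rw [D.π_mul d c (Commute.refl d) hc, πd, one_mul]⟩
  have clsU : ∀ {y}, y ∈ Cls z d → y ∈ U := by
    rintro _ ⟨k, hk, rfl⟩
    exact hUn k hk z hzU
  have cls_d : ∀ {y}, y ∈ Cls z d → Commute d y := fun hy => hUd _ (clsU hy)
  have clsD : ∀ {y}, y ∈ Cls z d → D.π y ∈ Φ.D := by
    rintro _ ⟨k, hk, rfl⟩
    exact (isConj_iff.2 ⟨D.π k, (D.π_conj hk T.zd.symm).symm⟩)
  have clsLift : ∀ s ∈ Φ.D, ∃ y ∈ Cls z d, D.π y = s := fun s hs => by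
    obtain ⟨c, rfl⟩ := isConj_iff.1 (show IsConj _ _ from hs)
    obtain ⟨k, hk, rfl⟩ := D.π_surj c
    exact ⟨k * z * k⁻¹, ⟨k, hk, rfl⟩, D.π_conj hk T.zd.symm⟩
  have π_pow : ∀ (u : G), u ∈ U → ∀ n : ℕ, D.π (u ^ n) = D.π u ^ n := fun u hu n => by
    induction n with
    | zero => simp [D.π_one]
    | succ n ih => rw [pow_succ, pow_succ, D.π_mul _ _ (hUd _ (pow_mem hu n)) (hUd u hu), ih]
  have commU : ∀ {u v : G}, u ∈ U → v ∈ U → (Commute (D.π u) (D.π v) ↔ Commute u v) := fun {u v} hu hv => by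
    refine ⟨fun e => Uinj _ (mul_mem hu hv) _ (mul_mem hv hu) ?_, fun e => ?_⟩
    · rw [D.π_mul u v (hUd u hu) (hUd v hv), D.π_mul v u (hUd v hv) (hUd u hu)]; exact e
    · show D.π u * D.π v = D.π v * D.π u
      rw [← D.π_mul u v (hUd u hu) (hUd v hv), ← D.π_mul v u (hUd v hv) (hUd u hu), e.eq]
  have nbr_of : ∀ {y}, y ∈ Cls z d → Commute z y → y ≠ z → D.π y ∈ U62Rec.nbr Φ.D x := fun {y} hy hc hne =>
    ⟨clsD hy, fun e => hne (Uinj y (clsU hy) z hzU e), (D.π_comm y (cls_d hy)).2 hc⟩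
  have core_of : ∀ {y}, y ∈ Cls z d → Commute z y → y ≠ z → y ∉ coreAt z := fun {y} hy hc hne hJ => by
    have he := nbr_of hy hc hne
    have h1 := ((Φ.loc x hxD).perm_eq_one _ he.2.2).2 ((D.π_core y (cls_d hy)).2 hJ)
    rw [Φ.ptF_spec hxD he] at h1
    exact U62Rec.Model.geo.tr_ne_one _ h1
  -- half of the core
  have dcomm : ∀ {y a : G}, a ∈ coreAt z → Commute z y → Commute d y → ⁅y, d * a⁆ = ⁅y, a⁆ := fun {y a} ha hzy hdy => by
    have h1 : Commute d ⁅y, a⁆ := T.d_central _ (T.bracket_mem hzy ha)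
    calc ⁅y, d * a⁆ = ⁅y, d⁆ * (d * ⁅y, a⁆ * d⁻¹) := by simp [commutatorElement_def, mul_assoc]
      _ = ⁅y, a⁆ := by rw [commutatorElement_eq_one_iff_commute.2 hdy.symm, one_mul, h1.eq, mul_inv_cancel_right]
  have fx_mem : ∀ {y a : G}, a ∈ coreAt z → Commute z y → Commute d y →
      (⁅y, a⁆ ∈ Zc z d ↔ ⁅D.π y, D.π a⁆ ∈ zpowers x) := fun {y a} ha hzy hdy => by
    have hb : ⁅y, a⁆ ∈ coreAt z := T.bracket_mem hzy ha
    have hπ : D.π ⁅y, a⁆ = ⁅D.π y, D.π a⁆ := by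
      rw [commutatorElement_def, commutatorElement_def, D.π_mul _ _ ((hdy.mul_right (T.d_central a ha)).mul_right hdy.inv_right)
        (T.d_central a ha).inv_right, D.π_conj hdy (T.d_central a ha), D.π_inv (T.d_central a ha)]
    have := D.fibre_iff T (one_mem (coreAt z)) hb
    rw [D.π_one, one_mul, inv_one, one_mul, hπ] at this
    rw [← this, K.xs.mem_zpowers_iff]
  have fx256 : ∀ {y}, y ∈ Cls z d → Commute z y → y ≠ z → (fx z d y).ncard = 256 := fun {y} hy hc hne => by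
    have hdy := cls_d hy
    have h128 := member_fix Φ hxD (nbr_of hy hc hne)
    have himg : D.π '' (fx z d y ∩ (U : Set G)) = {a | a ∈ coreAt x ∧ ⁅D.π y, a⁆ ∈ zpowers x} := by
      ext a
      constructor
      · rintro ⟨a, ⟨⟨ha, hz'⟩, -⟩, rfl⟩
        exact ⟨D.core_map T ha, (fx_mem ha hc hdy).1 hz'⟩
      · rintro ⟨ha, hz'⟩
        obtain ⟨u, hu, rfl⟩ := Usurj a
        have hu' := (D.π_core u (hUd u hu)).1 ha
        exact ⟨u, ⟨⟨hu', (fx_mem hu' hc hdy).2 hz'⟩, hu⟩, rfl⟩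
    have hd' : ∀ a ∈ fx z d y, d * a ∈ fx z d y := fun a ha =>
      ⟨mul_mem T.d_mem ha.1, by rw [dcomm ha.1 hc hdy]; exact ha.2⟩
    have hdd : ∀ {a : G}, a ∈ coreAt z → d * (d * a) = a := fun {a} ha => by rw [← mul_assoc, T.d2, one_mul]
    have hset : fx z d y = (fx z d y ∩ (U : Set G)) ∪ (fun a => d * a) '' (fx z d y ∩ (U : Set G)) := by
      ext a
      constructor
      · intro ha
        rcases hcov a (T.d_central a ha.1) with h' | h'
        · exact Or.inl ⟨ha, h'⟩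
        · exact Or.inr ⟨d * a, ⟨hd' a ha, h'⟩, hdd ha.1⟩
      · rintro (ha | ⟨b, hb, rfl⟩)
        exacts [ha.1, hd' b hb.1]
    have hdis : Disjoint (fx z d y ∩ (U : Set G)) ((fun a => d * a) '' (fx z d y ∩ (U : Set G))) := by
      rw [Set.disjoint_left]
      rintro _ ⟨-, ha⟩ ⟨b, ⟨-, hb⟩, rfl⟩
      exact hdU ((U.mul_mem_cancel_right hb).1 ha)
    rw [hset, Set.ncard_union_eq hdis, Set.ncard_image_of_injective _ (mul_right_injective d),
      ← Set.InjOn.ncard_image (f := D.π) (fun a ha b hb e => Uinj a ha.2 b hb.2 e), himg, h128]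
  -- the members over the points
  have lift_pt : ∀ p, ∃ y, y ∈ Cls z d ∧ Commute z y ∧ y ≠ z ∧ Φ.ptF x (D.π y) = p := fun p => by
    obtain ⟨e, he, hp⟩ := Φ.exists_lift hnwc hxD p
    obtain ⟨y, hy, rfl⟩ := clsLift e he.1
    exact ⟨y, hy, (D.π_comm y (cls_d hy)).1 he.2.2, fun e' => he.2.1 (congrArg D.π e'), Φ.ptF_of hxD he hp⟩
  choose lf hlf hlfc hlfne hlfp using lift_pt
  have htv : ∀ p, ∃ r, C.lin (lf p) = tvA r := fun p =>
    Coord.exists_tv T C (hlfc p) (cls_d (hlf p)) (by rw [Cls.sq T (hlf p)]; exact one_mem _)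
      (fx256 (hlf p) (hlfc p) (hlfne p))
  choose tf htf using htv
  have πdiv : ∀ {g y : G}, Commute d g → Commute d y → D.π (g⁻¹ * y) = (D.π g)⁻¹ * D.π y := fun hg hy => by
    rw [D.π_mul _ _ hg.inv_right hy, D.π_inv hg]
  have tf_surj : Function.Surjective tf := Finite.injective_iff_surjective.1 fun p q e => by
    have hm := (Coord.lin_div T C (hlfc p) (cls_d (hlf p)) (hlfc q) (cls_d (hlf q))).2 (by rw [htf, htf, e])
    have hm' := D.core_map T hm
    rw [πdiv (cls_d (hlf p)) (cls_d (hlf q))] at hm'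
    rw [← hlfp p, ← hlfp q]
    exact (ptF_eq_iff Φ hxD (nbr_of (hlf p) (hlfc p) (hlfne p)) (nbr_of (hlf q) (hlfc q) (hlfne q))).2 hm'
  have hside : ∀ g, Commute z g → Commute d g → g * g ∈ coreAt z → g ∉ coreAt z → (fx z d g).ncard = 256 →
      (Side z d g).ncard = 4 := by
    intro g hg hgd hg2 hgJ h256
    obtain ⟨r, hr⟩ := Coord.exists_tv T C hg hgd hg2 h256
    obtain ⟨p, hp⟩ := tf_surj r
    have hm : g⁻¹ * lf p ∈ coreAt z :=
      (Coord.lin_div T C hg hgd (hlfc p) (cls_d (hlf p))).2 (by rw [hr, htf, hp])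
    have he0 := nbr_of (hlf p) (hlfc p) (hlfne p)
    have hsub : Side z d g ⊆ (U : Set G) := fun y hy => clsU (Side.mem_cls hy)
    rw [← Φ.fibre_ncard hnwc hxD p, ← Set.InjOn.ncard_image (f := D.π) (s := Side z d g)
      (fun a ha b hb e => Uinj a (hsub ha) b (hsub hb) e)]
    congr 1
    ext e
    constructor
    · rintro ⟨y, hy, rfl⟩
      have hyc := Side.mem_cls hy
      obtain ⟨-, -, -, hzy, hj⟩ := hy
      have hne : y ≠ z := fun e => hgJ (inv_mem_iff.1 (((coreAt z).mul_mem_cancel_right T.z_mem).1 (e ▸ hj)))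
      refine ⟨nbr_of hyc hzy hne, ?_⟩
      rw [← hlfp p]
      refine ((ptF_eq_iff Φ hxD he0 (nbr_of hyc hzy hne)).2 ?_).symm
      rw [← πdiv (cls_d (hlf p)) (cls_d hyc)]
      refine D.core_map T ?_
      have h' := mul_mem (inv_mem hm) hj
      rwa [mul_inv_rev, inv_inv, mul_assoc, mul_inv_cancel_left] at h'
    · rintro ⟨he, hpe⟩
      obtain ⟨y, hy, rfl⟩ := clsLift e he.1
      have hzy := (D.π_comm y (cls_d hy)).1 he.2.2
      obtain ⟨k, hk, ek⟩ := id hy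
      refine ⟨y, ⟨k, hk, ek, hzy, ?_⟩, rfl⟩
      have h' := (ptF_eq_iff Φ hxD he0 he).1 ((hlfp p).trans hpe.symm)
      rw [← πdiv (cls_d (hlf p)) (cls_d hy), D.π_core _ ((cls_d (hlf p)).inv_right.mul_right (cls_d hy))] at h'
      have h'' := mul_mem hm h'
      rwa [mul_assoc, mul_inv_cancel_left] at h''
  -- five members
  have prodπ : ∀ L : Fin 5 → G, (∀ i, L i ∈ Cls z d) →
      D.π (L 0 * L 1 * L 2 * L 3 * L 4) = D.π (L 0) * D.π (L 1) * D.π (L 2) * D.π (L 3) * D.π (L 4) := fun L hL => by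
    have hc := fun i => cls_d (hL i)
    rw [D.π_mul _ _ ((((hc 0).mul_right (hc 1)).mul_right (hc 2)).mul_right (hc 3)) (hc 4),
      D.π_mul _ _ (((hc 0).mul_right (hc 1)).mul_right (hc 2)) (hc 3), D.π_mul _ _ ((hc 0).mul_right (hc 1)) (hc 2),
      D.π_mul _ _ (hc 0) (hc 1)]
  have five_down : ∀ L : Fin 5 → G, IsFive (Cls z d) L 1 → IsFive Φ.D (fun i => D.π (L i)) 1 := fun L hL =>
    ⟨fun i => clsD (hL.mem i), fun i j => (commU (clsU (hL.mem i)) (clsU (hL.mem j))).2 (hL.comm i j),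
      fun i j e => hL.inj (Uinj _ (clsU (hL.mem i)) _ (clsU (hL.mem j)) e), by
      rw [← prodπ L hL.mem, hL.prod, D.π_one]⟩
  refine ⟨⟨U, hdU, fun y hy => clsU hy, fun y hy y' hy' => ?_, hside,
    fun y hy hc hne => ⟨core_of hy hc hne, fx256 hy hc hne⟩, ?_, fun L L' hL hL' e0 e1 i => ?_⟩⟩
  · rcases class_tri Φ hnwc (clsD hy) (clsD hy') with h' | h'
    · exact Or.inl ((commU (clsU hy) (clsU hy')).1 h')
    · refine Or.inr (Uinj _ (pow_mem (mul_mem (clsU hy) (clsU hy')) 3) _ (one_mem U) ?_)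
      rw [π_pow _ (mul_mem (clsU hy) (clsU hy')), D.π_mul _ _ (cls_d hy) (cls_d hy'), D.π_one, h']
  · obtain ⟨M, hM, hMn, hMJ⟩ := class_base Φ hnwc hxD
    choose L hLc hLπ using fun i => clsLift (M i) (hM.mem i)
    have hLU := fun i => clsU (hLc i)
    refine ⟨L, ⟨hLc, fun i j => (commU (hLU i) (hLU j)).1 (by rw [hLπ, hLπ]; exact hM.comm i j),
      fun i j e => hM.inj (by rw [← hLπ, ← hLπ, e]), ?_⟩, fun i => ⟨?_, fun e => ?_⟩, fun i j hij hm => ?_⟩
    · refine Uinj _ (mul_mem (mul_mem (mul_mem (mul_mem (hLU 0) (hLU 1)) (hLU 2)) (hLU 3)) (hLU 4)) _ (one_mem U) ?_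
      rw [prodπ L hLc, hLπ, hLπ, hLπ, hLπ, hLπ, hM.prod, D.π_one]
    · exact (D.π_comm _ (cls_d (hLc i))).1 (hLπ i ▸ (hMn i).2.2)
    · exact (hMn i).2.1 (by rw [← hLπ i, e])
    · refine hMJ i j hij ?_
      rw [← hLπ i, ← hLπ j, ← πdiv (cls_d (hLc i)) (cls_d (hLc j))]
      exact D.core_map T hm
  · obtain ⟨j, hj⟩ := class_uniq Φ hnwc _ _ (five_down L hL) (five_down L' hL') (congrArg D.π e0) (congrArg D.π e1) i
    exact ⟨j, Uinj _ (clsU (hL'.mem i)) _ (clsU (hL.mem j)) hj⟩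

end Cfsg.Agent.Fi22Two
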