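import Cfsg.Agent.Lib.Fi22Two.Start
import Cfsg.Agent.Lib.Fi22Two.Coord
import Cfsg.Agent.Lib.Qd.Basic

/-!
The centraliser of `a` modulo `a`: the image of `z` has the image of the core as the 2-core of its centraliser.
-/

set_option autoImplicit false
set_option linter.style.haveILetI false
set_option linter.unusedSectionVars false

namespace Cfsg.Agent.Fi22Two

open Subgroup LargeExtra
open scoped commutatorElement

universe u

variable {G : Type u} [Group G] [Finite G] {z a : G}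

/-- The centraliser of `a` modulo `a`. -/
abbrev Quo (a : G) [((zpowers a).subgroupOf (centralizer ({a} : Set G))).Normal] : Type u :=
  ↥(centralizer ({a} : Set G)) ⧸ (zpowers a).subgroupOf (centralizer ({a} : Set G))

/-- An element of order two is normal in its centraliser. -/
theorem zpowers_normal (a : G) : ((zpowers a).subgroupOf (centralizer ({a} : Set G))).Normal := by
  refine ⟨fun b hb c => mem_subgroupOf.2 ?_⟩
  obtain ⟨k, hk⟩ := mem_zpowers_iff.1 (mem_subgroupOf.1 hb)
  have hc : Commute (c : G) a := mem_centralizer_one.1 c.2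
  show (c : G) * (b : G) * (c : G)⁻¹ ∈ zpowers a
  rw [← hk, (hc.zpow_right k).eq, mul_inv_cancel_right]
  exact zpow_mem (mem_zpowers a) k

theorem zpowers_cases {a b : G} (h2 : a * a = 1) (hb : b ∈ zpowers a) : b = 1 ∨ b = a := by
  obtain ⟨k, rfl⟩ := mem_zpowers_iff.1 hb
  rcases Int.even_or_odd' k with ⟨m, rfl | rfl⟩
  · left; rw [zpow_mul, zpow_two, h2, one_zpow]
  · right; rw [zpow_add_one, zpow_mul, zpow_two, h2, one_zpow, one_mul]

namespace Core

variable (K : Core z a) [((zpowers a).subgroupOf (centralizer ({a} : Set G))).Normal]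

/-- The map to the quotient. -/
noncomputable def proj (_K : Core z a) (g : G) : Quo a := by
  classical exact if h : g ∈ centralizer ({a} : Set G) then QuotientGroup.mk ⟨g, h⟩ else 1

theorem proj_eq {g : G} (h : Commute a g) :
    K.proj g = QuotientGroup.mk ⟨g, mem_centralizer_one.2 h.eq.symm⟩ := by
  rw [proj, dif_pos]

theorem proj_mul {g h : G} (hg : Commute a g) (hh : Commute a h) : K.proj (g * h) = K.proj g * K.proj h := by
  rw [K.proj_eq hg, K.proj_eq hh, K.proj_eq (hg.mul_right hh), ← QuotientGroup.mk_mul]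
  rfl

theorem proj_surj (x : Quo a) : ∃ g, Commute a g ∧ K.proj g = x := by
  obtain ⟨g, rfl⟩ := QuotientGroup.mk_surjective x
  exact ⟨g, (mem_centralizer_one.1 g.2).symm, K.proj_eq (mem_centralizer_one.1 g.2).symm⟩

theorem proj_iff {g h : G} (hg : Commute a g) (hh : Commute a h) :
    K.proj g = K.proj h ↔ h = g ∨ h = g * a := by
  rw [K.proj_eq hg, K.proj_eq hh, QuotientGroup.eq, mem_subgroupOf]
  show g⁻¹ * h ∈ zpowers a ↔ _
  refine ⟨fun hm => ?_, ?_⟩
  · rcases zpowers_cases K.a2 hm with e | e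
    · exact Or.inl (inv_mul_eq_one.1 e).symm
    · exact Or.inr (inv_mul_eq_iff_eq_mul.1 e)
  · rintro (rfl | rfl)
    · rw [inv_mul_cancel]; exact one_mem _
    · rw [inv_mul_cancel_left]; exact mem_zpowers a

theorem proj_one : K.proj 1 = 1 := by
  rw [K.proj_eq (Commute.one_right a)]
  rfl

theorem proj_inv {g : G} (hg : Commute a g) : K.proj g⁻¹ = (K.proj g)⁻¹ := by
  refine eq_inv_of_mul_eq_one_right ?_
  rw [← K.proj_mul hg hg.inv_right, mul_inv_cancel, K.proj_one]

theorem proj_comm {g : G} (hg : Commute a g) : Commute (K.proj z) (K.proj g) ↔ Commute z g := by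
  refine ⟨fun h => ?_, fun h => ?_⟩
  · have hza : Commute a z := K.za.symm
    have e : K.proj (z * g) = K.proj (g * z) := by rw [K.proj_mul hza hg, K.proj_mul hg hza]; exact h
    rcases (K.proj_iff (hza.mul_right hg) (hg.mul_right hza)).1 e with e' | e'
    · exact e'.symm
    · exfalso
      refine (K.class_ne g).2 ?_
      rw [e', mul_assoc z g a, ← hg.eq, ← mul_assoc, mul_inv_cancel_right, K.za.eq]
  · show K.proj z * K.proj g = K.proj g * K.proj z
    rw [← K.proj_mul K.za.symm hg, ← K.proj_mul hg K.za.symm, h.eq]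

/-- The subgroup of elements of `C(a)` with image in a subgroup. -/
noncomputable def pre (Q : Subgroup (Quo a)) : Subgroup G where
  carrier := {g | Commute a g ∧ K.proj g ∈ Q}
  one_mem' := ⟨Commute.one_right a, by rw [K.proj_one]; exact one_mem _⟩
  mul_mem' := fun {g h} hg hh => ⟨hg.1.mul_right hh.1, by rw [K.proj_mul hg.1 hh.1]; exact mul_mem hg.2 hh.2⟩
  inv_mem' := fun {g} hg => ⟨hg.1.inv_right, by rw [K.proj_inv hg.1]; exact inv_mem hg.2⟩

theorem proj_pow {g : G} (hg : Commute a g) (n : ℕ) : K.proj (g ^ n) = K.proj g ^ n := by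
  induction n with
  | zero => rw [pow_zero, pow_zero, K.proj_one]
  | succ n ih => rw [pow_succ, pow_succ, K.proj_mul (hg.pow_right n) hg, ih]

/-- The image of a subgroup of `C(a)`. -/
noncomputable def img (L : Subgroup G) (hL : ∀ g ∈ L, Commute a g) : Subgroup (Quo a) where
  carrier := K.proj '' (L : Set G)
  one_mem' := ⟨1, one_mem L, K.proj_one⟩
  mul_mem' := by
    rintro _ _ ⟨g, hg, rfl⟩ ⟨h, hh, rfl⟩
    exact ⟨g * h, mul_mem hg hh, K.proj_mul (hL g hg) (hL h hh)⟩
  inv_mem' := by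
    rintro _ ⟨g, hg, rfl⟩
    exact ⟨g⁻¹, inv_mem hg, K.proj_inv (hL g hg)⟩

theorem coreAt_proj : coreAt (K.proj z) = K.img (coreAt z) K.a_central := by
  set Q := coreAt (K.proj z) with hQ
  refine le_antisymm (fun x hx => ?_) ?_
  · obtain ⟨g, hg, rfl⟩ := K.proj_surj x
    refine ⟨g, ?_, rfl⟩
    have hle : K.pre Q ≤ K.pair := fun h hh => K.mem_pair.2
      ⟨(K.proj_comm hh.1).1 (mem_centralizer_one.1 (coreAt_le _ hh.2)).symm, hh.1⟩
    have h2 : IsPGroup 2 (K.pre Q) := fun h => by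
      obtain ⟨n, hn⟩ := coreAt_isPGroup (K.proj z) ⟨_, h.2.2⟩
      refine ⟨n + 1, Subtype.ext ?_⟩
      have hn' := congrArg Subtype.val hn
      rw [SubmonoidClass.coe_pow, OneMemClass.coe_one] at hn' ⊢
      change K.proj (h : G) ^ 2 ^ n = 1 at hn'
      rw [← K.proj_pow h.2.1, ← K.proj_one] at hn'
      rw [pow_succ, pow_mul]
      rcases (K.proj_iff (h.2.1.pow_right _) (Commute.one_right a)).1 hn' with e | e
      · rw [← e, one_pow]
      · have e' : (h : G) ^ 2 ^ n = a := by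
          rw [eq_comm, mul_eq_one_iff_eq_inv, inv_eq_of_mul_eq_one_right K.a2] at e
          exact e
        rw [e', pow_two, K.a2]
    refine K.core_pair h2 hle (fun k hk n hn => ?_) ⟨hg, hx⟩
    obtain ⟨hk1, hk2⟩ := K.mem_pair.1 hk
    refine ⟨(hk2.mul_right hn.1).mul_right hk2.inv_right, ?_⟩
    rw [K.proj_mul (hk2.mul_right hn.1) hk2.inv_right, K.proj_mul hk2 hn.1, K.proj_inv hk2]
    exact LargeExtra.conj_mem (coreAt_normal _ (mem_centralizer_one.2 ((K.proj_comm hk2).2 hk1).eq.symm)) hn.2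
  · refine le_coreAt (fun x => ?_) ?_ ?_
    · obtain ⟨g, hg, e⟩ := x.2
      obtain ⟨n, hn⟩ := coreAt_isPGroup z ⟨g, hg⟩
      refine ⟨n, Subtype.ext ?_⟩
      have hn' := congrArg Subtype.val hn
      rw [SubmonoidClass.coe_pow, OneMemClass.coe_one] at hn' ⊢
      rw [← e, ← K.proj_pow (K.a_central g hg), show g ^ 2 ^ n = 1 from hn', K.proj_one]
    · rintro _ ⟨g, hg, rfl⟩
      exact mem_centralizer_one.2
        ((K.proj_comm (K.a_central g hg)).2 (mem_centralizer_one.1 (coreAt_le z hg)).symm).eq.symm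
    · intro x hx
      obtain ⟨k, hk, rfl⟩ := K.proj_surj x
      have hzk : Commute z k := (K.proj_comm hk).1 (mem_centralizer_one.1 hx).symm
      have key : ∀ {k : G}, Commute a k → Commute z k → ∀ y ∈ K.img (coreAt z) K.a_central,
          K.proj k * y * (K.proj k)⁻¹ ∈ K.img (coreAt z) K.a_central := by
        rintro k hk hzk _ ⟨g, hg, rfl⟩
        refine ⟨k * g * k⁻¹, LargeExtra.conj_mem (coreAt_normal z (mem_centralizer_one.2 hzk.eq.symm)) hg, ?_⟩
        rw [K.proj_mul (hk.mul_right (K.a_central g hg)) hk.inv_right, K.proj_mul hk (K.a_central g hg), K.proj_inv hk]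
      refine mem_normalizer_iff.2 fun y => ⟨key hk hzk y, fun hy => ?_⟩
      have := key hk.inv_right hzk.inv_right _ hy
      rwa [K.proj_inv hk, inv_inv, show (K.proj k)⁻¹ * (K.proj k * y * (K.proj k)⁻¹) * K.proj k = y by group] at this

/-- The passage to the quotient. -/
noncomputable def down : Down z a (Quo a) where
  π := K.proj
  π_mul _ _ := K.proj_mul
  π_surj := K.proj_surj
  π_eq _ _ := K.proj_iff
  π_comm _ := K.proj_comm
  π_core g hg := by
    rw [K.coreAt_proj]
    refine ⟨?_, fun h => ⟨g, h, rfl⟩⟩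
    rintro ⟨b, hb, e⟩
    rcases (K.proj_iff (K.a_central b hb) hg).1 e with rfl | rfl
    exacts [hb, mul_mem hb K.a_mem]

theorem order_proj : orderOf (K.proj z) = 2 := by
  refine orderOf_eq_prime (by rw [pow_two, ← K.proj_mul K.za.symm K.za.symm, K.z2, K.proj_one]) fun h => ?_
  rw [← K.proj_one, K.proj_iff K.za.symm (Commute.one_right a)] at h
  rcases h with e | e
  · exact K.z_ne e.symm
  · rw [eq_comm, mul_eq_one_iff_eq_inv, inv_eq_of_mul_eq_one_right K.a2] at e
    exact K.a_ne_z e.symm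

theorem self_proj : centralizer ((Cfsg.pCore 2 ↥(centralizer ({K.proj z} : Set (Quo a)))) :
    Set ↥(centralizer ({K.proj z} : Set (Quo a)))) ≤ Cfsg.pCore 2 ↥(centralizer ({K.proj z} : Set (Quo a))) := by
  intro x hx
  obtain ⟨g, hg, e⟩ := K.proj_surj (x : Quo a)
  have hzg : Commute z g := (K.proj_comm hg).1 (e ▸ (mem_centralizer_one.1 x.2).symm)
  have hgJ : g ∈ coreAt z := by
    refine K.two.faithful hzg fun b hb => ?_
    have hbQ : K.proj b ∈ coreAt (K.proj z) := by rw [K.coreAt_proj]; exact ⟨b, hb, rfl⟩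
    obtain ⟨q, hq, hqe⟩ := hbQ
    have hc : Commute (K.proj g) (K.proj b) := by
      have h := congrArg Subtype.val (mem_centralizer_iff.1 hx q hq)
      change (q : Quo a) * x = x * q at h
      rw [← e, show (q : Quo a) = K.proj b from hqe] at h
      exact h.symm
    have hb' := K.a_central b hb
    rcases (K.proj_iff (hb'.mul_right hg) (hg.mul_right hb')).1
      (by rw [K.proj_mul hb' hg, K.proj_mul hg hb']; exact hc.symm) with e' | e'
    · rw [commutatorElement_eq_one_iff_commute.2 e']; exact K.two.one_mem_Zc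
    · rw [commutatorElement_def, e', show b * g * a * g⁻¹ * b⁻¹ = b * (g * a * g⁻¹) * b⁻¹ by group,
        conj_of_comm hg.symm, conj_of_comm hb'.symm]
      simp [Zc]
  have hxQ : (x : Quo a) ∈ coreAt (K.proj z) := by rw [K.coreAt_proj]; exact ⟨g, hgJ, e⟩
  obtain ⟨q, hq, hqe⟩ := hxQ
  exact (Subtype.ext hqe : q = x) ▸ hq

theorem extra_proj {E : Subgroup G} (hE : Cfsg.IsExtraspecial 2 ↥E) (hEc : Nat.card E = 512) (hle : E ≤ coreAt z)
    (haE : a ∉ E) :
    Cfsg.IsExtraspecial 2 ↥(Cfsg.pCore 2 ↥(centralizer ({K.proj z} : Set (Quo a)))) ∧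
      Nat.card ↥(Cfsg.pCore 2 ↥(centralizer ({K.proj z} : Set (Quo a)))) = 2 ^ 9 := by
  have hEa : ∀ g ∈ E, Commute a g := fun g hg => K.a_central g (hle hg)
  let f : ↥E →* ↥(coreAt (K.proj z)) :=
    MonoidHom.mk' (fun g => ⟨K.proj g, by rw [K.coreAt_proj]; exact ⟨g, hle g.2, rfl⟩⟩)
      fun g h => Subtype.ext (K.proj_mul (hEa g g.2) (hEa h h.2))
  have hinj : Function.Injective f := fun g h e => by
    rcases (K.proj_iff (hEa g g.2) (hEa h h.2)).1 (congrArg Subtype.val e) with e' | e'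
    · exact Subtype.ext e'.symm
    · exact absurd (by have := mul_mem (inv_mem g.2) h.2; rwa [e', inv_mul_cancel_left] at this) haE
  have hsurj : Function.Surjective f := by
    intro x
    have hx : (x : Quo a) ∈ K.img (coreAt z) K.a_central := K.coreAt_proj ▸ x.2
    obtain ⟨b, hb, e⟩ := hx
    have hcov : (E : Set G) ∪ (fun g => g * a) '' (E : Set G) = (coreAt z : Set G) := by
      refine Set.eq_of_subset_of_ncard_le ?_ ?_ (Set.toFinite _)
      · rintro _ (hg | ⟨g, hg, rfl⟩)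
        exacts [hle hg, mul_mem (hle hg) K.a_mem]
      · rw [Set.ncard_union_eq, Set.ncard_image_of_injective _ (mul_left_injective a), ← Nat.card_coe_set_eq,
          ← Nat.card_coe_set_eq]
        · simp only [SetLike.coe_sort_coe]
          rw [hEc, K.card]
        · rw [Set.disjoint_left]
          rintro _ hg ⟨g', hg', rfl⟩
          exact haE ((E.mul_mem_cancel_left hg').1 hg)
    rcases (hcov ▸ hb : b ∈ (E : Set G) ∪ (fun g => g * a) '' (E : Set G)) with hg | ⟨g, hg, rfl⟩
    · exact ⟨⟨b, hg⟩, Subtype.ext e⟩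
    · refine ⟨⟨g, hg⟩, Subtype.ext ?_⟩
      rw [← e]
      exact (K.proj_iff (hEa g hg) ((hEa g hg).mul_right (Commute.refl a))).2 (Or.inr rfl)
  let eq : ↥(Cfsg.pCore 2 ↥(centralizer ({K.proj z} : Set (Quo a)))) ≃* ↥(coreAt (K.proj z)) :=
    equivMapOfInjective _ _ (centralizer ({K.proj z} : Set (Quo a))).subtype_injective
  let φ : ↥E ≃* ↥(Cfsg.pCore 2 ↥(centralizer ({K.proj z} : Set (Quo a)))) :=
    (MulEquiv.ofBijective f ⟨hinj, hsurj⟩).trans eq.symm
  exact ⟨Qd.isExtraspecial_congr φ.symm hE, by rw [← Nat.card_congr φ.toEquiv, hEc]; norm_num⟩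

/-- The quotient of the centraliser of the image. -/
theorem quot_proj {M : Type*} [Group M] (φ : ↥K.pair →* M) (hs : Function.Surjective φ)
    (hk : ∀ g : ↥K.pair, φ g = 1 ↔ (g : G) ∈ coreAt z) :
    Nonempty ((↥(centralizer ({K.proj z} : Set (Quo a))) ⧸
      Cfsg.pCore 2 ↥(centralizer ({K.proj z} : Set (Quo a)))) ≃* M) := by
  set C := centralizer ({K.proj z} : Set (Quo a)) with hC
  haveI : (Cfsg.pCore 2 ↥C).Normal := FiniteGroup.pCore_normal 2
  have hpre : ∀ x : ↥C, ∃ g : ↥K.pair, K.proj g = (x : Quo a) := fun x => by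
    obtain ⟨g, hg, e⟩ := K.proj_surj (x : Quo a)
    exact ⟨⟨g, K.mem_pair.2 ⟨(K.proj_comm hg).1 (e ▸ (mem_centralizer_one.1 x.2).symm), hg⟩⟩, e⟩
  choose sec hsec using hpre
  have hwd : ∀ g h : ↥K.pair, K.proj g = K.proj h → φ g = φ h := by
    intro g h e
    rcases (K.proj_iff (K.mem_pair.1 g.2).2 (K.mem_pair.1 h.2).2).1 e with e' | e'
    · rw [(Subtype.ext e' : h = g)]
    · have hm : φ (g⁻¹ * h) = 1 := (hk _).2 (by
        show (g : G)⁻¹ * (h : G) ∈ coreAt z
        rw [e', inv_mul_cancel_left]; exact K.a_mem)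
      rw [map_mul, map_inv] at hm
      exact inv_mul_eq_one.1 hm
  let ψ : ↥C →* M := MonoidHom.mk' (fun x => φ (sec x)) fun x y => by
    rw [← map_mul]
    refine hwd _ _ ?_
    rw [hsec, Subgroup.coe_mul, Subgroup.coe_mul, K.proj_mul (K.mem_pair.1 (sec x).2).2 (K.mem_pair.1 (sec y).2).2, hsec, hsec]
  have hψ : ψ.ker = Cfsg.pCore 2 ↥C := by
    ext x
    rw [MonoidHom.mem_ker]
    show φ (sec x) = 1 ↔ _
    rw [hk, ← K.down.π_core _ (K.mem_pair.1 (sec x).2).2]
    show K.proj (sec x) ∈ coreAt (K.proj z) ↔ _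
    rw [hsec]
    exact ⟨fun ⟨q, hq, e⟩ => (Subtype.ext e : q = x) ▸ hq, fun h => ⟨x, h, rfl⟩⟩
  refine ⟨(QuotientGroup.quotientMulEquivOfEq hψ.symm).trans (QuotientGroup.quotientKerEquivOfSurjective ψ ?_)⟩
  intro m
  obtain ⟨g, rfl⟩ := hs m
  obtain ⟨hgz, hga⟩ := K.mem_pair.1 g.2
  exact ⟨⟨K.proj g, mem_centralizer_one.2 ((K.proj_comm hga).2 hgz).eq.symm⟩, hwd _ _ (hsec _)⟩

end Core

end Cfsg.Agent.Fi22Two
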