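import Cfsg.Agent.Lib.Fi22Two.InstCoord
import Cfsg.Agent.Lib.Fi22Two.Planar
import Cfsg.Agent.Lib.Fi22Two.Quot

/-!
The facts in the case of a fixed plane from the corresponding facts in the centraliser of `d` modulo `d`.
-/

set_option autoImplicit false
set_option linter.style.haveILetI false
set_option linter.unusedSectionVars false

namespace Cfsg.Agent.Fi22Two

open Subgroup LargeExtra
open scoped commutatorElement

universe u

variable {G : Type u} [Group G] [Finite G] {z d : G} {X : Type u} [Group X]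

/-- The facts in the case of a fixed plane, one level down. -/
structure PlaneData (y : X) where
  /-- The elements inducing inner automorphisms. -/
  I : Subgroup X
  I_cen : ∀ x ∈ I, Commute y x
  I_core : coreAt y ≤ I
  I_mul : ∀ x x', Commute y x → Commute y x' → x ∉ I → x' ∉ I → x * x' ∈ I
  I_gen : I ≤ ⁅I, I⁆ ⊔ coreAt y
  /-- The preimage of the plane. -/
  W : Subgroup X
  W_le : W ≤ coreAt y
  W_iff : ∀ t ∈ coreAt y, t ∈ W ↔ ∀ x ∈ I, ⁅x, t⁆ ∈ zpowers y
  W_comm : ∀ a ∈ W, ∀ b ∈ W, a ∉ zpowers y → b ∉ zpowers y → a * b ∉ zpowers y → ⁅a, b⁆ = y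
  W_big : ∃ a ∈ W, ∃ b ∈ W, a ∉ zpowers y ∧ b ∉ zpowers y ∧ a * b ∉ zpowers y
  /-- A large part of what an inner element centralises modulo `y` in the orthogonal of the plane
  contains an element of square `y`. -/
  perp_sub : ∀ x ∈ I, ∀ K : Subgroup X, K ≤ coreAt y → y ∈ K →
    (∀ u ∈ coreAt y, (∀ t ∈ W, Commute t u) → ⁅x, u⁆ ∈ K) →
    (∀ a ∈ coreAt y, ∀ b ∈ coreAt y, (∀ t ∈ W, Commute t a) → (∀ t ∈ W, Commute t b) →
      ⁅x, a⁆ ∈ zpowers y → ⁅x, b⁆ ∈ zpowers y → a ∉ K → b ∉ K → a * b ∈ K) →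
    (∀ a ∈ K, ∀ t ∈ W, Commute t a) → ∃ a ∈ K, a * a = y
  five : ∀ a ∈ coreAt y, a ∉ W → a * a = 1 → (∀ t ∈ W, Commute t a) →
    ∃ x, Commute y x ∧ x ∉ coreAt y ∧ x ^ 5 ∈ coreAt y ∧ ⁅x, a⁆ ∈ zpowers y
  five_triv : ∀ a ∈ coreAt y, a ∉ W → a * a = 1 → (∀ t ∈ W, Commute t a) →
    ∀ r, Commute y r → Commute a r → r ^ 5 = 1 → r ≠ 1 →
    ∀ e, Commute y e → Commute r e → Commute a e → e ^ 4 = 1 → e ∈ coreAt y

/-- Conjugation by the centraliser of `z` preserves the centre of the core. -/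
theorem Two.Zc_norm (T : Two z d) {k ζ : G} (hk : Commute z k) (hζ : ζ ∈ Zc z d) : k * ζ * k⁻¹ ∈ Zc z d := by
  have := mem_Zc_conj (g := k) hζ
  rw [conj_of_comm hk.symm] at this
  rcases T.swap k hk with e | e <;> rw [e] at this
  · exact this
  · rcases mem_Zc.1 this with h | h | h | h <;> rw [h]
    exacts [T.one_mem_Zc, T.z_mem_Zc, T.Zc_mul (by simp [Zc]) T.z_mem_Zc,
      by rw [mul_assoc, T.z2, mul_one]; simp [Zc]]

/-- The centraliser of `z` normalises that of `z` and `d`. -/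
theorem Two.conj_comm_d (T : Two z d) {h a : G} (hh : Commute z h) (haz : Commute z a) (had : Commute d a) :
    Commute d (h * a * h⁻¹) := by
  refine comm_conj_fwd (g := h) (a := h⁻¹ * d * h) (by
    rw [show h⁻¹ * (h * a * h⁻¹) * h = a by group]
    rcases T.swap h⁻¹ hh.inv_right with e | e <;> rw [inv_inv] at e <;> rw [e]
    exacts [had, had.mul_left haz]) |> (fun h' => ?_)
  rwa [show h * (h⁻¹ * d * h) * h⁻¹ = d by group] at h'

namespace Down

variable [Finite X] (D : Down z d X) (T : Two z d)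

include D

theorem π_bracket {g a : G} (hg : Commute d g) (ha : Commute d a) : D.π ⁅g, a⁆ = ⁅D.π g, D.π a⁆ := by
  rw [commutatorElement_def, commutatorElement_def, D.π_mul _ _ ((hg.mul_right ha).mul_right hg.inv_right) ha.inv_right,
    D.π_mul _ _ (hg.mul_right ha) hg.inv_right, D.π_mul g a hg ha, D.π_inv hg, D.π_inv ha]

theorem π_pow {g : G} (hg : Commute d g) (n : ℕ) : D.π (g ^ n) = D.π g ^ n := by
  induction n with
  | zero => rw [pow_zero, pow_zero, D.π_one]
  | succ n ih => rw [pow_succ, pow_succ, D.π_mul _ _ (hg.pow_right n) hg, ih]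

include T

theorem π_z2 : D.π z * D.π z = 1 := by
  rw [← D.π_mul z z (T.zd.symm) (T.zd.symm), T.z2, D.π_one]

theorem mem_Zc_iff {c : G} (hc : c ∈ coreAt z) : D.π c ∈ zpowers (D.π z) ↔ c ∈ Zc z d := by
  have h := D.fibre_iff T (one_mem (coreAt z)) hc
  rw [D.π_one, one_mul, inv_one, one_mul] at h
  rw [← h]
  refine ⟨fun hm => zpowers_cases (D.π_z2 T) hm, ?_⟩
  rintro (e | e) <;> rw [e]
  exacts [one_mem _, mem_zpowers _]

theorem π_z_ne : D.π z ≠ 1 := fun h => by
  rw [← D.π_one, D.π_eq z 1 T.zd.symm (Commute.one_right d)] at h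
  rcases h with h | h
  · exact T.z_ne h.symm
  · exact T.dz_ne_one (by rw [← T.zd.eq]; exact h.symm)

theorem bracket_iff {a b : G} (ha : a ∈ coreAt z) (hb : b ∈ coreAt z) :
    Commute a b ↔ Commute (D.π a) (D.π b) := by
  rw [← commutatorElement_eq_one_iff_commute, ← commutatorElement_eq_one_iff_commute,
    ← D.π_bracket (T.d_central a ha) (T.d_central b hb)]
  rcases T.comm a ha b hb with e | e <;> rw [e]
  · simp [D.π_one]
  · simp [D.π_z_ne T, T.z_ne]

/-- The facts in the case of a fixed plane. -/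
theorem plane (P : PlaneData (D.π z)) :
    ∃ Q : Plane z d, ∀ g, g ∈ Q.inn ↔ Commute z g ∧ Commute d g ∧ D.π g ∈ P.I := by
  let inn : Subgroup G :=
    { carrier := {g | Commute z g ∧ Commute d g ∧ D.π g ∈ P.I}
      one_mem' := ⟨Commute.one_right z, Commute.one_right d, by rw [D.π_one]; exact one_mem _⟩
      mul_mem' := fun {g h} hg hh => ⟨hg.1.mul_right hh.1, hg.2.1.mul_right hh.2.1,
        by rw [D.π_mul g h hg.2.1 hh.2.1]; exact mul_mem hg.2.2 hh.2.2⟩
      inv_mem' := fun {g} hg => ⟨hg.1.inv_right, hg.2.1.inv_right,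
        by rw [D.π_inv hg.2.1]; exact inv_mem hg.2.2⟩ }
  have hinn : ∀ g, g ∈ inn ↔ Commute z g ∧ Commute d g ∧ D.π g ∈ P.I := fun _ => Iff.rfl
  have hJinn : ∀ a ∈ coreAt z, a ∈ inn := fun a ha =>
    ⟨T.comm_z ha, T.d_central a ha, P.I_core (D.core_map T ha)⟩
  have hmul : ∀ g h, Commute z g → Commute d g → Commute z h → Commute d h → g ∉ inn → h ∉ inn → g * h ∈ inn :=
    fun g h hg hgd hh hhd hgn hhn => ⟨hg.mul_right hh, hgd.mul_right hhd, by
      rw [D.π_mul g h hgd hhd]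
      exact P.I_mul _ _ (D.comm_π hg hgd) (D.comm_π hh hhd) (fun hm => hgn ⟨hg, hgd, hm⟩)
        fun hm => hhn ⟨hh, hhd, hm⟩⟩
  -- the inner elements are normalised by the centraliser of `z`
  have hconjd : ∀ a g, Commute z a → Commute d a → g ∈ inn → a * g * a⁻¹ ∈ inn := by
    intro a g ha had hg
    by_cases han : a ∈ inn
    · exact mul_mem (mul_mem han hg) (inv_mem han)
    by_contra hn
    refine han ?_
    have h1 := hmul _ a ((ha.mul_right hg.1).mul_right ha.inv_right) ((had.mul_right hg.2.1).mul_right had.inv_right)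
      ha had hn han
    rw [inv_mul_cancel_right] at h1
    have h2 := mul_mem h1 (inv_mem hg)
    rwa [mul_inv_cancel_right] at h2
  have hbrack : ∀ a b, Commute z a → Commute d a → Commute z b → Commute d b → ⁅a, b⁆ ∈ inn := by
    intro a b ha had hb hbd
    by_cases hbn : b ∈ inn
    · exact mul_mem (hconjd a b ha had hbn) (inv_mem hbn)
    by_cases han : a ∈ inn
    · rw [show ⁅a, b⁆ = a * (b * a⁻¹ * b⁻¹) by simp [commutatorElement_def, mul_assoc]]
      exact mul_mem han (hconjd b _ hb hbd (inv_mem han))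
    rw [show ⁅a, b⁆ = a * b * (a⁻¹ * b⁻¹) by simp [commutatorElement_def, mul_assoc]]
    exact mul_mem (hmul a b ha had hb hbd han hbn)
      (hmul _ _ ha.inv_right had.inv_right hb.inv_right hbd.inv_right (fun h => han (inv_mem_iff.1 h))
        fun h => hbn (inv_mem_iff.1 h))
  have hgen : inn ≤ ⁅inn, inn⁆ ⊔ coreAt z := by
    have hle : ⁅inn, inn⁆ ⊔ coreAt z ≤ inn :=
      sup_le (commutator_le.2 fun a ha b hb => hbrack a b ha.1 ha.2.1 hb.1 hb.2.1) hJinn
    let M : Subgroup X :=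
      { carrier := {x | ∃ k ∈ ⁅inn, inn⁆ ⊔ coreAt z, D.π k = x}
        one_mem' := ⟨1, one_mem _, D.π_one⟩
        mul_mem' := fun {x x'} ⟨k, hk, e⟩ ⟨k', hk', e'⟩ =>
          ⟨k * k', mul_mem hk hk', by rw [D.π_mul k k' (hle hk).2.1 (hle hk').2.1, e, e']⟩
        inv_mem' := fun {x} ⟨k, hk, e⟩ => ⟨k⁻¹, inv_mem hk, by rw [D.π_inv (hle hk).2.1, e]⟩ }
    have hM : ⁅P.I, P.I⁆ ⊔ coreAt (D.π z) ≤ M := by
      refine sup_le (commutator_le.2 fun x hx x' hx' => ?_) fun x hx => ?_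
      · obtain ⟨g, hg, rfl⟩ := D.π_surj x
        obtain ⟨g', hg', rfl⟩ := D.π_surj x'
        exact ⟨⁅g, g'⁆, mem_sup_left (commutator_mem_commutator
          ⟨(D.π_comm g hg).1 (P.I_cen _ hx), hg, hx⟩ ⟨(D.π_comm g' hg').1 (P.I_cen _ hx'), hg', hx'⟩),
          D.π_bracket hg hg'⟩
      · obtain ⟨a, ha, rfl⟩ := D.core_surj T hx
        exact ⟨a, mem_sup_right ha, rfl⟩
    intro g hg
    obtain ⟨k, hk, e⟩ := hM (P.I_gen hg.2.2)
    rcases (D.π_eq k g (hle hk).2.1 hg.2.1).1 e with rfl | rfl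
    · exact hk
    · exact mul_mem hk (mem_sup_right T.d_mem)
  have hnorm : ∀ h, Commute z h → ∀ g ∈ inn, h * g * h⁻¹ ∈ inn := by
    intro h hh
    have hcz : ∀ {a : G}, Commute z a → Commute z (h * a * h⁻¹) := fun ha => (hh.mul_right ha).mul_right hh.inv_right
    have : ⁅inn, inn⁆ ⊔ coreAt z ≤ inn.comap (MulAut.conj h).toMonoidHom := by
      refine sup_le (commutator_le.2 fun a ha b hb => ?_) fun a ha => ?_
      · show h * ⁅a, b⁆ * h⁻¹ ∈ inn
        rw [← bracket_conj]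
        exact hbrack _ _ (hcz ha.1) (T.conj_comm_d hh ha.1 ha.2.1) (hcz hb.1) (T.conj_comm_d hh hb.1 hb.2.1)
      · exact hJinn _ (T.conj_mem_core hh ha)
    exact fun g hg => this (hgen hg)
  -- the plane
  let pl : Subgroup G :=
    { carrier := {t | t ∈ coreAt z ∧ D.π t ∈ P.W}
      one_mem' := ⟨one_mem _, by rw [D.π_one]; exact one_mem _⟩
      mul_mem' := fun {a b} ha hb => ⟨mul_mem ha.1 hb.1, by
        rw [D.π_mul a b (T.d_central a ha.1) (T.d_central b hb.1)]; exact mul_mem ha.2 hb.2⟩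
      inv_mem' := fun {a} ha => ⟨inv_mem ha.1, by rw [D.π_inv (T.d_central a ha.1)]; exact inv_mem ha.2⟩ }
  have hpl : ∀ t ∈ coreAt z, (D.π t ∈ P.W ↔ ∀ g ∈ inn, ⁅g, t⁆ ∈ Zc z d) := by
    intro t ht
    rw [P.W_iff _ (D.core_map T ht)]
    refine ⟨fun h g hg => (D.mem_Zc_iff T (T.bracket_mem hg.1 ht)).1 (by
      rw [D.π_bracket hg.2.1 (T.d_central t ht)]; exact h _ hg.2.2), fun h x hx => ?_⟩
    obtain ⟨g, hg, rfl⟩ := D.π_surj x
    have hgi : g ∈ inn := ⟨(D.π_comm g hg).1 (P.I_cen _ hx), hg, hx⟩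
    rw [← D.π_bracket hg (T.d_central t ht)]
    exact (D.mem_Zc_iff T (T.bracket_mem hgi.1 ht)).2 (h g hgi)
  have hcomm_pl : ∀ a ∈ coreAt z, (∀ t ∈ pl, Commute t a) → ∀ t ∈ P.W, Commute t (D.π a) := by
    intro a ha hc t ht
    obtain ⟨t, ht', rfl⟩ := D.core_surj T (P.W_le ht)
    exact (D.bracket_iff T ht' ha).1 (hc t ⟨ht', ht⟩)
  refine ⟨{
    inn := inn, inn_z := fun g hg => hg.1, inn_d := fun g hg => hg.2.1, inn_mul := hmul
    pl := pl, pl_le := fun t ht => ht.1, Zc_le := fun a ha => ⟨T.Zc_mem ha, ?_⟩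
    pl_norm := ?_
    pl_inn := pl_cases T (fun g hg => hg.1) (fun g hg => hg.2.1) (fun t ht => ht.1)
      (fun g hg t ht => (hpl t ht.1).1 ht.2 g hg) hgen
    pl_comm := ?_, pl_big := ?_, perp_root := ?_, five := ?_, five_triv := ?_ }, hinn⟩
  · -- Zc_le
    refine (hpl a (T.Zc_mem ha)).2 fun g hg => ?_
    rw [commutatorElement_eq_one_iff_commute.2 (T.Zc_comm ha hg.1 hg.2.1).symm]
    exact T.one_mem_Zc
  · -- pl_norm
    intro h hh t ht
    refine ⟨T.conj_mem_core hh ht.1, (hpl _ (T.conj_mem_core hh ht.1)).2 fun g hg => ?_⟩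
    have hg' : h⁻¹ * g * h ∈ inn := by simpa using hnorm h⁻¹ hh.inv_right g hg
    have e : ⁅g, h * t * h⁻¹⁆ = h * ⁅h⁻¹ * g * h, t⁆ * h⁻¹ := by simp [commutatorElement_def, mul_assoc]
    rw [e]
    exact T.Zc_norm hh ((hpl t ht.1).1 ht.2 _ hg')
  · -- pl_comm
    intro a ha b hb h1 h2 h3
    have had := T.d_central a ha.1
    have hbd := T.d_central b hb.1
    refine (T.comm a ha.1 b hb.1).resolve_left fun e => D.π_z_ne T ?_
    rw [← P.W_comm _ ha.2 _ hb.2 (fun h => h1 ((D.mem_Zc_iff T ha.1).1 h))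
      (fun h => h2 ((D.mem_Zc_iff T hb.1).1 h)) (fun h => h3 ((D.mem_Zc_iff T (mul_mem ha.1 hb.1)).1 (by
        rw [D.π_mul a b had hbd]; exact h))),
      ← D.π_bracket had hbd, e, D.π_one]
  · -- pl_big
    obtain ⟨a', ha, b', hb, h1, h2, h3⟩ := P.W_big
    obtain ⟨a, haJ, rfl⟩ := D.core_surj T (P.W_le ha)
    obtain ⟨b, hbJ, rfl⟩ := D.core_surj T (P.W_le hb)
    exact ⟨a, ⟨haJ, ha⟩, b, ⟨hbJ, hb⟩, fun h => h1 ((D.mem_Zc_iff T haJ).2 h),
      fun h => h2 ((D.mem_Zc_iff T hbJ).2 h), fun h => h3 (by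
        rw [← D.π_mul a b (T.d_central a haJ) (T.d_central b hbJ)]
        exact (D.mem_Zc_iff T (mul_mem haJ hbJ)).2 h)⟩
  · -- perp_root
    intro g hg hg2
    have hone : ∀ a b, a ∈ coreAt z → b ∈ coreAt z → (⁅g, a⁆ = 1 ∨ ⁅g, a⁆ = z) → (⁅g, b⁆ = 1 ∨ ⁅g, b⁆ = z) →
        (⁅g, a * b⁆ = 1 ∨ ⁅g, a * b⁆ = z) := by
      intro a b ha hb h h'
      rw [show ⁅g, a * b⁆ = ⁅g, a⁆ * (a * ⁅g, b⁆ * a⁻¹) by simp [commutatorElement_def, mul_assoc]]
      rcases h with e | e <;> rcases h' with e' | e' <;> rw [e, e']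
      · left; group
      · right; rw [conj_of_comm (T.comm_z ha).symm, one_mul]
      · right; group
      · left; rw [conj_of_comm (T.comm_z ha).symm, T.z2]
    let K : Subgroup X :=
      { carrier := {x | ∃ a ∈ coreAt z, D.π a = x ∧ (∀ t ∈ P.W, Commute t x) ∧ (⁅g, a⁆ = 1 ∨ ⁅g, a⁆ = z)}
        one_mem' := ⟨1, one_mem _, D.π_one, fun t _ => Commute.one_right t, Or.inl (commutatorElement_one_right g)⟩
        mul_mem' := fun {x x'} ⟨a, ha, e, hc, h⟩ ⟨b, hb, e', hc', h'⟩ => ⟨a * b, mul_mem ha hb,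
          by rw [D.π_mul a b (T.d_central a ha) (T.d_central b hb), e, e'],
          fun t ht => (hc t ht).mul_right (hc' t ht), hone a b ha hb h h'⟩
        inv_mem' := fun {x} ⟨a, ha, e, hc, h⟩ => ⟨a⁻¹, inv_mem ha,
          by rw [D.π_inv (T.d_central a ha), e], fun t ht => (hc t ht).inv_right, by
            rw [show ⁅g, a⁻¹⁆ = a⁻¹ * ⁅g, a⁆⁻¹ * a by simp [commutatorElement_def, mul_assoc]]
            rcases h with e | e <;> rw [e]
            · left; group
            · right; rw [T.z_inv, mul_assoc, (T.comm_z ha).eq, inv_mul_cancel_left]⟩ }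
    have hgz := hg.1
    have hgd := hg.2.1
    obtain ⟨x, ⟨a, ha, rfl, hc, h⟩, hx2⟩ := P.perp_sub (D.π g) hg.2.2 K
      (fun x ⟨a, ha, e, _⟩ => e ▸ D.core_map T ha)
      ⟨z, T.z_mem, rfl, fun t ht => ((mem_centralizer_one.1 (coreAt_le _ (P.W_le ht))) : Commute t (D.π z)),
        Or.inl (commutatorElement_eq_one_iff_commute.2 hgz.symm)⟩
      (fun u hu huc => by
        obtain ⟨u, hu', rfl⟩ := D.core_surj T hu
        refine ⟨⁅g, u⁆, T.bracket_mem hgz hu', D.π_bracket hgd (T.d_central u hu'), fun t ht => ?_, ?_⟩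
        · obtain ⟨t, ht', rfl⟩ := D.core_surj T (P.W_le ht)
          rw [← D.π_bracket hgd (T.d_central u hu'), ← D.bracket_iff T ht' (T.bracket_mem hgz hu')]
          have hut : Commute t u := (D.bracket_iff T ht' hu').2 (huc _ ht)
          have hζ : ⁅g, t⁆ ∈ Zc z d := (hpl t ht').1 ht g hg
          have h1 : Commute t (g * u * g⁻¹) := by
            have h2 := conj_comm (g := g) hut
            rw [← comm_elem_eq (a := t)] at h2
            have h3 := (T.Zc_central (show (⁅g, t⁆)⁻¹ ∈ Zc z d by rw [T.Zc_inv hζ]; exact hζ) (T.conj_mem_core hgz hu')).mul_left h2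
            rwa [inv_mul_cancel_left] at h3
          exact h1.mul_right hut.inv_right
        · set a := ⁅g, u⁆ with ha
          have haJ := T.bracket_mem hgz hu'
          have e : ⁅g * g, u⁆ = g * a * g⁻¹ * a := by rw [ha]; simp [commutatorElement_def, mul_assoc]
          have e' : ⁅g, a⁆ = g * a * g⁻¹ * a * (a * a)⁻¹ := by simp [commutatorElement_def, mul_assoc]
          rw [e', ← e]
          rcases T.comm _ hg2 u hu' with h | h <;> rcases T.sq a haJ with h' | h' <;> rw [h, h']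
          · left; group
          · right; rw [one_mul, T.z_inv]
          · right; group
          · left; rw [mul_inv_cancel]
          )
      (fun a ha b hb hac hbc hξ hη han hbn => by
        obtain ⟨a, ha', rfl⟩ := D.core_surj T ha
        obtain ⟨b, hb', rfl⟩ := D.core_surj T hb
        rw [← D.π_bracket hgd (T.d_central _ ha'), D.mem_Zc_iff T (T.bracket_mem hgz ha')] at hξ
        rw [← D.π_bracket hgd (T.d_central _ hb'), D.mem_Zc_iff T (T.bracket_mem hgz hb')] at hη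
        refine ⟨a * b, mul_mem ha' hb', D.π_mul a b (T.d_central a ha') (T.d_central b hb'),
          fun t ht => (hac t ht).mul_right (hbc t ht), ?_⟩
        have bad : ∀ {c : G}, c ∈ coreAt z → (∀ t ∈ P.W, Commute t (D.π c)) → D.π c ∉ K → ⁅g, c⁆ ∈ Zc z d →
            ⁅g, c⁆ = d ∨ ⁅g, c⁆ = d * z := fun hc hcc hcn hζ => by
          rcases mem_Zc.1 hζ with h | h | h | h
          exacts [absurd ⟨_, hc, rfl, hcc, Or.inl h⟩ hcn, absurd ⟨_, hc, rfl, hcc, Or.inr h⟩ hcn,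
            Or.inl h, Or.inr h]
        rw [show ⁅g, a * b⁆ = ⁅g, a⁆ * (a * ⁅g, b⁆ * a⁻¹) by simp [commutatorElement_def, mul_assoc],
          conj_of_comm (T.Zc_central hη ha').symm]
        rcases bad ha' hac han hξ with e | e <;> rcases bad hb' hbc hbn hη with e' | e' <;> rw [e, e']
        · exact Or.inl T.d2
        · right; rw [← mul_assoc, T.d2, one_mul]
        · right; rw [mul_assoc, T.zd.eq, ← mul_assoc, T.d2, one_mul]
        · exact Or.inl T.dz2)
      (fun x ⟨a, ha, e, hc, _⟩ => hc)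
    refine ⟨a, ha, (T.sq a ha).resolve_left fun e => ?_, fun t ht => (D.bracket_iff T ht.1 ha).2 (hc _ ht.2), h⟩
    rw [← D.π_mul a a (T.d_central a ha) (T.d_central a ha), e, D.π_one] at hx2
    exact D.π_z_ne T hx2.symm
  · -- five
    intro a ha han ha2 hac
    obtain ⟨x, hxy, hxJ, hx5, hxa⟩ := P.five (D.π a) (D.core_map T ha) (fun h => han ⟨ha, h⟩)
      ((D.sq_iff T ha).2 ha2) (hcomm_pl a ha hac)
    obtain ⟨g, hgd, rfl⟩ := D.π_surj x
    have hgz := (D.π_comm g hgd).1 hxy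
    have hg5 : g ^ 5 ∈ coreAt z := (D.π_core _ (hgd.pow_right 5)).1 (by rw [D.π_pow hgd]; exact hx5)
    have h20 : (g ^ 5) ^ 4 = 1 := by
      rw [show (g ^ 5) ^ 4 = g ^ 5 * g ^ 5 * (g ^ 5 * g ^ 5) by group]
      rcases T.sq _ hg5 with e | e <;> rw [e]
      exacts [one_mul 1, T.z2]
    have hζ : ⁅g, a⁆ ∈ Zc z d := (D.mem_Zc_iff T (T.bracket_mem hgz ha)).1 (by
      rw [D.π_bracket hgd (T.d_central a ha)]; exact hxa)
    have hg2 : Commute (g * g) a := comm_of_conj <| by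
      have e := (comm_elem_eq (g := g) (a := a)).symm
      calc g * g * a * (g * g)⁻¹ = g * (g * a * g⁻¹) * g⁻¹ := by group
        _ = g * ⁅g, a⁆ * g⁻¹ * (g * a * g⁻¹) := by rw [e]; group
        _ = ⁅g, a⁆ * (⁅g, a⁆ * a) := by rw [conj_of_comm (T.Zc_comm hζ hgz hgd).symm, e]
        _ = a := by rw [← mul_assoc, T.Zc_sq hζ, one_mul]
    refine ⟨g ^ 16, hgz.pow_right 16, ?_, ?_, fun h => hxJ ((D.π_core g hgd).2 ?_)⟩
    · rw [show g ^ 16 = (g * g) ^ 8 by rw [← pow_two, ← pow_mul]]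
      exact (hg2.pow_left 8).symm
    · rw [show (g ^ 16) ^ 5 = ((g ^ 5) ^ 4) ^ 4 by rw [← pow_mul, ← pow_mul, ← pow_mul], h20, one_pow]
    · rw [show g = g ^ 16 * ((g ^ 5) ^ 3)⁻¹ by group, h, one_mul]
      exact inv_mem (pow_mem hg5 3)
  · -- five_triv
    intro a ha han ha2 hac r hr har hr5 hr1 e he hed hre hae he4
    have hrd : Commute d r := T.odd_d hr
      ((show Odd 5 by decide).of_dvd_nat (orderOf_dvd_of_pow_eq_one hr5))
    have had := T.d_central a ha
    have hmap : ∀ {p q : G}, Commute d p → Commute d q → Commute p q → Commute (D.π p) (D.π q) := fun {p q} hp hq h => by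
      show D.π p * D.π q = D.π q * D.π p
      rw [← D.π_mul p q hp hq, ← D.π_mul q p hq hp, h.eq]
    refine (D.π_core e hed).1 (P.five_triv _ (D.core_map T ha) (fun h => han ⟨ha, h⟩) ((D.sq_iff T ha).2 ha2)
      (hcomm_pl a ha hac) _ (D.comm_π hr hrd) (hmap had hrd har) ?_ ?_ _ (D.comm_π he hed) (hmap hrd hed hre)
      (hmap had hed hae) ?_)
    · rw [← D.π_pow hrd, hr5, D.π_one]
    · intro h
      rw [← D.π_one, D.π_eq r 1 hrd (Commute.one_right d)] at h
      rcases h with h | h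
      · exact hr1 h.symm
      · refine T.d_ne ?_
        have e1 : r = d := by
          rw [eq_comm, mul_eq_one_iff_eq_inv, T.d_inv] at h; exact h
        rw [← hr5, e1, pow_succ, show (4 : ℕ) = 2 * 2 from rfl, pow_mul, pow_two d, T.d2, one_pow, one_mul]
    · rw [← D.π_pow hed, he4, D.π_one]

end Down

end Cfsg.Agent.Fi22Two
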