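import Cfsg.Agent.Lib.Fi22Two.InstNatural
import Cfsg.Agent.Lib.Fi22Two.InstCoord
import Cfsg.Agent.Lib.Fi22Two.Line
import Cfsg.Agent.Lib.U62Aut.End

/-!
The conjugates of `z` under the centraliser of `d` over a transvection are four, when the centraliser of `d`
modulo `d` has the local structure of the unitary group.
-/

set_option autoImplicit false
set_option linter.style.haveILetI false
set_option linter.unusedSectionVars false

namespace Cfsg.Agent.Fi22Two

open Subgroup LargeExtra U62Rec.Model U62Aut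

universe u v

variable {G : Type u} [Group G] [Finite G] {z d : G} {X : Type u} [Group X] [Finite X]
  {F : Type v} [Field F] [Fintype F]

namespace Down

/-- The image of a conjugate of `z` under the centraliser of `d` determines it. -/
theorem cls_inj (D : Down z d X) (T : Two z d) {y y' : G} (hy : y ∈ Cls z d) (hy' : y' ∈ Cls z d)
    (h : D.π y = D.π y') : y = y' := by
  obtain ⟨k, hk, rfl⟩ := hy
  obtain ⟨k', hk', rfl⟩ := hy'
  have hc : ∀ {k : G}, Commute d k → Commute d (k * z * k⁻¹) := fun hk =>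
    (hk.mul_right T.zd.symm).mul_right hk.inv_right
  rcases (D.π_eq _ _ (hc hk) (hc hk')).1 h with e | e
  · exact e.symm
  · exfalso
    refine (T.class_ne (k⁻¹ * k')).2 ?_
    calc k⁻¹ * k' * z * (k⁻¹ * k')⁻¹ = k⁻¹ * (k' * z * k'⁻¹) * k := by group
      _ = z * (k⁻¹ * d * k) := by rw [e]; group
      _ = d * z := by rw [mul_assoc k⁻¹ d k, hk.eq, inv_mul_cancel_left, T.zd.eq]

/-- The members over a transvection, and one of them, in the case of the automorphism group. -/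
theorem side (D : Down z d X) (T : Two z d) (hF : Fintype.card F = 3) (K : CenAut (D.π z) F)
    (hiso : ¬ Cfsg.IsIsolated (D.π z)) :
    (∀ g, Commute z g → Commute d g → g * g ∈ coreAt z → g ∉ coreAt z → (fx z d g).ncard = 256 →
      (Side z d g).ncard = 4) ∧
    ∃ y ∈ Cls z d, Commute z y ∧ y * y ∈ coreAt z ∧ y ∉ coreAt z ∧ (fx z d y).ncard = 256 := by
  classical
  set y₀ := D.π z with hy₀
  obtain ⟨V, iV, ⟨S⟩⟩ := K.space hF
  letI := iV
  have hfix : ∀ v, (∀ x, S.inn x v = v) → v = 0 := fun v hv => by_contra fun h =>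
    hiso fun g hg => S.isolated ⟨v, h, hv⟩ g hg
  obtain ⟨C⟩ := S.exists_crdA hfix
  obtain ⟨Co, -, hlin⟩ := D.coord_aut T C
  let Dc : Set X := {x | ∃ g : X, g * y₀ * g⁻¹ = x}
  have hloc : ∀ x ∈ Dc, Nonempty (Loc U62Aut.geo x) := by
    rintro _ ⟨g, rfl⟩
    exact ((K.conj g).loc_or_isolated hF).resolve_right fun h => hiso (isolated_conj h)
  let Fm : Fam (G := X) U62Aut.geo :=
    { D := Dc
      conj_mem := by
        rintro g _ ⟨k, rfl⟩
        exact ⟨g * k, by group⟩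
      isConj := by
        rintro _ ⟨g, rfl⟩ _ ⟨k, rfl⟩
        exact ⟨k * g⁻¹, by group⟩
      loc := fun x hx => if h : x = y₀ then h ▸ C.loc else (hloc x hx).some }
  have hyD : y₀ ∈ Fm.D := ⟨1, by group⟩
  have hL : Fm.loc y₀ hyD = C.loc := dif_pos rfl
  have hnwc : ∀ x ∈ Fm.D, ∃ e, e ∈ nbr Fm.D x := by
    rintro _ ⟨g, rfl⟩
    simp only [Cfsg.IsIsolated, not_forall] at hiso
    obtain ⟨k, hk, hne⟩ := hiso
    exact ⟨g * (k * y₀ * k⁻¹) * g⁻¹, ⟨g * k, by group⟩, fun h => hne (mul_left_cancel (mul_right_cancel h)),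
      hk.map (MulAut.conj g).toMonoidHom⟩
  have hperm : ∀ g, Commute z g → Commute d g → C.perm (D.π g) = aHom (Co.lin g) := fun g hg hgd => by
    rw [C.perm_eq (D.comm_π hg hgd), hlin g hg hgd]
  have hcls : ∀ y ∈ Cls z d, Commute d y ∧ D.π y ∈ Fm.D := by
    rintro _ ⟨k, hk, rfl⟩
    exact ⟨(hk.mul_right T.zd.symm).mul_right hk.inv_right, D.π k, (D.π_conj hk T.zd.symm).symm⟩
  have hlift : ∀ e ∈ Fm.D, Commute y₀ e → ∃ y ∈ Cls z d, Commute z y ∧ D.π y = e := by
    rintro _ ⟨x, rfl⟩ hc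
    obtain ⟨k, hk, rfl⟩ := D.π_surj x
    rw [← D.π_conj hk T.zd.symm] at hc ⊢
    exact ⟨_, ⟨k, hk, rfl⟩, (D.π_comm _ ((hk.mul_right T.zd.symm).mul_right hk.inv_right)).1 hc, rfl⟩
  refine ⟨fun g hg hgd hg2 hgJ h256 => ?_, ?_⟩
  · obtain ⟨p, hp⟩ := (Co.tv_iff T hg hgd hg2 hgJ).1 h256
    have hgp : C.perm (D.π g) = U62Aut.geo.tr p := by rw [hperm g hg hgd, hp, aHom_tvA]; rfl
    have h4 := Fm.fibre_ncard hnwc hyD p
    have himg : D.π '' Side z d g = {e | e ∈ nbr Fm.D y₀ ∧ Fm.ptF y₀ e = p} := by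
      ext e
      constructor
      · rintro ⟨y, ⟨k, hk, rfl, hzy, hj⟩, rfl⟩
        set y := k * z * k⁻¹ with hy
        obtain ⟨hyd, hyD'⟩ := hcls y ⟨k, hk, rfl⟩
        have hne : D.π y ≠ y₀ := fun h => hgJ (by
          have e' := D.cls_inj T ⟨k, hk, rfl⟩ ⟨1, Commute.one_right d, by group⟩ h
          rw [hy, e'] at hj
          simpa using mul_mem T.z_mem (inv_mem hj))
        have hn : D.π y ∈ nbr Fm.D y₀ := ⟨hyD', hne, D.comm_π hzy hyd⟩
        refine ⟨hn, Fm.ptF_of hyD hn ?_⟩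
        rw [hL]
        show C.perm (D.π y) = U62Aut.geo.tr p
        have hjd := T.d_central _ hj
        rw [hperm y hzy hyd, show y = g * (g⁻¹ * y) by group, Co.lin_mul _ _ hg hgd (T.comm_z hj) hjd,
          (Co.lin_one _ (T.comm_z hj) hjd).2 hj, mul_one, hp, aHom_tvA]
        rfl
      · rintro ⟨hn, hpt⟩
        obtain ⟨y, hy, hzy, rfl⟩ := hlift e hn.1 hn.2.2
        obtain ⟨hyd, -⟩ := hcls y hy
        have hpy : C.perm (D.π y) = U62Aut.geo.tr p := by
          have := Fm.ptF_spec hyD hn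
          rw [hL, hpt] at this
          exact this
        refine ⟨y, ?_, rfl⟩
        obtain ⟨k, hk, e⟩ := hy
        refine ⟨k, hk, e, hzy, ?_⟩
        rw [← Co.lin_one _ (hg.inv_right.mul_right hzy) (hgd.inv_right.mul_right hyd),
          Co.lin_mul _ _ hg.inv_right hgd.inv_right hzy hyd]
        have h1 : Co.lin y = Co.lin g := by
          refine aHom_injective ?_
          rw [← hperm y hzy hyd, ← hperm g hg hgd, hpy, hgp]
        rw [h1, ← Co.lin_mul _ _ hg.inv_right hgd.inv_right hg hgd, inv_mul_cancel]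
        exact (Co.lin_one 1 (Commute.one_right z) (Commute.one_right d)).2 (one_mem _)
    rw [← himg, Set.InjOn.ncard_image fun a ha b hb h => D.cls_inj T (Side.mem_cls ha) (Side.mem_cls hb) h] at h4
    exact h4
  · obtain ⟨e, he⟩ := hnwc y₀ hyD
    obtain ⟨y, hy, hzy, rfl⟩ := hlift e he.1 he.2.2
    obtain ⟨hyd, -⟩ := hcls y hy
    obtain ⟨p, hp⟩ := Fm.exists_tr hyD he
    rw [hL] at hp
    change C.perm (D.π y) = U62Aut.geo.tr p at hp
    have hp' : Co.lin y = tvA p := tvA_eq (by rw [← hperm y hzy hyd, hp]; rfl)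
    have hyJ : y ∉ coreAt z := fun h => U62Aut.geo.tr_ne_one p (by
      rw [← hp, hperm y hzy hyd, (Co.lin_one y hzy hyd).2 h, map_one])
    have hy2 := Cls.sq T hy
    exact ⟨y, hy, hzy, by rw [hy2]; exact one_mem _, hyJ, (Co.tv_iff T hzy hyd (by rw [hy2]; exact one_mem _) hyJ).2 ⟨p, hp'⟩⟩

end Down

end Cfsg.Agent.Fi22Two
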