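import Cfsg.Agent.Lib.Fi22Two.Setup
import Cfsg.Agent.Lib.U62Aut.End
import Cfsg.Agent.Lib.U62Rec.Assembly

/-!
The hypotheses at the image of `z` modulo `a`: the quotient is the automorphism group when `a` is central in the
centraliser of `z`, the simple group when it is moved. The natural facts are symmetric in the two involutions.
-/

set_option autoImplicit false
set_option linter.style.haveILetI false
set_option linter.unusedSectionVars false

namespace Cfsg.Agent.Fi22Two

open Subgroup LargeExtra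
open scoped commutatorElement

universe u

variable {G : Type u} [Group G] [Finite G]

theorem Zc_other {z d : G} (T : Two z d) : Zc z (d * z) = Zc z d := by
  ext a
  rw [mem_Zc, mem_Zc, mul_assoc, T.z2, mul_one]
  tauto

theorem fx_other {z d : G} (T : Two z d) (g : G) : fx z (d * z) g = fx z d g := by
  rw [fx, fx, Zc_other T]

theorem inIm_other {z d : G} (T : Two z d) (g m : G) : InIm z (d * z) g m ↔ InIm z d g m := by
  rw [InIm, InIm, Zc_other T]

theorem comm_other {z d g : G} (T : Two z d) (hz : Commute z g) : Commute (d * z) g ↔ Commute d g :=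
  ⟨fun h => by
    have := h.mul_left hz
    rwa [mul_assoc, T.z2, mul_one] at this, fun h => h.mul_left hz⟩

/-- The natural facts for the other involution. -/
theorem Natural.other {z d : G} (N : Natural z d) (T : Two z d) : Nonempty (Natural z (d * z)) := by
  have hZ := Zc_other T
  have hF := fx_other T
  have hI := inIm_other T
  refine ⟨⟨N.inn, N.inn_z, fun g hg => (N.inn_d g hg).mul_left (N.inn_z g hg), N.core_le, ?_, ?_, ?_, ?_, ?_, ?_⟩⟩
  · intro g h hg hgd hh hhd
    exact N.inn_mul g h hg ((comm_other T hg).1 hgd) hh ((comm_other T hh).1 hhd)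
  · intro g hg hgd h2 hJ
    simpa only [hZ, hF, hI] using N.shape g hg ((comm_other T hg).1 hgd) h2 hJ
  · intro g h hg hgd hh hhd
    simpa only [hZ, hF, hI] using N.tv_two g h hg ((comm_other T hg).1 hgd) hh ((comm_other T hh).1 hhd)
  · intro g hg hgd
    simpa only [hZ, hF, hI] using N.tv_odd g hg ((comm_other T hg).1 hgd)
  · intro s t hs hs2 hsJ h64 ht htd
    simpa only [hZ, hF, hI] using N.good_odd s t hs hs2 hsJ (hF s ▸ h64) ht ((comm_other T ht).1 htd)
  · intro s t hs hsd ht htd
    simpa only [hZ, hF, hI] using N.outer_pair s t hs ((comm_other T hs).1 hsd) ht ((comm_other T ht).1 htd)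

/-- Every element of a simple non-abelian group is a product of commutators. -/
theorem commutator_psp {F : Type*} [Field F] [Fintype F] (hF : Fintype.card F = 3) :
    commutator (Cfsg.PSp 2 F) = ⊤ := by
  haveI : IsSimpleGroup (Cfsg.PSp 2 F) := S0270.result 2 le_rfl fun _ => hF.ge
  refine ((commutator (Cfsg.PSp 2 F)).normal_of_characteristic.eq_bot_or_eq_top).resolve_left fun hb => ?_
  letI : CommGroup (Cfsg.PSp 2 F) := { (inferInstance : Group (Cfsg.PSp 2 F)) with
    mul_comm := fun x y => commutatorElement_eq_one_iff_mul_comm.1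
      (mem_bot.1 (hb ▸ commutator_mem_commutator (mem_top x) (mem_top y))) }
  have h1 := IsSimpleGroup.prime_card (α := Cfsg.PSp 2 F)
  rw [S3342Id.card_psp_three hF] at h1
  norm_num at h1

/-- A subgroup of index two of the automorphism group is the simple group. -/
theorem iso_of_index_two {F : Type*} [Field F] [Fintype F] (hF : Fintype.card F = 3)
    {R : Subgroup (MulAut (Cfsg.PSp 2 F))} (h2 : R.index = 2) : Nonempty (↥R ≃* Cfsg.PSp 2 F) := by
  classical
  haveI : IsSimpleGroup (Cfsg.PSp 2 F) := S0270.result 2 le_rfl fun _ => hF.ge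
  have hle : commutator (MulAut (Cfsg.PSp 2 F)) ≤ R := by
    rw [commutator_def, commutator_le]
    intro x _ y _
    rw [commutatorElement_def, mul_mem_iff_of_index_two h2, mul_mem_iff_of_index_two h2,
      mul_mem_iff_of_index_two h2, inv_mem_iff, inv_mem_iff]
    tauto
  have hrange : (MulAut.conj : Cfsg.PSp 2 F →* MulAut (Cfsg.PSp 2 F)).range ≤ R := by
    rw [MonoidHom.range_eq_map, ← commutator_psp hF, commutator_def, map_commutator]
    exact le_trans (commutator_mono le_top le_top) hle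
  have hinj : Function.Injective (MulAut.conj : Cfsg.PSp 2 F →* MulAut (Cfsg.PSp 2 F)) := by
    rw [← MonoidHom.ker_eq_bot_iff]
    refine ((MulAut.conj : Cfsg.PSp 2 F →* MulAut (Cfsg.PSp 2 F)).normal_ker.eq_bot_or_eq_top).resolve_right
      fun ht => ?_
    have hc : commutator (Cfsg.PSp 2 F) = ⊥ := by
      rw [eq_bot_iff, commutator_def, commutator_le]
      intro x _ y _
      have h := DFunLike.congr_fun (MonoidHom.mem_ker.1 (ht ▸ mem_top x)) y
      rw [MulAut.conj_apply] at h
      exact mem_bot.2 (commutatorElement_eq_one_iff_mul_comm.2 (mul_inv_eq_iff_eq_mul.1 h))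
    exact bot_ne_top (hc.symm.trans (commutator_psp hF))
  have heq : (MulAut.conj : Cfsg.PSp 2 F →* MulAut (Cfsg.PSp 2 F)).range = R := by
    refine eq_of_le_of_card_ge hrange (le_of_eq ?_)
    have h1 := R.card_mul_index
    rw [h2, S3342Id.card_mulAut_psp3 hF] at h1
    rw [← Nat.card_congr (MonoidHom.ofInjective hinj).toEquiv]
    omega
  exact ⟨(MulEquiv.subgroupCongr heq.symm).trans (MonoidHom.ofInjective hinj).symm⟩

namespace Core

variable {z a : G} (K : Core z a)

/-- The centraliser of `z` over its core, restricted to the pair. -/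
theorem exists_pair_hom {M : Type*} [Group M] [hJn : (Cfsg.pCore 2 ↥(centralizer ({z} : Set G))).Normal]
    (e : (↥(centralizer ({z} : Set G)) ⧸ Cfsg.pCore 2 ↥(centralizer ({z} : Set G))) ≃* M) :
    ∃ φ : ↥K.pair →* M, (∀ g : ↥K.pair, φ g = 1 ↔ (g : G) ∈ coreAt z) ∧
      ∀ (h : ↥(centralizer ({z} : Set G))) (hh : (h : G) ∈ K.pair), φ ⟨h, hh⟩ = e (QuotientGroup.mk h) := by
  refine ⟨(e.toMonoidHom.comp (QuotientGroup.mk' _)).comp
    (Subgroup.inclusion (inf_le_left : K.pair ≤ centralizer ({z} : Set G))), fun g => ?_, fun h hh => rfl⟩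
  show e (QuotientGroup.mk (Subgroup.inclusion _ g)) = 1 ↔ _
  rw [MulEquiv.map_eq_one_iff, QuotientGroup.eq_one_iff, ← mem_coreAt_iff]
  rfl

variable [((zpowers a).subgroupOf (centralizer ({a} : Set G))).Normal] {F : Type*} [Field F] [Fintype F]
  [hJn : (Cfsg.pCore 2 ↥(centralizer ({z} : Set G))).Normal]
  (e : (↥(centralizer ({z} : Set G)) ⧸ Cfsg.pCore 2 ↥(centralizer ({z} : Set G))) ≃* MulAut (Cfsg.PSp 2 F))
  {E : Subgroup G} (hE : Cfsg.IsExtraspecial 2 ↥E) (hEc : Nat.card E = 512) (hle : E ≤ coreAt z) (haE : a ∉ E)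

include e hE hEc hle haE

/-- Central: the quotient is the automorphism group. -/
theorem cenAut (hcen : ∀ h, Commute z h → Commute a h) : U62Aut.CenAut (K.proj z) F := by
  obtain ⟨φ, hk, hφ⟩ := K.exists_pair_hom e
  refine ⟨K.order_proj, (K.extra_proj hE hEc hle haE).1, (K.extra_proj hE hEc hle haE).2, K.self_proj,
    K.quot_proj φ (fun m => ?_) hk⟩
  obtain ⟨q, rfl⟩ := e.surjective m
  obtain ⟨h, rfl⟩ := QuotientGroup.mk_surjective q
  have hzh : Commute z (h : G) := (mem_centralizer_one.1 h.2).symm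
  exact ⟨⟨h, K.mem_pair.2 ⟨hzh, hcen _ hzh⟩⟩, hφ h _⟩

/-- Moved: the quotient is the simple group. -/
theorem hyp (hF : Fintype.card F = 3) (hsw : ∃ t, Commute z t ∧ t * a * t⁻¹ = a * z) :
    U62Rec.Hyp F (K.proj z) := by
  obtain ⟨φ, hk, hφ⟩ := K.exists_pair_hom e
  obtain ⟨t, htz, hta⟩ := hsw
  set tc : ↥(centralizer ({z} : Set G)) := ⟨t, mem_centralizer_one.2 htz.eq.symm⟩ with htc
  have htn : t ∉ K.pair := fun h => K.z_ne (by
    rw [conj_of_comm (K.mem_pair.1 h).2.symm] at hta
    exact mul_eq_left.1 hta.symm)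
  -- membership in the range
  have hR : ∀ h : ↥(centralizer ({z} : Set G)), e (QuotientGroup.mk h) ∈ φ.range ↔ (h : G) ∈ K.pair := by
    refine fun h => ⟨?_, fun hh => ⟨⟨h, hh⟩, hφ h hh⟩⟩
    rintro ⟨g, hg⟩
    have hgz : (g : G) ∈ centralizer ({z} : Set G) := (inf_le_left : K.pair ≤ centralizer ({z} : Set G)) g.2
    rw [hφ ⟨g, hgz⟩ g.2] at hg
    have hm : (g : G)⁻¹ * (h : G) ∈ coreAt z := mem_coreAt_iff.2 (QuotientGroup.eq.1 (e.injective hg))
    have := mul_mem g.2 (K.core_le_pair hm)
    rwa [mul_inv_cancel_left] at this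
  have h2 : φ.range.index = 2 := by
    refine index_eq_two_iff'.2 ⟨e (QuotientGroup.mk tc), fun x => ?_⟩
    obtain ⟨q, rfl⟩ := e.surjective x
    obtain ⟨h, rfl⟩ := QuotientGroup.mk_surjective q
    rw [← map_mul, ← QuotientGroup.mk_mul, hR, hR, xor_iff_iff_not]
    show t * (h : G) ∈ K.pair ↔ ¬ (h : G) ∈ K.pair
    have hzh : Commute z (h : G) := (mem_centralizer_one.1 h.2).symm
    refine ⟨fun h1 h2 => htn ((K.pair.mul_mem_cancel_right h2).1 h1), fun h1 => ?_⟩
    refine K.mem_pair.2 ⟨htz.mul_right hzh, (comm_of_conj ?_).symm⟩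
    have hh : (h : G) * a * (h : G)⁻¹ = a * z :=
      (K.swap hzh).resolve_left fun e' => h1 (K.mem_pair.2 ⟨hzh, (comm_of_conj e').symm⟩)
    rw [show t * (h : G) * a * (t * (h : G))⁻¹ = t * ((h : G) * a * (h : G)⁻¹) * t⁻¹ by group, hh,
      show t * (a * z) * t⁻¹ = t * a * t⁻¹ * (t * z * t⁻¹) by group, hta, conj_of_comm htz.symm, mul_assoc, K.z2, mul_one]
  obtain ⟨i⟩ := iso_of_index_two hF h2
  refine ⟨K.order_proj, (K.extra_proj hE hEc hle haE).1, (K.extra_proj hE hEc hle haE).2, K.self_proj,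
    FiniteGroup.pCore_normal 2, K.quot_proj (i.toMonoidHom.comp φ.rangeRestrict)
      (i.surjective.comp φ.rangeRestrict_surjective) fun g => ?_⟩
  show i (φ.rangeRestrict g) = 1 ↔ _
  rw [MulEquiv.map_eq_one_iff, ← hk g, Subtype.ext_iff]
  rfl

end Core

end Cfsg.Agent.Fi22Two
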