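import Cfsg.Agent.Lib.Fi22Two.Endings

/-!
From a 2-core which is the direct product of a group of order two and an extraspecial group: the data at the
pair of the two involutions.
-/

set_option autoImplicit false
set_option linter.style.haveILetI false
set_option linter.unusedSectionVars false

namespace Cfsg.Agent.Fi22Two

open Subgroup LargeExtra
open scoped commutatorElement

universe u

variable {G : Type u} [Group G] [Finite G]

theorem mem_coreAt_iff {z : G} {x : ↥(centralizer ({z} : Set G))} :
    (x : G) ∈ coreAt z ↔ x ∈ Cfsg.pCore 2 ↥(centralizer ({z} : Set G)) :=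
  ⟨fun ⟨_, hy, e⟩ => Subtype.ext e ▸ hy, fun h => ⟨x, h, rfl⟩⟩

/-- The data at the pair, with the extraspecial complement. -/
theorem exists_core {z : G} (hz : orderOf z = 2) (A E : Subgroup ↥(centralizer ({z} : Set G)))
    (hAE : Cfsg.IsInternalDirectProduct A E (Cfsg.pCore 2 ↥(centralizer ({z} : Set G)))) (hA : Nat.card ↥A = 2)
    (hE : Cfsg.IsExtraspecial 2 ↥E) (hEc : Nat.card ↥E = 2 ^ 9)
    (zc : ↥(centralizer ({z} : Set G))) (hzc : (zc : G) = z)
    (hJ' : ⁅Cfsg.pCore 2 ↥(centralizer ({z} : Set G)), Cfsg.pCore 2 ↥(centralizer ({z} : Set G))⁆ = zpowers zc)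
    (hCJ : centralizer ((Cfsg.pCore 2 ↥(centralizer ({z} : Set G))) : Set ↥(centralizer ({z} : Set G))) ≤
      Cfsg.pCore 2 ↥(centralizer ({z} : Set G))) :
    ∃ (a : G) (E' : Subgroup G), Core z a ∧ Cfsg.IsExtraspecial 2 ↥E' ∧ Nat.card E' = 512 ∧ E' ≤ coreAt z ∧
      a ∉ E' ∧ a * z ∉ E' := by
  classical
  obtain ⟨hAJ, hEJ, hcomm, hinf, hsup⟩ := hAE
  set J := Cfsg.pCore 2 ↥(centralizer ({z} : Set G)) with hJ
  have hzc2 : orderOf zc = 2 := by rw [← Subgroup.orderOf_coe, hzc, hz]
  -- the centre of the extraspecial part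
  have hcen : (Subgroup.center ↥E).map E.subtype = zpowers zc := by
    have h1 : (commutator ↥E).map E.subtype ≤ zpowers zc := by
      rw [map_subtype_commutator, ← hJ']
      exact commutator_mono hEJ hEJ
    rw [hE.1.2.2] at h1
    refine eq_of_le_of_card_ge h1 ?_
    rw [card_map_of_injective E.subtype_injective, hE.2, Nat.card_zpowers, hzc2]
  set E' : Subgroup G := E.map (centralizer ({z} : Set G)).subtype with hE'
  let eE : ↥E ≃* ↥E' := equivMapOfInjective _ _ (centralizer ({z} : Set G)).subtype_injective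
  have hxs : XSub E' z := by
    refine ⟨Qd.isExtraspecial_congr eE.symm hE, ?_⟩
    have hcE : Subgroup.center ↥E' = (Subgroup.center ↥E).map eE.toMonoidHom := by
      ext x
      obtain ⟨y, rfl⟩ := eE.surjective x
      refine ⟨fun h => ⟨y, Subgroup.mem_center_iff.2 fun w => eE.injective ?_, rfl⟩, ?_⟩
      · rw [map_mul, map_mul]
        exact Subgroup.mem_center_iff.1 h (eE w)
      · rintro ⟨y', hy', e⟩
        rw [← e]
        refine Subgroup.mem_center_iff.2 fun w => ?_
        obtain ⟨w, rfl⟩ := eE.surjective w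
        show eE w * eE y' = eE y' * eE w
        rw [← map_mul, ← map_mul, Subgroup.mem_center_iff.1 hy' w]
    rw [hcE, map_map, show E'.subtype.comp eE.toMonoidHom = (centralizer ({z} : Set G)).subtype.comp E.subtype from
      MonoidHom.ext fun _ => rfl, ← map_map, hcen, MonoidHom.map_zpowers]
    exact congrArg zpowers hzc
  have hE'J : E' ≤ coreAt z := map_mono hEJ
  -- the involution
  obtain ⟨a0, ha0, hA2⟩ : ∃ a0 ∈ A, a0 ≠ 1 ∧ ∀ x ∈ A, x = 1 ∨ x = a0 := by
    haveI : Nontrivial ↥A := Finite.one_lt_card_iff_nontrivial.1 (by omega)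
    obtain ⟨a0, ha0⟩ := exists_ne (1 : ↥A)
    refine ⟨a0, a0.2, fun h => ha0 (Subtype.ext h), fun x hx => ?_⟩
    by_contra h
    push Not at h
    have h3 : ({1, a0, ⟨x, hx⟩} : Set ↥A).ncard ≤ 2 := hA ▸ Set.ncard_le_card _
    rw [Set.ncard_insert_of_notMem (by
      simp only [Set.mem_insert_iff, Set.mem_singleton_iff]
      exact fun e => e.elim (fun e => ha0 e.symm) fun e => h.1 (congrArg Subtype.val e).symm), Set.ncard_pair
      fun e => h.2 (congrArg Subtype.val e).symm] at h3
    omega
  obtain ⟨ha01, hA2⟩ := hA2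
  have ha0E : a0 ∉ E := fun h => ha01 (mem_bot.1 (hinf ▸ ⟨ha0, h⟩ : a0 ∈ (⊥ : Subgroup _)))
  set a : G := (a0 : G) with ha
  have haJ : a ∈ coreAt z := mem_coreAt_iff.2 (hAJ ha0)
  have ha2 : a * a = 1 := by
    rcases hA2 _ (mul_mem ha0 ha0) with e | e
    · exact congrArg Subtype.val e
    · exact absurd (mul_eq_left.1 e) ha01
  have ha1 : a ≠ 1 := fun e => ha01 (Subtype.ext e)
  have haE : a ∉ E' := fun ⟨y, hy, e⟩ => ha0E ((Subtype.ext e : y = a0) ▸ hy)
  have hazE : a * z ∉ E' := fun h => haE (by
    have := mul_mem h hxs.mem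
    rwa [mul_assoc, hxs.sq, mul_one] at this)
  have haE' : ∀ e ∈ E', Commute a e := by
    rintro _ ⟨e, he, rfl⟩
    exact congrArg Subtype.val (hcomm a0 ha0 e he)
  -- the core is the union of two cosets
  have hcov : ∀ b ∈ coreAt z, b ∈ E' ∨ a * b ∈ E' := by
    let L : Subgroup G :=
      { carrier := {b | Commute a b ∧ (b ∈ E' ∨ a * b ∈ E')}
        one_mem' := ⟨Commute.one_right a, Or.inl (one_mem _)⟩
        mul_mem' := fun {b c} hb hc => ⟨hb.1.mul_right hc.1, by
          rcases hb.2 with h | h <;> rcases hc.2 with h' | h'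
          · exact Or.inl (mul_mem h h')
          · right; rw [← mul_assoc, hb.1.eq, mul_assoc]; exact mul_mem h h'
          · right; rw [← mul_assoc]; exact mul_mem h h'
          · left
            have := mul_mem h h'
            rwa [hb.1.eq, mul_assoc, ← mul_assoc a a, ha2, one_mul] at this⟩
        inv_mem' := fun {b} hb => ⟨hb.1.inv_right, by
          rcases hb.2 with h | h
          · exact Or.inl (inv_mem h)
          · right
            have := inv_mem h
            rwa [mul_inv_rev, inv_eq_of_mul_eq_one_right ha2, hb.1.inv_right.eq.symm] at this⟩ }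
    have hle : A ⊔ E ≤ L.comap (centralizer ({z} : Set G)).subtype := by
      refine sup_le (fun x hx => ?_) fun x hx => ⟨haE' _ ⟨x, hx, rfl⟩, Or.inl ⟨x, hx, rfl⟩⟩
      rcases hA2 x hx with rfl | rfl
      · exact one_mem _
      · exact ⟨Commute.refl a, Or.inr (by show a * a ∈ E'; rw [ha2]; exact one_mem _)⟩
    rintro _ ⟨b, hb, rfl⟩
    exact (hle (hsup.symm ▸ hb)).2
  have hac : ∀ b ∈ coreAt z, Commute a b := fun b hb => by
    rcases hcov b hb with h | h
    · exact haE' b h
    · have := (Commute.refl a).inv_right.mul_right (haE' _ h)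
      rwa [inv_mul_cancel_left] at this
  refine ⟨a, E', ?_, hxs.xs, ?_, hE'J, haE, hazE⟩
  swap
  · rw [card_map_of_injective (centralizer ({z} : Set G)).subtype_injective, hEc]; norm_num
  exact
    { z2 := hxs.sq
      a2 := ha2
      z_ne := hxs.ne_one
      a_ne := ha1
      a_ne_z := fun e => haE (e ▸ hxs.mem)
      z_mem := hE'J hxs.mem
      a_mem := haJ
      a_central := hac
      center := fun b hb h => by
        rw [mem_Zc]
        rcases hcov b hb with h' | h'
        · rcases hxs.eq_of_central h' (fun r hr => (h r (hE'J hr)).eq) with e | e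
          exacts [Or.inl e, Or.inr (Or.inl e)]
        · rcases hxs.eq_of_central h' (fun r hr => ((haE' r hr).mul_left (h r (hE'J hr))).eq) with e | e
          · exact Or.inr (Or.inr (Or.inl (by
              rw [← one_mul b, ← ha2, mul_assoc, e, mul_one])))
          · exact Or.inr (Or.inr (Or.inr (by
              rw [← one_mul b, ← ha2, mul_assoc, e])))
      sq := fun b hb => by
        rcases hcov b hb with h | h
        · exact hxs.sq_cases h
        · have := hxs.sq_cases h
          rwa [(hac b hb).symm.mul_mul_mul_comm, ha2, one_mul] at this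
      comm := fun b hb c hc => by
        obtain ⟨b, hb', rfl⟩ := hb
        obtain ⟨c, hc', rfl⟩ := hc
        have hm : ⁅b, c⁆ ∈ zpowers zc := hJ' ▸ commutator_mem_commutator hb' hc'
        rcases zpowers_cases (show zc * zc = 1 by rw [← pow_two, ← hzc2, pow_orderOf_eq_one]) hm with e | e
        · exact Or.inl (congrArg Subtype.val e)
        · exact Or.inr ((congrArg Subtype.val e).trans hzc)
      card := by
        have hset : (coreAt z : Set G) = (E' : Set G) ∪ (fun g => a * g) '' (E' : Set G) := by
          ext b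
          refine ⟨fun hb => (hcov b hb).imp id fun h => ⟨_, h, ?_⟩, ?_⟩
          · show a * (a * b) = b
            rw [← mul_assoc, ha2, one_mul]
          · rintro (h | ⟨g, hg, rfl⟩)
            exacts [hE'J h, mul_mem haJ (hE'J hg)]
        rw [show Nat.card (coreAt z) = (coreAt z : Set G).ncard from Nat.card_coe_set_eq _, hset,
          Set.ncard_union_eq, Set.ncard_image_of_injective _ (mul_right_injective a), ← Nat.card_coe_set_eq]
        · rw [SetLike.coe_sort_coe, card_map_of_injective (centralizer ({z} : Set G)).subtype_injective, hEc]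
          norm_num
        · rw [Set.disjoint_left]
          rintro _ hg ⟨g', hg', rfl⟩
          exact haE ((E'.mul_mem_cancel_right hg').1 hg)
      self := fun c hc h => by
        refine mem_coreAt_iff (x := ⟨c, mem_centralizer_one.2 hc.eq.symm⟩).2 (hCJ (mem_centralizer_iff.2 ?_))
        exact fun q hq => Subtype.ext (h q ⟨q, hq, rfl⟩).eq.symm }

end Cfsg.Agent.Fi22Two
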