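import Cfsg.Agent.Lib.Fi22Two.Quot
import Cfsg.Agent.Lib.Fi22Two.Small
import Cfsg.Agent.Lib.U43T.General4
import Cfsg.Agent.Lib.McLTwoA8.Isolated
import Mathlib.GroupTheory.SchurZassenhaus

/-!
Factorisations modulo `a` lift; with a conjugate of `z` commuting with `z` the odd core is trivial.
-/

set_option autoImplicit false
set_option linter.style.haveILetI false
set_option linter.unusedSectionVars false

namespace Cfsg.Agent.Fi22Two

open Subgroup LargeExtra
open scoped commutatorElement Pointwise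

universe u

variable {G : Type u} [Group G] [Finite G] {z a : G}

namespace Core

variable (K : Core z a) [((zpowers a).subgroupOf (centralizer ({a} : Set G))).Normal]

/-- A factorisation modulo `a` gives a small centraliser. -/
theorem small_of_sup (h : centralizer ({K.proj z} : Set (Quo a)) ⊔ Cfsg.oddCore (Quo a) = ⊤) : Small z a := by
  classical
  set O := Cfsg.oddCore (Quo a) with hO
  haveI hOn : O.Normal := Cfsg.Agent.FittingCores.pPrimeCore_normal 2
  have hOodd : Odd (Nat.card O) :=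
    Nat.coprime_two_right.1 (Cfsg.Agent.FittingCores.pPrimeCore_coprime (G := Quo a) 2)
  set P := K.pre O with hP
  have hPa : ∀ g ∈ P, Commute a g := fun g hg => hg.1
  have haP : a ∈ P := ⟨Commute.refl a, by
    rw [(K.proj_iff (Commute.refl a) (Commute.one_right a)).2 (Or.inr K.a2.symm), K.proj_one]
    exact one_mem O⟩
  let ψ : ↥P →* ↥O := MonoidHom.mk' (fun g => ⟨K.proj g, g.2.2⟩) fun g h => Subtype.ext (K.proj_mul g.2.1 h.2.1)
  have hψs : Function.Surjective ψ := fun x => by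
    obtain ⟨g, hg, e⟩ := K.proj_surj x
    exact ⟨⟨g, hg, e ▸ x.2⟩, Subtype.ext e⟩
  have hker : ∀ g : ↥P, g ∈ ψ.ker ↔ (g : G) = 1 ∨ (g : G) = a := fun g => by
    rw [MonoidHom.mem_ker, Subtype.ext_iff]
    show K.proj g = ((1 : ↥O) : Quo a) ↔ _
    rw [OneMemClass.coe_one, ← K.proj_one, eq_comm, K.proj_iff (Commute.one_right a) g.2.1, one_mul]
  have hk2 : Nat.card ψ.ker = 2 := by
    rw [show Nat.card ψ.ker = (ψ.ker : Set ↥P).ncard from Nat.card_coe_set_eq _]
    rw [show (ψ.ker : Set ↥P) = {1, ⟨a, haP⟩} by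
      ext g
      rw [SetLike.mem_coe, hker]
      simp only [Set.mem_insert_iff, Set.mem_singleton_iff, Subtype.ext_iff, OneMemClass.coe_one]]
    exact Set.ncard_pair fun e => K.a_ne (congrArg Subtype.val e).symm
  have hidx : ψ.ker.index = Nat.card O := by
    rw [index_ker, MonoidHom.range_eq_top.2 hψs, card_top]
  obtain ⟨L, hL⟩ := exists_right_complement'_of_coprime (N := ψ.ker)
    (by rw [hk2, hidx]; exact Nat.coprime_two_left.2 hOodd)
  have hLc : Nat.card L = Nat.card O := by rw [← hidx]; exact (hL.symm.index_eq_card).symm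
  have hmul : ∀ g : ↥P, ∃ k ∈ ψ.ker, ∃ l ∈ L, g = k * l := fun g => by
    have hg : g ∈ (ψ.ker : Set ↥P) * (L : Set ↥P) := by rw [hL.mul_eq]; exact Set.mem_univ g
    obtain ⟨k, hk, l, hl, e⟩ := hg
    exact ⟨k, hk, l, hl, e.symm⟩
  -- the complement consists of the elements of odd order
  have hodd : ∀ g : ↥P, g ^ Nat.card L = 1 → g ∈ L := by
    intro g hg
    obtain ⟨k, hk, l, hl, rfl⟩ := hmul g
    have hkc : Commute k l := by
      refine Subtype.ext ?_
      show (k : G) * (l : G) = (l : G) * k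
      rcases (hker k).1 hk with e | e <;> rw [e]
      · rw [one_mul, mul_one]
      · exact l.2.1.eq
    rw [hkc.mul_pow, show l ^ Nat.card L = 1 from congrArg Subtype.val (pow_card_eq_one' (x := (⟨l, hl⟩ : ↥L))),
      mul_one] at hg
    have hk1 : k = 1 := by
      rw [← orderOf_eq_one_iff]
      exact Nat.eq_one_of_dvd_coprimes (Nat.coprime_two_left.2 (hLc ▸ hOodd))
        (hk2 ▸ orderOf_dvd_natCard ψ.ker hk) (orderOf_dvd_of_pow_eq_one hg)
    rw [hk1, one_mul]
    exact hl
  refine ⟨L.map P.subtype, by rwa [card_map_of_injective P.subtype_injective, hLc], ?_, ?_, ?_⟩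
  · rintro _ ⟨g, -, rfl⟩
    exact g.2.1
  · rintro c hc _ ⟨g, hg, rfl⟩
    have hcg : c * (g : G) * c⁻¹ ∈ P := by
      refine ⟨(hc.mul_right g.2.1).mul_right hc.inv_right, ?_⟩
      rw [K.proj_mul (hc.mul_right g.2.1) hc.inv_right, K.proj_mul hc g.2.1, K.proj_inv hc]
      exact hOn.conj_mem _ g.2.2 _
    refine ⟨⟨_, hcg⟩, hodd _ (Subtype.ext ?_), rfl⟩
    rw [SubmonoidClass.coe_pow, OneMemClass.coe_one, conj_pow]
    show c * (g : G) ^ Nat.card L * c⁻¹ = 1
    rw [show (g : G) ^ Nat.card L = 1 from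
      congrArg (fun x : ↥L => ((x : ↥P) : G)) (pow_card_eq_one' (x := (⟨g, hg⟩ : ↥L)))]
    group
  · intro c hc
    have hx : K.proj c ∈ centralizer ({K.proj z} : Set (Quo a)) ⊔ O := h.symm ▸ mem_top _
    obtain ⟨x, hx, y, hy, e⟩ := mem_sup_of_normal_right.1 hx
    obtain ⟨g, hg, rfl⟩ := K.proj_surj x
    obtain ⟨p, hp, rfl⟩ := K.proj_surj y
    have hzg : Commute z g := (K.proj_comm hg).1 (mem_centralizer_one.1 hx).symm
    obtain ⟨k, hk, l, hl, e'⟩ := hmul ⟨p, hp, hy⟩
    have hkZ : Commute z (k : G) := by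
      rcases (hker k).1 hk with h' | h' <;> rw [h']
      exacts [Commute.one_right z, K.za]
    have ep : p = (k : G) * (l : G) := congrArg Subtype.val e'
    rw [← K.proj_mul hg hp] at e
    rcases (K.proj_iff (hg.mul_right hp) hc).1 e with e2 | e2
    · exact ⟨g * k, hzg.mul_right hkZ, l, ⟨l, hl, rfl⟩, by rw [e2, ep]; group⟩
    · refine ⟨g * k * a, (hzg.mul_right hkZ).mul_right K.za, l, ⟨l, hl, rfl⟩, ?_⟩
      rw [e2, ep, mul_assoc (g * (k : G)) a, l.2.1.eq]
      group

/-- An isolated image gives a small centraliser. -/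
theorem small_of_isolated (h : Cfsg.IsIsolated (K.proj z)) : Small z a :=
  K.small_of_sup (McLTwoA8.sup_oddCore_of_isolated _ K.order_proj h)

end Core

namespace Two

variable {d : G} (T : Two z d)

include T

/-- A normal subgroup of odd order is trivial if `z` commutes with a second conjugate of itself. -/
theorem odd_normal_bot (hiso : ¬ Cfsg.IsIsolated z) {N : Subgroup G} [hN : N.Normal] (hodd : Odd (Nat.card N)) :
    N = ⊥ := by
  obtain ⟨g, hg, hne⟩ : ∃ g, Commute z (g * z * g⁻¹) ∧ g * z * g⁻¹ ≠ z := by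
    simpa [Cfsg.IsIsolated] using hiso
  have hcop : ∀ {x : G}, x ∈ N → x ∈ coreAt z → x = 1 := fun {x} hx hx' => by
    obtain ⟨m, hm⟩ := coreAt_isPGroup z ⟨x, hx'⟩
    have hm' := congrArg Subtype.val hm
    rw [SubmonoidClass.coe_pow, OneMemClass.coe_one] at hm'
    exact orderOf_eq_one_iff.1 (Nat.eq_one_of_dvd_coprimes ((Nat.coprime_two_right.2 hodd).pow_right m)
      (orderOf_dvd_natCard N hx) (orderOf_dvd_of_pow_eq_one hm'))
  have hfree : ∀ x ∈ N, z * x * z⁻¹ = x → x = 1 := by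
    intro x hx hzx
    have hzx' : Commute z x := comm_of_conj hzx
    refine hcop hx (T.self x hzx' fun b hb => ?_)
    refine commutatorElement_eq_one_iff_commute.1 (hcop ?_ (T.bracket_mem hzx' hb))
    rw [commutatorElement_def, show x * b * x⁻¹ * b⁻¹ = x * (b * x⁻¹ * b⁻¹) by group]
    exact mul_mem hx (hN.conj_mem _ (inv_mem hx) b)
  obtain ⟨-, hinv⟩ := U43T.inverted_of_fixed_free T.z2 (fun x hx => hN.conj_mem x hx z) hfree
  -- the elements centralising `N`
  set y := g * z * g⁻¹ with hy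
  have hinvy : ∀ x ∈ N, y * x * y⁻¹ = x⁻¹ := fun x hx => by
    have := hinv _ (by simpa using hN.conj_mem x hx g⁻¹)
    calc y * x * y⁻¹ = g * (z * (g⁻¹ * x * g) * z⁻¹) * g⁻¹ := by rw [hy]; group
      _ = x⁻¹ := by rw [this]; group
  have hconjinv : ∀ (v : G), ∀ x ∈ N, v * y * v⁻¹ * x * (v * y * v⁻¹)⁻¹ = x⁻¹ := fun v x hx => by
    have := hinvy _ (by simpa using hN.conj_mem x hx v⁻¹)
    calc v * y * v⁻¹ * x * (v * y * v⁻¹)⁻¹ = v * (y * (v⁻¹ * x * v) * y⁻¹) * v⁻¹ := by group
      _ = x⁻¹ := by rw [this]; group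
  have hy2 : y * y = 1 := by rw [hy, show g * z * g⁻¹ * (g * z * g⁻¹) = g * (z * z) * g⁻¹ by group, T.z2]; group
  have hzN : ∀ x ∈ N, Commute z x := by
    have two : ∀ (v w : G), ∀ x ∈ N, Commute (v * y * v⁻¹ * (w * y * w⁻¹)) x := fun v w x hx => by
      refine comm_of_conj ?_
      rw [show v * y * v⁻¹ * (w * y * w⁻¹) * x * (v * y * v⁻¹ * (w * y * w⁻¹))⁻¹ =
        v * y * v⁻¹ * (w * y * w⁻¹ * x * (w * y * w⁻¹)⁻¹) * (v * y * v⁻¹)⁻¹ by group, hconjinv w x hx,
        hconjinv v _ (inv_mem hx), inv_inv]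
    by_cases hyJ : y ∈ coreAt z
    · obtain ⟨v, hv, hvy⟩ : ∃ v ∈ coreAt z, ¬ Commute v y := by
        by_contra h
        push Not at h
        rcases mem_Zc.1 (T.center y hyJ fun b hb => (h b hb).symm) with e | e | e | e
        exacts [T.z_ne (by rw [hy, conj_eq_one_iff] at e; exact e), hne e, (T.class_ne g).1 e, (T.class_ne g).2 e]
      have e1 : v * y * v⁻¹ = y * z := (T.conj_cases hv hyJ).resolve_left fun e => hvy (comm_of_conj e)
      intro x hx
      have := two 1 v x hx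
      rwa [one_mul, inv_one, mul_one, e1, ← mul_assoc, hy2, one_mul] at this
    · obtain ⟨v, hv, hm⟩ : ∃ v ∈ coreAt z, ⁅y, v⁆ ∉ Zc z d := by
        by_contra h
        push Not at h
        exact hyJ (T.faithful hg h)
      have hmJ := T.bracket_mem hg hv
      obtain ⟨w, hw, hwm⟩ : ∃ w ∈ coreAt z, ¬ Commute w ⁅y, v⁆ := by
        by_contra h
        push Not at h
        exact hm (T.center _ hmJ fun b hb => (h b hb).symm)
      have e1 : w * ⁅y, v⁆ * w⁻¹ = ⁅y, v⁆ * z := (T.conj_cases hw hmJ).resolve_left fun e => hwm (comm_of_conj e)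
      intro x hx
      have hyv : ⁅y, v⁆ = 1 * y * 1⁻¹ * (v * y * v⁻¹) := by
        rw [commutatorElement_def, inv_eq_of_mul_eq_one_right hy2]; group
      have h1 : Commute ⁅y, v⁆ x := hyv ▸ two 1 v x hx
      have h2 : Commute (w * ⁅y, v⁆ * w⁻¹) x := by
        rw [show w * ⁅y, v⁆ * w⁻¹ = (w * 1) * y * (w * 1)⁻¹ * (w * v * y * (w * v)⁻¹) by rw [hyv]; group]
        exact two _ _ x hx
      rw [e1] at h2
      have := h1.inv_left.mul_left h2
      rwa [inv_mul_cancel_left] at this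
  exact (eq_bot_iff_forall _).2 fun x hx => hfree x hx (conj_of_comm (hzN x hx))

end Two

end Cfsg.Agent.Fi22Two
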