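import Cfsg.Agent.Lib.Fi22Two.Frame
import Mathlib.GroupTheory.Nilpotent

/-!
The hypotheses at a pair `z`, `a`: `z` is not conjugate to `a`, and the centraliser of `a` has a Sylow
2-subgroup commuting with `z`.
-/

set_option autoImplicit false
set_option linter.style.haveILetI false
set_option linter.unusedSectionVars false

namespace Cfsg.Agent.Fi22Two

open Subgroup LargeExtra
open scoped commutatorElement

variable {G : Type*} [Group G] [Finite G]

/-- The hypotheses on the 2-core of the centraliser of `z`. -/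
structure Core (z a : G) : Prop where
  z2 : z * z = 1
  a2 : a * a = 1
  z_ne : z ≠ 1
  a_ne : a ≠ 1
  a_ne_z : a ≠ z
  z_mem : z ∈ coreAt z
  a_mem : a ∈ coreAt z
  a_central : ∀ b ∈ coreAt z, Commute a b
  center : ∀ b ∈ coreAt z, (∀ c ∈ coreAt z, Commute b c) → b ∈ Zc z a
  sq : ∀ b ∈ coreAt z, b * b = 1 ∨ b * b = z
  comm : ∀ b ∈ coreAt z, ∀ c ∈ coreAt z, ⁅b, c⁆ = 1 ∨ ⁅b, c⁆ = z
  card : Nat.card (coreAt z) = 1024
  self : ∀ c, Commute z c → (∀ b ∈ coreAt z, Commute c b) → c ∈ coreAt z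

namespace Core

variable {z a : G} (K : Core z a)

include K

theorem za : Commute z a := (mem_centralizer_one.1 (coreAt_le z K.a_mem)).symm

theorem az2 : a * z * (a * z) = 1 := by rw [K.za.mul_mul_mul_comm, K.a2, K.z2, one_mul]

/-- The same with the other involution of the centre. -/
theorem other : Core z (a * z) where
  z2 := K.z2
  a2 := K.az2
  z_ne := K.z_ne
  a_ne := fun h => K.a_ne_z (by
    rw [mul_eq_one_iff_eq_inv, inv_eq_of_mul_eq_one_right K.z2] at h; exact h)
  a_ne_z := fun h => K.a_ne (mul_eq_right.1 h)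
  z_mem := K.z_mem
  a_mem := mul_mem K.a_mem K.z_mem
  a_central := fun b hb => (K.a_central b hb).mul_left (mem_centralizer_one.1 (coreAt_le z hb)).symm
  center := fun b hb h => by
    have := K.center b hb h
    rw [mem_Zc] at this ⊢
    rw [mul_assoc, K.z2, mul_one]
    tauto
  sq := K.sq
  comm := K.comm
  card := K.card
  self := K.self

/-- An element of the centraliser of `z` fixes `a` or moves it to `a * z`. -/
theorem swap {h : G} (hh : Commute z h) : h * a * h⁻¹ = a ∨ h * a * h⁻¹ = a * z := by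
  have hz : h * z * h⁻¹ = z := conj_of_comm hh.symm
  have hback : ∀ {k c : G}, Commute z k → c ∈ coreAt z → k * c * k⁻¹ ∈ coreAt z := fun hk hc =>
    LargeExtra.conj_mem (coreAt_normal z (mem_centralizer_one.2 hk.eq.symm)) hc
  have hmem : h * a * h⁻¹ ∈ Zc z a := by
    refine K.center _ (hback hh K.a_mem) fun c hc => ?_
    have hc' := hback hh.inv_right hc
    rw [inv_inv] at hc'
    have := (K.a_central _ hc').map (MulAut.conj h)
    simpa [mul_assoc] using this
  rcases mem_Zc.1 hmem with e | e | e | e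
  · exact absurd (conj_eq_one_iff.1 e) K.a_ne
  · refine absurd ?_ K.a_ne_z
    rw [← hz] at e
    exact mul_left_cancel (mul_right_cancel e)
  · exact Or.inl e
  · exact Or.inr e

/-- The elements commuting with `z` and `a`. -/
def pair (_K : Core z a) : Subgroup G := centralizer ({z} : Set G) ⊓ centralizer ({a} : Set G)

theorem mem_pair {g : G} : g ∈ K.pair ↔ Commute z g ∧ Commute a g := by
  rw [pair, mem_inf, mem_centralizer_one, mem_centralizer_one]
  exact ⟨fun h => ⟨h.1.symm, h.2.symm⟩, fun h => ⟨h.1.eq.symm, h.2.eq.symm⟩⟩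

theorem core_le_pair : coreAt z ≤ K.pair := fun b hb =>
  K.mem_pair.2 ⟨(mem_centralizer_one.1 (coreAt_le z hb)).symm, K.a_central b hb⟩

theorem pair_card : Nat.card ↥(centralizer ({z} : Set G)) ≤ 2 * Nat.card K.pair := by
  by_cases hall : ∀ h, Commute z h → Commute a h
  · have : K.pair = centralizer ({z} : Set G) := le_antisymm inf_le_left fun h hh =>
      K.mem_pair.2 ⟨(mem_centralizer_one.1 hh).symm, hall h (mem_centralizer_one.1 hh).symm⟩
    rw [this]; omega
  push Not at hall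
  obtain ⟨t, ht, hta⟩ := hall
  have ht' : t * a * t⁻¹ = a * z := (K.swap ht).resolve_left fun e => hta (comm_of_conj e).symm
  have hsub : (centralizer ({z} : Set G) : Set G) ⊆ (K.pair : Set G) ∪ (fun x => t * x) '' (K.pair : Set G) := by
    intro h hh
    have hzh : Commute z h := (mem_centralizer_one.1 hh).symm
    rcases K.swap hzh with e | e
    · exact Or.inl (K.mem_pair.2 ⟨hzh, (comm_of_conj e).symm⟩)
    · refine Or.inr ⟨t⁻¹ * h, K.mem_pair.2 ⟨ht.inv_right.mul_right hzh, (comm_of_conj ?_).symm⟩, by group⟩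
      rw [show t⁻¹ * h * a * (t⁻¹ * h)⁻¹ = t⁻¹ * (h * a * h⁻¹) * t by group, e, ← ht']
      group
  have := (Set.ncard_le_ncard hsub (Set.toFinite _)).trans (Set.ncard_union_le _ _)
  rw [Set.ncard_image_of_injective _ (mul_right_injective t), ← Nat.card_coe_set_eq, ← Nat.card_coe_set_eq] at this
  simp only [SetLike.coe_sort_coe] at this
  omega

/-- A normal 2-subgroup of the pair stabiliser lies in the core. -/
theorem core_pair {N : Subgroup G} (hN2 : IsPGroup 2 N) (hNle : N ≤ K.pair)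
    (hNn : ∀ h ∈ K.pair, ∀ n ∈ N, h * n * h⁻¹ ∈ N) : N ≤ coreAt z := by
  haveI : Fact (Nat.Prime 2) := ⟨Nat.prime_two⟩
  set M : Subgroup ↥K.pair := Cfsg.pCore 2 ↥K.pair with hM
  have hM2 : IsPGroup 2 (M.map K.pair.subtype) := (FiniteGroup.pCore_isPGroup 2).map _
  have hNM : N ≤ M.map K.pair.subtype := by
    intro n hn
    refine ⟨⟨n, hNle hn⟩, le_sSup (show N.subgroupOf K.pair ∈ {L : Subgroup ↥K.pair | L.Normal ∧ IsPGroup 2 L} from
      ⟨⟨fun b hb c => mem_subgroupOf.2 (hNn c c.2 b (mem_subgroupOf.1 hb))⟩,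
        hN2.of_equiv (subgroupOfEquivOfLe hNle).symm⟩) (mem_subgroupOf.2 hn), rfl⟩
  have hstab : ∀ h, Commute z h → ∀ k ∈ K.pair, h * k * h⁻¹ ∈ K.pair := fun h hh k hk => by
    obtain ⟨hk1, hk2⟩ := K.mem_pair.1 hk
    have hz' : Commute z (h * k * h⁻¹) := (hh.mul_right hk1).mul_right hh.inv_right
    refine K.mem_pair.2 ⟨hz', ?_⟩
    rcases K.swap hh with e | e
    · have := conj_comm (g := h) hk2
      rwa [e] at this
    · have := conj_comm (g := h) hk2
      rw [e] at this
      have h5 := this.mul_left hz'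
      rwa [mul_assoc, K.z2, mul_one] at h5
  have hMn : centralizer ({z} : Set G) ≤ normalizer (M.map K.pair.subtype : Set G) := by
    intro h hh
    have key : ∀ k, Commute z k → ∀ m ∈ M.map K.pair.subtype, k * m * k⁻¹ ∈ M.map K.pair.subtype := by
      rintro k hk _ ⟨m, hm, rfl⟩
      let f : ↥K.pair →* ↥K.pair :=
        { toFun := fun b => ⟨k * b * k⁻¹, hstab k hk b b.2⟩
          map_one' := Subtype.ext (show k * 1 * k⁻¹ = 1 by group)
          map_mul' := fun b c => Subtype.ext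
            (show k * ((b : G) * c) * k⁻¹ = k * b * k⁻¹ * (k * c * k⁻¹) by group) }
      have hf : M.map f ≤ M := le_sSup (⟨Subgroup.Normal.map (FiniteGroup.pCore_normal 2) f (fun b =>
          ⟨⟨k⁻¹ * b * k⁻¹⁻¹, hstab k⁻¹ hk.inv_right b b.2⟩, Subtype.ext (show k * (k⁻¹ * (b : G) * k⁻¹⁻¹) * k⁻¹ = b by
            group)⟩), (FiniteGroup.pCore_isPGroup 2).map f⟩ :
        M.map f ∈ {L : Subgroup ↥K.pair | L.Normal ∧ IsPGroup 2 L})
      exact ⟨f m, hf ⟨m, hm, rfl⟩, rfl⟩
    have hh' : Commute z h := (mem_centralizer_one.1 hh).symm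
    refine mem_normalizer_iff.2 fun b => ⟨key h hh' b, fun hb => ?_⟩
    have := key h⁻¹ hh'.inv_right _ hb
    rwa [show h⁻¹ * (h * b * h⁻¹) * h⁻¹⁻¹ = b by group] at this
  intro n hn
  exact le_coreAt hM2 ((map_subtype_le _).trans inf_le_left) hMn (hNM hn)

/-- `z` is not conjugate to `a`. -/
theorem not_conj (g : G) : g * z * g⁻¹ ≠ a := by
  intro hga
  set C := centralizer ({a} : Set G) with hC
  have hle : K.pair ≤ C := inf_le_right
  have hcard : Nat.card C = Nat.card ↥(centralizer ({z} : Set G)) := by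
    have hmap : (centralizer ({z} : Set G)).map (MulAut.conj g).toMonoidHom = C := by
      ext b
      rw [hC, mem_conjMap, mem_centralizer_one, mem_centralizer_one, ← hga]
      constructor
      · intro hb
        calc b * (g * z * g⁻¹) = g * (g⁻¹ * b * g * z) * g⁻¹ := by group
          _ = g * (z * (g⁻¹ * b * g)) * g⁻¹ := by rw [hb]
          _ = g * z * g⁻¹ * b := by group
      · intro hb
        calc g⁻¹ * b * g * z = g⁻¹ * (b * (g * z * g⁻¹)) * g := by group
          _ = g⁻¹ * (g * z * g⁻¹ * b) * g := by rw [hb]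
          _ = z * (g⁻¹ * b * g) := by group
    rw [← hmap, card_map_of_injective (f := (MulAut.conj g).toMonoidHom) (MulAut.conj g).injective]
  haveI hnorm : (K.pair.subgroupOf C).Normal := by
    have h1 := (K.pair.subgroupOf C).card_mul_index
    rw [Nat.card_congr (subgroupOfEquivOfLe hle).toEquiv, hcard] at h1
    have hpos : 0 < Nat.card K.pair := Nat.card_pos
    have h2 := K.pair_card
    have h3 : (K.pair.subgroupOf C).index ≤ 2 := by nlinarith
    have h4 : (K.pair.subgroupOf C).index ≠ 0 := index_ne_zero_of_finite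
    rcases (show (K.pair.subgroupOf C).index = 1 ∨ (K.pair.subgroupOf C).index = 2 by omega) with h | h
    · rw [index_eq_one] at h; rw [h]; infer_instance
    · exact normal_of_index_eq_two h
  -- every conjugate of the core under the centraliser of `a` is the core
  have hconj : ∀ x, Commute a x → ∀ b ∈ coreAt z, x * b * x⁻¹ ∈ coreAt z := by
    intro x hx
    set N := (coreAt z).map (MulAut.conj x).toMonoidHom with hN
    have hN2 : IsPGroup 2 N := (coreAt_isPGroup z).map _
    have hpairC : ∀ y, Commute a y → ∀ h ∈ K.pair, y * h * y⁻¹ ∈ K.pair := fun y hy h hh => by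
      have := hnorm.conj_mem ⟨h, hle hh⟩ (mem_subgroupOf.2 hh) ⟨y, mem_centralizer_one.2 hy.eq.symm⟩
      exact mem_subgroupOf.1 this
    have hNle : N ≤ K.pair := by
      rintro _ ⟨b, hb, rfl⟩
      exact hpairC x hx b (K.core_le_pair hb)
    have hNn : ∀ h ∈ K.pair, ∀ n ∈ N, h * n * h⁻¹ ∈ N := by
      rintro h hh _ ⟨b, hb, rfl⟩
      have h' := hpairC x⁻¹ hx.inv_right h hh
      refine ⟨(x⁻¹ * h * x⁻¹⁻¹) * b * (x⁻¹ * h * x⁻¹⁻¹)⁻¹, LargeExtra.conj_mem (coreAt_normal z
        (mem_centralizer_one.2 (K.mem_pair.1 h').1.eq.symm)) hb, ?_⟩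
      show x * (x⁻¹ * h * x⁻¹⁻¹ * b * (x⁻¹ * h * x⁻¹⁻¹)⁻¹) * x⁻¹ = h * (x * b * x⁻¹) * h⁻¹
      group
    -- the largest normal 2-subgroup of the pair stabiliser is normal in the centraliser of `z`
    intro b hb
    exact K.core_pair hN2 hNle hNn ⟨b, hb, rfl⟩
  have hJa : coreAt z = coreAt a := by
    refine eq_of_le_of_card_ge (le_coreAt (coreAt_isPGroup z) (fun b hb => ?_) fun x hx => ?_) ?_
    · exact mem_centralizer_one.2 (K.a_central b hb).eq.symm
    · have hx' : Commute a x := (mem_centralizer_one.1 hx).symm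
      refine mem_normalizer_iff.2 fun b => ⟨hconj x hx' b, fun hb => ?_⟩
      have := hconj x⁻¹ hx'.inv_right _ hb
      rwa [show x⁻¹ * (x * b * x⁻¹) * x⁻¹⁻¹ = b by group] at this
    · rw [← hga, coreAt_conj, card_map_of_injective (f := (MulAut.conj g).toMonoidHom) (MulAut.conj g).injective]
  -- two elements of the core which do not commute
  obtain ⟨b, hb, c, hc, hbc⟩ : ∃ b ∈ coreAt z, ∃ c ∈ coreAt z, ¬ Commute b c := by
    by_contra h
    push Not at h
    have h1 := Set.ncard_le_ncard (s := (coreAt z : Set G)) (t := Zc z a) (fun b hb => K.center b hb (h b hb))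
      (Set.toFinite _)
    have h2 : (Zc z a).ncard ≤ 4 := by
      refine (Set.ncard_insert_le _ _).trans (Nat.succ_le_succ ?_)
      refine (Set.ncard_insert_le _ _).trans (Nat.succ_le_succ ?_)
      refine (Set.ncard_insert_le _ _).trans ?_
      rw [Set.ncard_singleton]
    have h3 : (coreAt z : Set G).ncard = 1024 := by rw [← Nat.card_coe_set_eq]; exact K.card
    omega
  have hzbc : ⁅b, c⁆ = z := (K.comm b hb c hc).resolve_left fun e => hbc (commutatorElement_eq_one_iff_commute.1 e)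
  have hmem : ∀ {e : G}, e ∈ coreAt z → g * e * g⁻¹ ∈ coreAt z := fun {e} he => by
    rw [hJa, ← hga, coreAt_conj]
    exact ⟨e, he, rfl⟩
  have := K.comm _ (hmem hb) _ (hmem hc)
  rw [show ⁅g * b * g⁻¹, g * c * g⁻¹⁆ = g * ⁅b, c⁆ * g⁻¹ by simp [commutatorElement_def, mul_assoc], hzbc,
    hga] at this
  rcases this with e | e
  exacts [K.a_ne e, K.a_ne_z e]

theorem class_ne (g : G) : g * z * g⁻¹ ≠ a ∧ g * z * g⁻¹ ≠ a * z := ⟨K.not_conj g, K.other.not_conj g⟩

/-- A conjugate of `z` centralising the core is `z`. -/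
theorem fixed_of_comm {x : G} (hz : Commute z (x * z * x⁻¹)) (h : ∀ b ∈ coreAt z, Commute (x * z * x⁻¹) b) :
    x * z * x⁻¹ = z := by
  have hJ := K.self _ hz h
  rcases mem_Zc.1 (K.center _ hJ h) with e | e | e | e
  · exact absurd (conj_eq_one_iff.1 e) K.z_ne
  · exact e
  · exact absurd e (K.class_ne x).1
  · exact absurd e (K.class_ne x).2

/-- A 2-subgroup of the pair stabiliser which is a Sylow subgroup of the centraliser of `a`. -/
theorem exists_sylow : ∃ S : Subgroup G, IsPGroup 2 S ∧ S ≤ K.pair ∧ coreAt z ≤ S ∧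
    ∀ P : Subgroup G, IsPGroup 2 P → (∀ b ∈ P, Commute a b) → ∃ c, Commute a c ∧ ∀ b ∈ P, c * b * c⁻¹ ∈ S := by
  classical
  haveI : Fact (Nat.Prime 2) := ⟨Nat.prime_two⟩
  obtain ⟨S0, hS0⟩ := ((coreAt_isPGroup z).of_equiv (subgroupOfEquivOfLe K.core_le_pair).symm).exists_le_sylow
  set S := (S0 : Subgroup ↥K.pair).map K.pair.subtype with hS
  have hSle : S ≤ K.pair := map_subtype_le _
  have hJS : coreAt z ≤ S := fun b hb => ⟨⟨b, K.core_le_pair hb⟩, hS0 (mem_subgroupOf.2 hb), rfl⟩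
  have hS2 : IsPGroup 2 S := S0.2.map _
  refine ⟨S, hS2, hSle, hJS, ?_⟩
  set C := centralizer ({a} : Set G) with hC
  have hSC : S ≤ C := hSle.trans inf_le_right
  obtain ⟨P0, hP0⟩ := (hS2.of_equiv (subgroupOfEquivOfLe hSC).symm).exists_le_sylow
  have hPS : (P0 : Subgroup ↥C) = S.subgroupOf C := by
    refine le_antisymm ?_ hP0
    by_contra hne
    have hlt : (S.subgroupOf C).subgroupOf (P0 : Subgroup ↥C) < ⊤ := by
      refine lt_top_iff_ne_top.2 fun e => hne fun b hb => ?_
      exact mem_subgroupOf.1 (e ▸ mem_top (⟨b, hb⟩ : ↥(P0 : Subgroup ↥C)))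
    haveI : Group.IsNilpotent ↥(P0 : Subgroup ↥C) := P0.2.isNilpotent
    obtain ⟨x, hxn, hx⟩ := SetLike.exists_of_lt (normalizerCondition_of_isNilpotent _ hlt)
    set u : G := ((x : ↥C) : G) with hu
    have hua : Commute a u := (mem_centralizer_one.1 (x : ↥C).2).symm
    have hmemS : ∀ {b : G} (hb : b ∈ S), (⟨⟨b, hSC hb⟩, hP0 (mem_subgroupOf.2 hb)⟩ : ↥(P0 : Subgroup ↥C)) ∈
        (S.subgroupOf C).subgroupOf (P0 : Subgroup ↥C) := fun hb => mem_subgroupOf.2 (mem_subgroupOf.2 hb)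
    have hnormS : ∀ b ∈ S, u * b * u⁻¹ ∈ S := fun b hb => by
      have := (mem_normalizer_iff.1 hxn _).1 (hmemS hb)
      exact mem_subgroupOf.1 (mem_subgroupOf.1 this)
    have hnormS' : ∀ b ∈ S, u⁻¹ * b * u ∈ S := fun b hb => by
      have := (mem_normalizer_iff.1 (inv_mem hxn) _).1 (hmemS hb)
      have h' := mem_subgroupOf.1 (mem_subgroupOf.1 this)
      simpa using h'
    have hzz : u * z * u⁻¹ = z := by
      have hzS := hnormS z (hJS K.z_mem)
      have hc : ∀ b ∈ S, Commute (u * z * u⁻¹) b := fun b hb =>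
        comm_conj_fwd' (K.mem_pair.1 (hSle (hnormS' b hb))).1
      exact K.fixed_of_comm (K.mem_pair.1 (hSle hzS)).1 fun b hb => hc b (hJS hb)
    have hupair : u ∈ K.pair := K.mem_pair.2 ⟨(comm_of_conj hzz).symm, hua⟩
    -- a larger 2-subgroup of the pair stabiliser
    obtain ⟨L, hL⟩ : ∃ L : Subgroup ↥K.pair, L =
        ((P0 : Subgroup ↥C).map C.subtype).subgroupOf K.pair := ⟨_, rfl⟩
    have hL2 : IsPGroup 2 L := by
      rw [hL]
      exact ((P0.2.map C.subtype).to_le (inf_le_left : (P0 : Subgroup ↥C).map C.subtype ⊓ K.pair ≤ _)).of_equiv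
        (subgroupOfEquivOfLe inf_le_right).symm |>.map (MonoidHom.id _) |>.to_le (fun b hb =>
          ⟨b, mem_subgroupOf.2 ⟨mem_subgroupOf.1 hb, b.2⟩, rfl⟩)
    have hSL : (S0 : Subgroup ↥K.pair) ≤ L := fun b hb => by
      rw [hL]
      exact mem_subgroupOf.2 ⟨⟨b, hSC ⟨b, hb, rfl⟩⟩, hP0 (mem_subgroupOf.2 ⟨b, hb, rfl⟩), rfl⟩
    have huL : (⟨u, hupair⟩ : ↥K.pair) ∈ L := by
      rw [hL]
      exact mem_subgroupOf.2 ⟨x, x.2, rfl⟩
    rw [S0.3 hL2 hSL] at huL
    exact hx (mem_subgroupOf.2 (mem_subgroupOf.2 ⟨⟨u, hupair⟩, huL, rfl⟩))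
  intro P hP hcomm
  have hPC : P ≤ C := fun b hb => mem_centralizer_one.2 (hcomm b hb).eq.symm
  obtain ⟨Q, hQ⟩ := (hP.of_equiv (subgroupOfEquivOfLe hPC).symm).exists_le_sylow
  obtain ⟨c, hc⟩ := MulAction.exists_smul_eq ↥C Q P0
  refine ⟨c, (mem_centralizer_one.1 c.2).symm, fun b hb => ?_⟩
  have h1 : c * ⟨b, hPC hb⟩ * c⁻¹ ∈ (P0 : Subgroup ↥C) := by
    rw [← hc]
    exact ⟨⟨b, hPC hb⟩, hQ (mem_subgroupOf.2 hb), rfl⟩
  rw [hPS] at h1
  exact mem_subgroupOf.1 h1
where
  comm_conj_fwd' {g a b : G} (h : Commute a (g⁻¹ * b * g)) : Commute (g * a * g⁻¹) b := by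
    simpa [mul_assoc] using h.map (MulAut.conj g)

/-- The hypotheses of `Two`. -/
theorem two : Two z a where
  z2 := K.z2
  d2 := K.a2
  z_ne := K.z_ne
  d_ne := K.a_ne
  d_ne_z := K.a_ne_z
  z_mem := K.z_mem
  d_mem := K.a_mem
  d_central := K.a_central
  center := K.center
  sq := K.sq
  comm := K.comm
  card := K.card
  self := K.self
  swap := fun _ hh => K.swap hh
  class_ne := K.class_ne
  cover := fun P hP hcomm => by
    obtain ⟨S, -, hS, -, hcov⟩ := K.exists_sylow
    obtain ⟨c, hc, hcP⟩ := hcov P hP hcomm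
    exact ⟨c, hc, fun b hb => (K.mem_pair.1 (hS (hcP b hb))).1⟩

/-- Central in the centraliser of `z`, the two are not conjugate. -/
theorem ne_conj (hcen : ∀ h, Commute z h → Commute a h) (g : G) : g * (a * z) * g⁻¹ ≠ a := by
  intro hg
  obtain ⟨S, hS2, hSle, hJS, hcov⟩ := K.exists_sylow
  have hcomm : ∀ b ∈ S.map (MulAut.conj g).toMonoidHom, Commute a b := by
    rintro _ ⟨b, hb, rfl⟩
    obtain ⟨hbz, hba⟩ := K.mem_pair.1 (hSle hb)
    rw [← hg]
    exact conj_comm (hba.mul_left hbz)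
  obtain ⟨c, hc, hcP⟩ := hcov _ (hS2.map _) hcomm
  set k := c * g with hk
  have hkS : S.map (MulAut.conj k).toMonoidHom ≤ S := by
    rintro _ ⟨b, hb, rfl⟩
    have := hcP _ ⟨b, hb, rfl⟩
    show k * b * k⁻¹ ∈ S
    rw [hk, show c * g * b * (c * g)⁻¹ = c * (g * b * g⁻¹) * c⁻¹ by group]
    exact this
  have heq := Subgroup.eq_of_le_of_card_ge hkS
    (by rw [card_map_of_injective (f := (MulAut.conj k).toMonoidHom) (MulAut.conj k).injective])
  have hzk : k * z * k⁻¹ = z := by
    refine K.fixed_of_comm (K.mem_pair.1 (hSle (hkS ⟨z, hJS K.z_mem, rfl⟩))).1 fun b hb => ?_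
    have hb' : b ∈ S.map (MulAut.conj k).toMonoidHom := heq.symm ▸ hJS hb
    obtain ⟨b', hb', rfl⟩ := hb'
    exact conj_comm (K.mem_pair.1 (hSle hb')).1
  have hzk' : Commute z k := (comm_of_conj hzk).symm
  have hka : Commute (a * z) k := (hcen k hzk').mul_left hzk'
  have e : k * (a * z) * k⁻¹ = a := by
    rw [hk, show c * g * (a * z) * (c * g)⁻¹ = c * (g * (a * z) * g⁻¹) * c⁻¹ by group, hg, conj_of_comm hc.symm]
  rw [conj_of_comm hka.symm] at e
  exact K.z_ne (mul_eq_left.1 e)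

end Core

end Cfsg.Agent.Fi22Two
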